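import Groth.Prelude.Def_ArtFun2
import Groth.Prelude.Def_ArtFun3
import Mathlib.RingTheory.HopkinsLevitzki
import Mathlib.RingTheory.FiniteLength
import Mathlib.RingTheory.Length
import Mathlib.RingTheory.SimpleModule.Basic
import Mathlib.RingTheory.IntegralClosure.IsIntegralClosure.Basic
import Mathlib.RingTheory.Ideal.GoingUp
import Mathlib.RingTheory.Artinian.Module
import Mathlib.RingTheory.Nakayama

/-! Basic facts on the category `ArtFun.Art Λ k`. -/

universe u v

open CategoryTheory ArtFun ArtFun.Art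

namespace Groth.Agent.ArtFunLib

variable {Λ : Type u} {k : Type u} [CommRing Λ] [Field k] [Algebra Λ k]

theorem hom_apply_ext {A B : Art Λ k} {f g : A ⟶ B} (h : ∀ a, f a = g a) : f = g :=
  hom_ext (AlgHom.ext h)

theorem isUnit_iff_res_ne_zero (A : Art Λ k) (a : A) : IsUnit a ↔ A.res a ≠ 0 := by
  rw [Ne, ← mem_maximalIdeal_iff, IsLocalRing.mem_maximalIdeal, mem_nonunits_iff, not_not]

theorem isIso_of_bijective {A B : Art Λ k} (f : A ⟶ B) (hf : Function.Bijective f) : IsIso f := by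
  let e : A ≃ₐ[Λ] B := AlgEquiv.ofBijective f.toAlgHom hf
  refine ⟨⟨⟨e.symm.toAlgHom, AlgHom.ext fun b => ?_⟩, hom_apply_ext fun a => ?_,
    hom_apply_ext fun b => ?_⟩⟩
  · have h := res_app f (e.symm b)
    rw [show f (e.symm b) = b from e.apply_symm_apply b] at h
    exact h.symm
  · exact e.symm_apply_apply a
  · exact e.apply_symm_apply b

theorem bijective_of_isIso {A B : Art Λ k} (f : A ⟶ B) [IsIso f] : Function.Bijective f := by
  refine Function.bijective_iff_has_inverse.2 ⟨inv f, fun a => ?_, fun b => ?_⟩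
  · change (f ≫ inv f) a = a
    rw [IsIso.hom_inv_id]; rfl
  · change (inv f ≫ f) b = b
    rw [IsIso.inv_hom_id]; rfl

theorem comp_bijective {A B C : Art Λ k} {f : A ⟶ B} {g : B ⟶ C} (hf : Function.Bijective f)
    (hg : Function.Bijective g) : Function.Bijective (f ≫ g) := hg.comp hf

theorem surjective_comp {A B C : Art Λ k} {f : A ⟶ B} {g : B ⟶ C} (hf : Function.Surjective f)
    (hg : Function.Surjective g) : Function.Surjective (f ≫ g) := hg.comp hf

theorem surjective_of_comp {A B C : Art Λ k} {f : A ⟶ B} {g : B ⟶ C}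
    (h : Function.Surjective (f ≫ g)) : Function.Surjective g :=
  Function.Surjective.of_comp (g := f) h

theorem toBase_surjective (A : Art Λ k) : Function.Surjective (toBase A) := A.res_surjective

theorem mem_ker_iff {A B : Art Λ k} (f : A ⟶ B) (a : A) : a ∈ RingHom.ker f.toAlgHom ↔ f a = 0 :=
  RingHom.mem_ker

theorem ker_le_maximalIdeal {A B : Art Λ k} (f : A ⟶ B) :
    RingHom.ker f.toAlgHom ≤ IsLocalRing.maximalIdeal A := fun a ha => by
  rw [mem_maximalIdeal_iff, ← res_app f a, (mem_ker_iff f a).1 ha, map_zero]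

section Length

theorem isMaximal_ker_algebraMap [Module.Finite Λ k] :
    (RingHom.ker (algebraMap Λ k)).IsMaximal := by
  rw [show RingHom.ker (algebraMap Λ k) = (⊥ : Ideal k).comap (algebraMap Λ k) from rfl]
  exact Ideal.isMaximal_comap_of_isIntegral_of_isMaximal ⊥

theorem isArtinian_residueField [Module.Finite Λ k] : IsArtinian Λ k := by
  let P := RingHom.ker (algebraMap Λ k)
  have : P.IsMaximal := isMaximal_ker_algebraMap
  letI : Algebra (Λ ⧸ P) k := (Ideal.Quotient.lift P (algebraMap Λ k) fun _ h => h).toAlgebra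
  haveI : IsScalarTower Λ (Λ ⧸ P) k := IsScalarTower.of_algebraMap_eq fun _ => rfl
  haveI : Module.Finite (Λ ⧸ P) k := Module.Finite.of_restrictScalars_finite Λ _ _
  haveI : IsArtinianRing (Λ ⧸ P) := by
    letI := Ideal.Quotient.field P
    infer_instance
  haveI : IsArtinian (Λ ⧸ P) k := inferInstance
  exact isArtinian_of_surjective_algebraMap (R := Λ ⧸ P) (S := Λ) (M := k)
    Ideal.Quotient.mk_surjective

theorem isNoetherian_residueField [IsNoetherianRing Λ] [Module.Finite Λ k] : IsNoetherian Λ k :=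
  inferInstance

theorem isArtinian_noetherian_of_finiteLength [IsNoetherianRing Λ] [Module.Finite Λ k]
    (A : Type u) [CommRing A] [Algebra Λ A] [IsLocalRing A] (res : A →ₐ[Λ] k)
    (hres : Function.Surjective res) {M : Type v} [AddCommGroup M] [Module A M]
    (h : IsFiniteLength A M) :
    ∀ [Module Λ M] [IsScalarTower Λ A M], IsArtinian Λ M ∧ IsNoetherian Λ M := by
  have hk := isArtinian_residueField (Λ := Λ) (k := k)
  induction h with
  | of_subsingleton =>
    intro _ _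
    exact ⟨inferInstance, inferInstance⟩
  | @of_simple_quotient M _ _ N hs hN ih =>
    intro _ _
    obtain ⟨iha, ihn⟩ := ih
    obtain ⟨I, hI, ⟨e⟩⟩ := isSimpleModule_iff_quot_maximal.1 hs
    have hIm : I = IsLocalRing.maximalIdeal A := IsLocalRing.eq_maximalIdeal hI
    subst hIm
    have hker : RingHom.ker res = IsLocalRing.maximalIdeal A :=
      IsLocalRing.eq_maximalIdeal (RingHom.ker_isMaximal_of_surjective _ hres)
    let e2 : (A ⧸ IsLocalRing.maximalIdeal A) ≃ₗ[Λ] k :=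
      LinearEquiv.ofBijective (Ideal.Quotient.liftₐ (IsLocalRing.maximalIdeal A) res
        (fun a ha => by rwa [← hker] at ha)).toLinearMap
        ⟨(injective_iff_map_eq_zero _).2 fun x hx => by
          obtain ⟨a, rfl⟩ := Ideal.Quotient.mk_surjective x
          rw [Ideal.Quotient.eq_zero_iff_mem, ← hker]
          exact hx, fun c => by
          obtain ⟨a, ha⟩ := hres c
          exact ⟨Ideal.Quotient.mk _ a, ha⟩⟩
    let e3 : (M ⧸ N) ≃ₗ[Λ] k := (e.restrictScalars Λ).trans e2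
    haveI : IsArtinian Λ (M ⧸ N) := isArtinian_of_linearEquiv e3.symm
    haveI : IsNoetherian Λ (M ⧸ N) := isNoetherian_of_linearEquiv e3.symm
    haveI := iha
    haveI := ihn
    exact ⟨isArtinian_of_range_eq_ker (N.subtype.restrictScalars Λ) (N.mkQ.restrictScalars Λ)
        (by ext x; simp),
      isNoetherian_of_range_eq_ker (N.subtype.restrictScalars Λ) (N.mkQ.restrictScalars Λ)
        (by ext x; simp)⟩

theorem isArtinian_base [IsNoetherianRing Λ] [Module.Finite Λ k] (A : Art Λ k) : IsArtinian Λ A :=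
  (isArtinian_noetherian_of_finiteLength A A.res A.res_surjective
    (isFiniteLength_iff_isNoetherian_isArtinian.2 ⟨inferInstance, inferInstance⟩)).1

theorem isNoetherian_base [IsNoetherianRing Λ] [Module.Finite Λ k] (A : Art Λ k) : IsNoetherian Λ A :=
  (isArtinian_noetherian_of_finiteLength A A.res A.res_surjective
    (isFiniteLength_iff_isNoetherian_isArtinian.2 ⟨inferInstance, inferInstance⟩)).2

end Length

section SubObj

variable [IsNoetherianRing Λ] [Module.Finite Λ k]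

/-- The subalgebra of pairs agreeing in `A`. -/
def fibSub {A A₁ A₂ : Art Λ k} (f₁ : A₁ ⟶ A) (f₂ : A₂ ⟶ A) : Subalgebra Λ (A₁ × A₂) :=
  AlgHom.equalizer (f₁.toAlgHom.comp (AlgHom.fst Λ A₁ A₂)) (f₂.toAlgHom.comp (AlgHom.snd Λ A₁ A₂))

omit [IsNoetherianRing Λ] [Module.Finite Λ k] in
theorem mem_fibSub {A A₁ A₂ : Art Λ k} {f₁ : A₁ ⟶ A} {f₂ : A₂ ⟶ A} (x : A₁ × A₂) :
    x ∈ fibSub f₁ f₂ ↔ f₁ x.1 = f₂ x.2 := Iff.rfl

omit [IsNoetherianRing Λ] [Module.Finite Λ k] in
theorem res_fst_eq_res_snd {A A₁ A₂ : Art Λ k} {f₁ : A₁ ⟶ A} {f₂ : A₂ ⟶ A} {x : A₁ × A₂}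
    (h : x ∈ fibSub f₁ f₂) : A₁.res x.1 = A₂.res x.2 := by
  rw [← res_app f₁, ← res_app f₂, (mem_fibSub x).1 h]

omit [IsNoetherianRing Λ] [Module.Finite Λ k] in
theorem isUnit_fibSub {A A₁ A₂ : Art Λ k} {f₁ : A₁ ⟶ A} {f₂ : A₂ ⟶ A} (x : fibSub f₁ f₂)
    (h : A₁.res x.1.1 ≠ 0) : IsUnit x := by
  have h1 : IsUnit x.1.1 := (isUnit_iff_res_ne_zero _ _).2 h
  have h2 : IsUnit x.1.2 := (isUnit_iff_res_ne_zero _ _).2 (res_fst_eq_res_snd x.2 ▸ h)
  obtain ⟨w1, hw1⟩ := h1.exists_right_inv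
  obtain ⟨w2, hw2⟩ := h2.exists_right_inv
  refine .of_mul_eq_one ⟨(w1, w2), ?_⟩ (Subtype.ext (Prod.ext hw1 hw2))
  rw [mem_fibSub]
  refine (h1.map f₁.toAlgHom).mul_left_cancel ?_
  calc f₁ x.1.1 * f₁ w1 = 1 := by rw [← map_mul, hw1, map_one]
    _ = f₂ x.1.2 * f₂ w2 := by rw [← map_mul, hw2, map_one]
    _ = f₁ x.1.1 * f₂ w2 := by rw [(mem_fibSub x.1).1 x.2]

/-- The set-theoretic fibre product as an object, when its residue map is onto. -/
noncomputable def fib {A A₁ A₂ : Art Λ k} (f₁ : A₁ ⟶ A) (f₂ : A₂ ⟶ A)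
    (h : ∀ c : k, ∃ x : fibSub f₁ f₂, A₁.res x.1.1 = c) : Art Λ k :=
  haveI : Nontrivial (fibSub f₁ f₂) := ⟨0, 1, fun e =>
    zero_ne_one (α := A₁) (congrArg Prod.fst (congrArg Subtype.val e))⟩
  { carrier := fibSub f₁ f₂
    isLocalRing := IsLocalRing.of_isUnit_or_isUnit_one_sub_self fun x => by
      by_cases hx : A₁.res x.1.1 = 0
      · refine Or.inr (isUnit_fibSub _ ?_)
        change A₁.res (1 - x.1.1) ≠ 0
        rw [map_sub, map_one, hx, sub_zero]
        exact one_ne_zero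
      · exact Or.inl (isUnit_fibSub _ hx)
    isArtinianRing :=
      haveI := isArtinian_base A₁
      haveI := isArtinian_base A₂
      haveI : IsArtinian Λ (fibSub f₁ f₂) :=
        inferInstanceAs (IsArtinian Λ (Subalgebra.toSubmodule (fibSub f₁ f₂)))
      isArtinian_of_tower Λ inferInstance
    res := A₁.res.comp ((AlgHom.fst Λ A₁ A₂).comp (fibSub f₁ f₂).val)
    res_surjective := h }

/-- First projection. -/
noncomputable def fibFst {A A₁ A₂ : Art Λ k} (f₁ : A₁ ⟶ A) (f₂ : A₂ ⟶ A)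
    (h : ∀ c : k, ∃ x : fibSub f₁ f₂, A₁.res x.1.1 = c) : fib f₁ f₂ h ⟶ A₁ :=
  ⟨(AlgHom.fst Λ A₁ A₂).comp (fibSub f₁ f₂).val, rfl⟩

/-- Second projection. -/
noncomputable def fibSnd {A A₁ A₂ : Art Λ k} (f₁ : A₁ ⟶ A) (f₂ : A₂ ⟶ A)
    (h : ∀ c : k, ∃ x : fibSub f₁ f₂, A₁.res x.1.1 = c) : fib f₁ f₂ h ⟶ A₂ :=
  ⟨(AlgHom.snd Λ A₁ A₂).comp (fibSub f₁ f₂).val,
    AlgHom.ext fun x => (res_fst_eq_res_snd x.2).symm⟩

theorem isFibreProd_fib {A A₁ A₂ : Art Λ k} (f₁ : A₁ ⟶ A) (f₂ : A₂ ⟶ A)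
    (h : ∀ c : k, ∃ x : fibSub f₁ f₂, A₁.res x.1.1 = c) :
    IsFibreProd (fibFst f₁ f₂ h) (fibSnd f₁ f₂ h) f₁ f₂ where
  w := hom_apply_ext fun x => (x : fibSub f₁ f₂).2
  inj _ _ h₁ h₂ := Subtype.ext (Prod.ext h₁ h₂)
  surj a' a'' e := ⟨⟨(a', a''), e⟩, rfl, rfl⟩

theorem exists_isFibreProd {A A₁ A₂ : Art Λ k} (f₁ : A₁ ⟶ A) (f₂ : A₂ ⟶ A)
    (hf₂ : Function.Surjective f₂) :
    ∃ (B : Art Λ k) (p₁ : B ⟶ A₁) (p₂ : B ⟶ A₂), IsFibreProd p₁ p₂ f₁ f₂ := by
  refine ⟨_, _, _, isFibreProd_fib f₁ f₂ fun c => ?_⟩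
  obtain ⟨a, ha⟩ := A₁.res_surjective c
  obtain ⟨b, hb⟩ := hf₂ (f₁ a)
  exact ⟨⟨(a, b), hb.symm⟩, ha⟩

/-- A `Λ`-subalgebra of an object mapping onto `k`, as an object. -/
noncomputable def subObj (A : Art Λ k) (S : Subalgebra Λ A) (h : ∀ c : k, ∃ x ∈ S, A.res x = c) :
    Art Λ k :=
  haveI : IsArtinian Λ A := isArtinian_base A
  haveI : IsArtinian Λ S := inferInstanceAs (IsArtinian Λ (Subalgebra.toSubmodule S))
  haveI : IsArtinianRing S := isArtinian_of_tower Λ inferInstance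
  { carrier := S
    isLocalRing := IsLocalRing.of_isUnit_or_isUnit_one_sub_self fun x => by
      have key : ∀ y : S, A.res (y : A) ≠ 0 → IsUnit y := by
        intro y hy
        refine IsArtinianRing.isUnit_iff_mem_nonZeroDivisors.2 (mem_nonZeroDivisors_iff_right.2
          fun z hz => Subtype.ext ?_)
        have := congrArg Subtype.val hz
        exact ((isUnit_iff_res_ne_zero A (y : A)).2 hy).mul_left_eq_zero.1 this
      by_cases hx : A.res (x : A) = 0
      · refine Or.inr (key _ ?_)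
        rw [Subalgebra.coe_sub, Subalgebra.coe_one, map_sub, map_one, hx, sub_zero]
        exact one_ne_zero
      · exact Or.inl (key _ hx)
    isArtinianRing := inferInstance
    res := A.res.comp S.val
    res_surjective := fun c => by
      obtain ⟨x, hx, rfl⟩ := h c
      exact ⟨⟨x, hx⟩, rfl⟩ }

/-- The inclusion of a subobject. -/
noncomputable def subObjVal (A : Art Λ k) (S : Subalgebra Λ A) (h : ∀ c : k, ∃ x ∈ S, A.res x = c) :
    subObj A S h ⟶ A := ⟨S.val, rfl⟩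

end SubObj

section FibLift

variable {B A A' A'' : Art Λ k} {p' : B ⟶ A'} {p'' : B ⟶ A''} {f' : A' ⟶ A} {f'' : A'' ⟶ A}

/-- Lift an algebra map into a fibre product. -/
noncomputable def fibLiftAlg {R : Type*} [CommRing R] [Algebra Λ R]
    (h : IsFibreProd p' p'' f' f'') (g' : R →ₐ[Λ] A') (g'' : R →ₐ[Λ] A'')
    (w : ∀ c, f' (g' c) = f'' (g'' c)) : R →ₐ[Λ] B where
  toFun c := (h.surj (g' c) (g'' c) (w c)).choose
  map_one' := by
    have := (h.surj (g' 1) (g'' 1) (w 1)).choose_spec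
    exact h.inj _ _ (by rw [this.1, map_one, map_one]) (by rw [this.2, map_one, map_one])
  map_zero' := by
    have := (h.surj (g' 0) (g'' 0) (w 0)).choose_spec
    exact h.inj _ _ (by rw [this.1, map_zero, map_zero]) (by rw [this.2, map_zero, map_zero])
  map_add' x y := by
    have hx := (h.surj (g' x) (g'' x) (w x)).choose_spec
    have hy := (h.surj (g' y) (g'' y) (w y)).choose_spec
    have hxy := (h.surj (g' (x + y)) (g'' (x + y)) (w _)).choose_spec
    exact h.inj _ _ (by rw [map_add p'.toAlgHom, hxy.1, hx.1, hy.1, map_add])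
      (by rw [map_add p''.toAlgHom, hxy.2, hx.2, hy.2, map_add])
  map_mul' x y := by
    have hx := (h.surj (g' x) (g'' x) (w x)).choose_spec
    have hy := (h.surj (g' y) (g'' y) (w y)).choose_spec
    have hxy := (h.surj (g' (x * y)) (g'' (x * y)) (w _)).choose_spec
    exact h.inj _ _ (by rw [map_mul p'.toAlgHom, hxy.1, hx.1, hy.1, map_mul])
      (by rw [map_mul p''.toAlgHom, hxy.2, hx.2, hy.2, map_mul])
  commutes' r := by
    have := (h.surj (g' (algebraMap Λ R r)) (g'' (algebraMap Λ R r)) (w _)).choose_spec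
    exact h.inj _ _ (by rw [this.1, AlgHom.commutes, AlgHom.commutes])
      (by rw [this.2, AlgHom.commutes, AlgHom.commutes])

theorem fibLiftAlg_fst {R : Type*} [CommRing R] [Algebra Λ R]
    (h : IsFibreProd p' p'' f' f'') (g' : R →ₐ[Λ] A') (g'' : R →ₐ[Λ] A'')
    (w : ∀ c, f' (g' c) = f'' (g'' c)) (c : R) : p' (fibLiftAlg h g' g'' w c) = g' c :=
  (h.surj (g' c) (g'' c) (w c)).choose_spec.1

theorem fibLiftAlg_snd {R : Type*} [CommRing R] [Algebra Λ R]
    (h : IsFibreProd p' p'' f' f'') (g' : R →ₐ[Λ] A') (g'' : R →ₐ[Λ] A'')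
    (w : ∀ c, f' (g' c) = f'' (g'' c)) (c : R) : p'' (fibLiftAlg h g' g'' w c) = g'' c :=
  (h.surj (g' c) (g'' c) (w c)).choose_spec.2

/-- The universal property of a fibre product. -/
noncomputable def fibLift (h : IsFibreProd p' p'' f' f'') {C : Art Λ k} (g' : C ⟶ A') (g'' : C ⟶ A'')
    (w : g' ≫ f' = g'' ≫ f'') : C ⟶ B :=
  ⟨fibLiftAlg h g'.toAlgHom g''.toAlgHom (fun c => congrArg (fun φ : C ⟶ A => φ c) w), by
    refine AlgHom.ext fun c => ?_
    have h1 := fibLiftAlg_fst h g'.toAlgHom g''.toAlgHom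
      (fun c => congrArg (fun φ : C ⟶ A => φ c) w) c
    rw [AlgHom.comp_apply, ← res_app p', h1]
    exact res_app g' c⟩

theorem fibLift_fst (h : IsFibreProd p' p'' f' f'') {C : Art Λ k} (g' : C ⟶ A') (g'' : C ⟶ A'')
    (w : g' ≫ f' = g'' ≫ f'') : fibLift h g' g'' w ≫ p' = g' :=
  hom_apply_ext fun c => fibLiftAlg_fst h g'.toAlgHom g''.toAlgHom (fun c => congrArg (fun φ : C ⟶ A => φ c) w) c

theorem fibLift_snd (h : IsFibreProd p' p'' f' f'') {C : Art Λ k} (g' : C ⟶ A') (g'' : C ⟶ A'')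
    (w : g' ≫ f' = g'' ≫ f'') : fibLift h g' g'' w ≫ p'' = g'' :=
  hom_apply_ext fun c => fibLiftAlg_snd h g'.toAlgHom g''.toAlgHom (fun c => congrArg (fun φ : C ⟶ A => φ c) w) c

theorem fib_hom_ext (h : IsFibreProd p' p'' f' f'') {C : Art Λ k} {g₁ g₂ : C ⟶ B}
    (e' : g₁ ≫ p' = g₂ ≫ p') (e'' : g₁ ≫ p'' = g₂ ≫ p'') : g₁ = g₂ :=
  hom_apply_ext fun c => h.inj _ _ (congrArg (fun φ : C ⟶ A' => φ c) e')
    (congrArg (fun φ : C ⟶ A'' => φ c) e'')

theorem fst_surjective (h : IsFibreProd p' p'' f' f'') (hf : Function.Surjective f'') :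
    Function.Surjective p' := fun a => by
  obtain ⟨b, hb⟩ := hf (f' a)
  obtain ⟨x, hx, -⟩ := h.surj a b hb.symm
  exact ⟨x, hx⟩

theorem snd_surjective (h : IsFibreProd p' p'' f' f'') (hf : Function.Surjective f') :
    Function.Surjective p'' := fun b => by
  obtain ⟨a, ha⟩ := hf (f'' b)
  obtain ⟨x, -, hx⟩ := h.surj a b ha
  exact ⟨x, hx⟩

theorem isFibreProd_symm (h : IsFibreProd p' p'' f' f'') : IsFibreProd p'' p' f'' f' where
  w := h.w.symm
  inj _ _ h₁ h₂ := h.inj _ _ h₂ h₁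
  surj a b e := by
    obtain ⟨x, hx, hx'⟩ := h.surj b a e.symm
    exact ⟨x, hx', hx⟩

theorem isSmallExt_fst (h : IsFibreProd p' p'' f' f'') (hf : IsSmallExt f'') : IsSmallExt p' := by
  obtain ⟨hs, hne, ⟨t₂, ht₂⟩, hm⟩ := hf
  rw [Ideal.submodule_span_eq] at ht₂
  have ht₂mem : t₂ ∈ RingHom.ker f''.toAlgHom := ht₂ ▸ Ideal.mem_span_singleton_self t₂
  obtain ⟨t, ht', ht''⟩ := h.surj 0 t₂ (by rw [map_zero]; exact ((mem_ker_iff _ _).1 ht₂mem).symm)
  have hkey : ∀ b, p' b = 0 → ∀ c ∈ IsLocalRing.maximalIdeal B, c * b = 0 := by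
    intro b hb c hc
    refine h.inj _ _ (by rw [map_mul, hb, mul_zero, map_zero]) ?_
    rw [map_zero p''.toAlgHom, map_mul p''.toAlgHom]
    have hb' : p'' b ∈ RingHom.ker f''.toAlgHom := by
      rw [mem_ker_iff, ← h.w_apply, hb, map_zero]
    have hc' : p'' c ∈ IsLocalRing.maximalIdeal A'' := by
      rw [mem_maximalIdeal_iff, res_app, ← mem_maximalIdeal_iff]; exact hc
    have := Ideal.mul_mem_mul hc' hb'
    rwa [hm, Ideal.mem_bot] at this
  have hkm : ∀ c ∈ IsLocalRing.maximalIdeal A'', c * t₂ = 0 := fun c hc => by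
    have := Ideal.mul_mem_mul hc ht₂mem
    rwa [hm, Ideal.mem_bot] at this
  refine ⟨fst_surjective h hs, ?_, ⟨t, ?_⟩, ?_⟩
  · intro hbot
    apply hne
    rw [ht₂, Ideal.span_singleton_eq_bot, ← ht'']
    rw [show t = 0 from (Ideal.mem_bot).1 (hbot ▸ (mem_ker_iff p' t).2 ht'), map_zero]
  · rw [Ideal.submodule_span_eq]
    refine le_antisymm (fun b hb => ?_) ((Ideal.span_singleton_le_iff_mem _).2 ht')
    rw [mem_ker_iff] at hb
    have hb' : p'' b ∈ RingHom.ker f''.toAlgHom := by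
      rw [mem_ker_iff, ← h.w_apply, hb, map_zero]
    rw [ht₂, Ideal.mem_span_singleton'] at hb'
    obtain ⟨c, hc⟩ := hb'
    obtain ⟨c₀, hc₀⟩ := B.res_surjective (A''.res c)
    rw [Ideal.mem_span_singleton']
    refine ⟨c₀, h.inj _ _ (by rw [map_mul, ht', mul_zero, hb]) ?_⟩
    rw [map_mul, ht'', ← hc, ← sub_eq_zero, ← sub_mul]
    refine hkm _ ?_
    rw [mem_maximalIdeal_iff, map_sub, res_app, hc₀, sub_self]
  · rw [eq_bot_iff, Ideal.mul_le]
    exact fun c hc b hb => hkey b ((mem_ker_iff _ _).1 hb) c hc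

end FibLift

section Induction

theorem quotMk_eq_zero {C : Art Λ k} {I : Ideal C} (hI : I ≤ IsLocalRing.maximalIdeal C) (a : C) :
    quotMk C I hI a = 0 ↔ a ∈ I := Ideal.Quotient.eq_zero_iff_mem

/-- The map `C/I → C/J`. -/
noncomputable def quotTrans (C : Art Λ k) {I J : Ideal C} (hI : I ≤ IsLocalRing.maximalIdeal C)
    (hJ : J ≤ IsLocalRing.maximalIdeal C) (hIJ : I ≤ J) : quot C I hI ⟶ quot C J hJ :=
  quotFactor hI (quotMk C J hJ) fun a ha => by
    rw [mem_ker_iff, quotMk_eq_zero]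
    exact hIJ ha

theorem quotTrans_surjective (C : Art Λ k) {I J : Ideal C} (hI : I ≤ IsLocalRing.maximalIdeal C)
    (hJ : J ≤ IsLocalRing.maximalIdeal C) (hIJ : I ≤ J) : Function.Surjective (quotTrans C hI hJ hIJ) := by
  intro y
  obtain ⟨a, rfl⟩ := Ideal.Quotient.mk_surjective y
  exact ⟨Ideal.Quotient.mk I a, rfl⟩

theorem isSmallExt_quotTrans (C : Art Λ k) {I J : Ideal C} (hI : I ≤ IsLocalRing.maximalIdeal C)
    (hJ : J ≤ IsLocalRing.maximalIdeal C) (hIJ : I ≤ J) (t : C) (ht : t ∉ I)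
    (hJt : J = I ⊔ Ideal.span {t}) (hm : IsLocalRing.maximalIdeal C * J ≤ I) :
    IsSmallExt (quotTrans C hI hJ hIJ) := by
  let π := (quotMk C I hI).toAlgHom
  have hπ : Function.Surjective π := quotMk_surjective C I hI
  have hπ0 : ∀ a, π a = 0 ↔ a ∈ I := quotMk_eq_zero hI
  have hfac : ∀ a, quotTrans C hI hJ hIJ (π a) = quotMk C J hJ a := fun a => rfl
  have hker : RingHom.ker (quotTrans C hI hJ hIJ).toAlgHom = Ideal.span {π t} := by
    ext x
    obtain ⟨a, rfl⟩ := hπ x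
    rw [mem_ker_iff, hfac, quotMk_eq_zero, hJt]
    constructor
    · intro ha
      obtain ⟨i, hi, s, hs, rfl⟩ := Submodule.mem_sup.1 ha
      obtain ⟨c, rfl⟩ := Ideal.mem_span_singleton'.1 hs
      rw [map_add, (hπ0 i).2 hi, zero_add, map_mul]
      exact Ideal.mul_mem_left _ _ (Ideal.mem_span_singleton_self _)
    · intro ha
      obtain ⟨c, hc⟩ := Ideal.mem_span_singleton'.1 ha
      obtain ⟨c', rfl⟩ := hπ c
      rw [← map_mul, ← sub_eq_zero, ← map_sub, hπ0] at hc
      have : a = c' * t - (c' * t - a) := by abel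
      rw [this]
      exact Ideal.sub_mem _ (Ideal.mem_sup_right (Ideal.mul_mem_left _ _
        (Ideal.mem_span_singleton_self _))) (Ideal.mem_sup_left hc)
  refine ⟨quotTrans_surjective C hI hJ hIJ, ?_, ⟨π t, hker⟩, ?_⟩
  · rw [hker, Ne, Ideal.span_singleton_eq_bot, hπ0]
    exact ht
  · rw [hker, eq_bot_iff, Ideal.mul_le]
    intro x hx y hy
    obtain ⟨c, rfl⟩ := Ideal.mem_span_singleton'.1 hy
    obtain ⟨a, rfl⟩ := hπ x
    obtain ⟨b, rfl⟩ := hπ c
    have ha : a ∈ IsLocalRing.maximalIdeal C := by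
      rw [mem_maximalIdeal_iff] at hx ⊢
      exact hx
    rw [Ideal.mem_bot, ← map_mul, ← map_mul, hπ0]
    exact hm (Ideal.mul_mem_mul ha (hJt ▸ Ideal.mem_sup_right
      (Ideal.mul_mem_left _ _ (Ideal.mem_span_singleton_self t))))

/-- Every surjection is a composite of small extensions and isomorphisms. -/
theorem surjective_induction (P : ∀ ⦃A B : Art Λ k⦄, (B ⟶ A) → Prop)
    (hiso : ∀ ⦃A B : Art Λ k⦄ (e : B ⟶ A), IsIso e → P e)
    (hsmall : ∀ ⦃A B : Art Λ k⦄ (p : B ⟶ A), IsSmallExt p → P p)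
    (hcomp : ∀ ⦃A B C : Art Λ k⦄ (p : C ⟶ B) (q : B ⟶ A),
      Function.Surjective p → Function.Surjective q → P p → P q → P (p ≫ q))
    ⦃A B : Art Λ k⦄ (f : B ⟶ A) (hf : Function.Surjective f) : P f := by
  let K := RingHom.ker f.toAlgHom
  have hKm := ker_le_maximalIdeal f
  have hfac : ∀ (I : Ideal B) (hI : I ≤ K), Function.Surjective (quotFactor (hI.trans hKm) f hI) := by
    intro I hI a
    obtain ⟨b, rfl⟩ := hf a
    exact ⟨Ideal.Quotient.mk I b, rfl⟩
  have hQ : ∀ I : Ideal B, ∀ hI : I ≤ K, P (quotFactor (hI.trans hKm) f hI) := by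
    intro I
    induction I using WellFoundedGT.induction with
    | ind I ih =>
      intro hI
      rcases hI.eq_or_lt with heq | hlt
      · refine hiso _ (isIso_of_bijective _ ⟨(injective_iff_map_eq_zero _).2 fun x hx => ?_, hfac I hI⟩)
        obtain ⟨a, rfl⟩ := Ideal.Quotient.mk_surjective x
        exact Ideal.Quotient.eq_zero_iff_mem.2 (by rw [heq]; exact hx)
      · obtain ⟨J, ⟨hIJ, hJK⟩, hmin⟩ := (wellFounded_lt (α := Ideal B)).has_min
          {J | I < J ∧ J ≤ K} ⟨K, hlt, le_rfl⟩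
        obtain ⟨t, htJ, htI⟩ := SetLike.exists_of_lt hIJ
        have hJt : J = I ⊔ Ideal.span {t} := by
          have hle : I ⊔ Ideal.span {t} ≤ J := sup_le hIJ.le ((Ideal.span_singleton_le_iff_mem _).2 htJ)
          refine (eq_of_le_of_not_lt hle fun h => hmin _ ⟨?_, hle.trans hJK⟩ h).symm
          exact lt_of_le_of_ne le_sup_left fun e => htI (e ▸ Ideal.mem_sup_right
            (Ideal.mem_span_singleton_self t))
        have hm : IsLocalRing.maximalIdeal B * J ≤ I := by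
          by_contra hnot
          have hlt' : I < I ⊔ IsLocalRing.maximalIdeal B * J := left_lt_sup.2 hnot
          have hle : I ⊔ IsLocalRing.maximalIdeal B * J ≤ J := sup_le hIJ.le Ideal.mul_le_right
          have heq : I ⊔ IsLocalRing.maximalIdeal B * J = J :=
            eq_of_le_of_not_lt hle fun h => hmin _ ⟨hlt', hle.trans hJK⟩ h
          have : J ≤ I := Submodule.le_of_le_smul_of_le_jacobson_bot (IsNoetherian.noetherian J)
            (IsLocalRing.maximalIdeal_le_jacobson _) heq.ge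
          exact not_le_of_gt hIJ this
        have hJ' : J ≤ IsLocalRing.maximalIdeal B := hJK.trans hKm
        have e : quotTrans B (hI.trans hKm) hJ' hIJ.le ≫ quotFactor hJ' f hJK =
            quotFactor (hI.trans hKm) f hI := hom_apply_ext fun x => by
          obtain ⟨a, rfl⟩ := Ideal.Quotient.mk_surjective x
          rfl
        rw [← e]
        exact hcomp _ _ (quotTrans_surjective B _ hJ' hIJ.le) (hfac J hJK)
          (hsmall _ (isSmallExt_quotTrans B _ hJ' hIJ.le t htI hJt hm)) (ih J hIJ hJK)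
  have hb : Function.Bijective (quotMk B ⊥ bot_le) := by
    refine ⟨(injective_iff_map_eq_zero _).2 fun x hx => ?_, quotMk_surjective _ _ _⟩
    exact (Ideal.mem_bot).1 (Ideal.Quotient.eq_zero_iff_mem.1 hx)
  rw [← quotMk_quotFactor (bot_le : ⊥ ≤ IsLocalRing.maximalIdeal B) f bot_le]
  exact hcomp _ _ (quotMk_surjective _ _ _) (hfac ⊥ bot_le) (hiso _ (isIso_of_bijective _ hb))
    (hQ ⊥ bot_le)

/-- Induction on objects along small extensions. -/
theorem art_induction (P : Art Λ k → Prop) (hbase : P (base Λ k))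
    (hiso : ∀ ⦃A B : Art Λ k⦄ (e : B ⟶ A), IsIso e → P A → P B)
    (hsmall : ∀ ⦃A B : Art Λ k⦄ (p : B ⟶ A), IsSmallExt p → P A → P B) (A : Art Λ k) : P A :=
  surjective_induction (fun C B _ => P C → P B) hiso hsmall
    (fun _ _ _ _ _ _ _ h1 h2 hC => h1 (h2 hC)) (toBase A) (toBase_surjective A) hbase

end Induction

end Groth.Agent.ArtFunLib
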