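import Groth.Prelude.Def_ArtFun5
import Mathlib.Tactic.LinearCombination
import Mathlib.RingTheory.Derivation.Basic
import Mathlib.RingTheory.AdicCompletion.Functoriality
import Mathlib.RingTheory.Nakayama
import Mathlib.LinearAlgebra.Dual.Lemmas

/-!
# A map of complete local algebras injective on derivations to the residue field is surjective
-/

set_option autoImplicit false

universe u

open IsLocalRing ArtFun

namespace Groth.Agent.ArtFunLib

theorem surjective_of_derivation_comp_injective {Λ : Type u} {k : Type u} [CommRing Λ] [Field k] [Algebra Λ k]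
    (R : CRing Λ k) (S : Type u) [CommRing S] [Algebra Λ S] [IsLocalRing S] [IsNoetherianRing S]
    [IsAdicComplete (maximalIdeal S) S] [Algebra S k] [IsScalarTower Λ S k]
    (hres : Function.Surjective (algebraMap S k))
    (f : R.carrier →ₐ[Λ] S) (hf : (IsScalarTower.toAlgHom Λ S k).comp f = R.res)
    (hinj : ∀ D₁ D₂ : Derivation Λ S k, (∀ r : R.carrier, D₁ (f r) = D₂ (f r)) → D₁ = D₂) :
    Function.Surjective f := by
  have hmax : (RingHom.ker (algebraMap S k)).IsMaximal := RingHom.ker_isMaximal_of_surjective _ hres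
  have hm : ∀ x : S, x ∈ maximalIdeal S ↔ algebraMap S k x = 0 := fun x => by
    rw [← IsLocalRing.eq_maximalIdeal hmax, RingHom.mem_ker]
  have hfr : ∀ r, algebraMap S k (f r) = R.res r := fun r => congr($hf r)
  let I : Ideal S := Ideal.map f (maximalIdeal R.carrier)
  have hI : I ≤ maximalIdeal S := Ideal.map_le_iff_le_comap.2 fun r hr => by
    rw [Ideal.mem_comap, hm, hfr]
    exact (CRing.mem_maximalIdeal_iff R r).1 hr
  let J : Ideal S := I ⊔ maximalIdeal S ^ 2
  have hJ : J = maximalIdeal S := by
    refine le_antisymm (sup_le hI (Ideal.pow_le_self two_ne_zero)) fun a ha => ?_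
    by_contra haJ
    let q : S →ₐ[Λ] S ⧸ J := Ideal.Quotient.mkₐ Λ J
    have hker : ∀ r ∈ RingHom.ker R.res, (q.comp f) r = 0 := fun r hr => by
      refine Ideal.Quotient.eq_zero_iff_mem.2 (Ideal.mem_sup_left (Ideal.mem_map_of_mem _ ?_))
      rw [CRing.mem_maximalIdeal_iff]
      exact hr
    let σ : k →+* S ⧸ J := RingHom.liftOfSurjective R.res.toRingHom R.res_surjective
      ⟨(q.comp f).toRingHom, hker⟩
    have hσ : ∀ r, σ (R.res r) = q (f r) := fun r =>
      RingHom.liftOfRightInverse_comp_apply _ _ _ _ r
    letI : Algebra k (S ⧸ J) := σ.toAlgebra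
    obtain ⟨φ, hφ⟩ : ∃ φ : Module.Dual k (S ⧸ J), φ (q a) ≠ 0 := Module.Projective.exists_dual_ne_zero k
      (fun h0 => haJ (Ideal.Quotient.eq_zero_iff_mem.1 h0))
    let d : S → S ⧸ J := fun x => q x - σ (algebraMap S k x)
    have hd : ∀ x y, d (x * y) = algebraMap S k x • d y + algebraMap S k y • d x := fun x y => by
      have h0 : d x * d y = 0 := by
        obtain ⟨r, hr⟩ := R.res_surjective (algebraMap S k x)
        obtain ⟨t, ht⟩ := R.res_surjective (algebraMap S k y)
        have ex : d x = q (x - f r) := by rw [map_sub, ← hσ, hr]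
        have ey : d y = q (y - f t) := by rw [map_sub, ← hσ, ht]
        rw [ex, ey, ← map_mul]
        refine Ideal.Quotient.eq_zero_iff_mem.2 (Ideal.mem_sup_right ?_)
        rw [sq]
        refine Ideal.mul_mem_mul ?_ ?_ <;> rw [hm, map_sub, hfr]
        · rw [hr, sub_self]
        · rw [ht, sub_self]
      simp only [Algebra.smul_def, RingHom.algebraMap_toAlgebra]
      simp only [d, map_mul] at h0 ⊢
      linear_combination h0
    have hφs : ∀ (c : k) v, φ (c • v) = c * φ v := fun c v => by rw [map_smul, smul_eq_mul]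
    let L : S →ₗ[Λ] k :=
      { toFun := fun x => φ (d x)
        map_add' := fun x y => by
          rw [← map_add φ]; congr 1; simp only [d, map_add]; ring
        map_smul' := fun l x => by
          have e : d (algebraMap Λ S l) = 0 := by
            show q _ - σ _ = 0
            rw [← f.commutes l, hfr, hσ, sub_self]
          show φ (d (l • x)) = l • φ (d x)
          rw [Algebra.smul_def l x, hd, e, smul_zero, add_zero, hφs, ← IsScalarTower.algebraMap_apply Λ S k,
            ← Algebra.smul_def] }
    let D : Derivation Λ S k := Derivation.mk' L fun x y => by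
      show φ (d (x * y)) = x • φ (d y) + y • φ (d x)
      rw [hd, map_add, hφs, hφs, Algebra.smul_def x, Algebra.smul_def y]
    have h0 : D = 0 := hinj D 0 fun r => by
      show φ (q (f r) - σ (algebraMap S k (f r))) = 0
      rw [hfr, hσ, sub_self, map_zero]
    refine hφ ?_
    have h1 : φ (d a) = 0 := congrArg (fun E : Derivation Λ S k => E a) h0
    rwa [show d a = q a by simp only [d, (hm a).1 ha, map_zero, sub_zero]] at h1
  have hI' : I = maximalIdeal S := le_antisymm hI (Submodule.le_of_le_smul_of_le_jacobson_bot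
    (IsNoetherian.noetherian _) (IsLocalRing.maximalIdeal_le_jacobson ⊥)
    (hJ.ge.trans (sup_le_sup_left (le_of_eq (sq _)) _)))
  have hI'' : (maximalIdeal R.carrier).map f.toRingHom = maximalIdeal S := hI'
  haveI : IsHausdorff ((maximalIdeal R.carrier).map f.toRingHom) S :=
    hI''.symm ▸ (inferInstance : IsHausdorff (maximalIdeal S) S)
  haveI := R.isAdicComplete
  refine surjective_of_mk_map_comp_surjective (I := maximalIdeal R.carrier) (f := f.toRingHom) fun z => ?_
  obtain ⟨x, rfl⟩ := Ideal.Quotient.mk_surjective z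
  obtain ⟨r, hr⟩ := R.res_surjective (algebraMap S k x)
  refine ⟨r, Ideal.Quotient.eq.2 ?_⟩
  rw [hI'', hm, map_sub]
  exact sub_eq_zero.2 ((hfr r).trans hr)

end Groth.Agent.ArtFunLib
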