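import Groth.Agent.ArtFunLib.VersalPS
import Groth.Agent.ArtFunLib.DerSurj
import Groth.Prelude.Def_W4sfdMinVersal

/-!
# Existence of minimal versal families and the decomposition of a versal family
-/

set_option autoImplicit false

universe u v

open CategoryTheory ArtFun IsLocalRing

namespace Groth.Agent.ArtFunLib.Minimal2

variable {Λ : Type u} {k : Type u} [CommRing Λ] [Field k] [Algebra Λ k]

/-- Membership in the stable image of an endomorphism. -/
def Stable {A : Type u} (E : A → A) (y : A) : Prop := ∀ m, y ∈ Set.range (E^[m])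

theorem exists_fitting [IsNoetherianRing Λ] [Module.Finite Λ k] {A : Art Λ k} (E : A ⟶ A) :
    ∃ (P : A ⟶ A) (n : ℕ), (∀ x, Stable E (P x) ∧ (⇑E)^[n] (P x) = (⇑E)^[n] x) ∧
      (∀ y, Stable E y → P y = y) ∧ (∀ x y, Stable E x → Stable E y → ∀ m, (⇑E)^[m] x = (⇑E)^[m] y → x = y) := by
  haveI := isArtinian_base A
  haveI := isNoetherian_base A
  let L : A →ₗ[Λ] A := E.toAlgHom.toLinearMap
  have hpow : ∀ m, ⇑(L ^ m) = (⇑E)^[m] := fun m => Module.End.coe_pow L m
  obtain ⟨n, hn⟩ := IsArtinian.monotone_stabilizes L.iterateRange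
  have hn' : ∀ m, n ≤ m → ∀ y, (∃ x, (⇑E)^[n] x = y) → ∃ x, (⇑E)^[m] x = y := fun m hm y ⟨x, hx⟩ => by
    have h1 : y ∈ LinearMap.range (L ^ n) := ⟨x, by rw [hpow]; exact hx⟩
    have h2 : LinearMap.range (L ^ n) = LinearMap.range (L ^ m) := OrderDual.toDual.injective (hn m hm)
    obtain ⟨z, hz⟩ := h2 ▸ h1
    exact ⟨z, by rw [← hpow]; exact hz⟩
  have hst : ∀ x, Stable E ((⇑E)^[n] x) := fun x m => by
    obtain ⟨z, hz⟩ := hn' (max m n) (le_max_right _ _) _ ⟨x, rfl⟩
    exact ⟨(⇑E)^[max m n - m] z, by rw [← Function.iterate_add_apply, Nat.add_sub_cancel' (le_max_left _ _), hz]⟩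
  let S : Submodule Λ A := LinearMap.range (L ^ n)
  have hmaps : ∀ y ∈ S, L y ∈ S := fun y ⟨x, hx⟩ => ⟨L x, by
    rw [← hx, ← Module.End.mul_apply, ← Module.End.mul_apply, ← pow_succ, ← pow_succ']⟩
  let LS : S →ₗ[Λ] S := L.restrict hmaps
  have hLS : Function.Surjective LS := fun y => by
    obtain ⟨x, hx⟩ := y.2
    obtain ⟨z, hz⟩ := hn' (n + 1) (Nat.le_succ n) y.1 ⟨x, by rw [← hpow]; exact hx⟩
    refine ⟨⟨(L ^ n) z, z, rfl⟩, Subtype.ext ?_⟩
    show L ((L ^ n) z) = y.1
    rw [hpow, ← hz, Function.iterate_succ_apply']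
    rfl
  have hLSi := IsNoetherian.injective_of_surjective_endomorphism LS hLS
  have huniq : ∀ x y, Stable E x → Stable E y → ∀ m, (⇑E)^[m] x = (⇑E)^[m] y → x = y := by
    intro x y hx hy m h
    have hx' : x ∈ S := (hx n).elim fun a ha => ⟨a, by rw [hpow]; exact ha⟩
    have hy' : y ∈ S := (hy n).elim fun a ha => ⟨a, by rw [hpow]; exact ha⟩
    have hit : ∀ m (z : S), ((⇑LS)^[m] z).1 = (⇑E)^[m] z.1 := fun m z => by
      induction m with
      | zero => rfl
      | succ m ih =>
        rw [Function.iterate_succ_apply', Function.iterate_succ_apply', ← ih]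
        rfl
    exact congrArg Subtype.val (hLSi.iterate m (Subtype.ext (a1 := (⇑LS)^[m] ⟨x, hx'⟩) (a2 := (⇑LS)^[m] ⟨y, hy'⟩)
      (by rw [hit, hit]; exact h)))
  have hex : ∀ x, ∃ y, Stable E y ∧ (⇑E)^[n] y = (⇑E)^[n] x := fun x => by
    obtain ⟨z, hz⟩ := hn' (n + n) (by omega) _ ⟨x, rfl⟩
    exact ⟨(⇑E)^[n] z, hst z, by rw [← Function.iterate_add_apply]; exact hz⟩
  choose P hPs hPe using hex
  have hmul : ∀ a b : A, (⇑E)^[n] (a * b) = (⇑E)^[n] a * (⇑E)^[n] b := fun a b => by
    induction n generalizing a b with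
    | zero => rfl
    | succ m ih =>
      rw [Function.iterate_succ_apply, Function.iterate_succ_apply, Function.iterate_succ_apply]
      show (⇑E)^[m] (E.toAlgHom (a * b)) = _
      rw [map_mul]
      exact iterate_mul E m (E a) (E b)
  have hstadd : ∀ a b, Stable E a → Stable E b → Stable E (a + b) := fun a b ha hb m => by
    obtain ⟨a', ha'⟩ := ha m
    obtain ⟨b', hb'⟩ := hb m
    exact ⟨a' + b', by rw [iterate_add, ha', hb']⟩
  have hstmul : ∀ a b, Stable E a → Stable E b → Stable E (a * b) := fun a b ha hb m => by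
    obtain ⟨a', ha'⟩ := ha m
    obtain ⟨b', hb'⟩ := hb m
    exact ⟨a' * b', by rw [iterate_mul, ha', hb']⟩
  have hstalg : ∀ l, Stable E (algebraMap Λ A l) := fun l m => ⟨algebraMap Λ A l, iterate_alg E m l⟩
  let Q : A →ₐ[Λ] A :=
    { toFun := P
      map_one' := huniq _ _ (hPs 1) (by simpa using hstalg 1) n (hPe 1)
      map_mul' := fun a b => huniq _ _ (hPs _) (hstmul _ _ (hPs a) (hPs b)) n (by
        rw [hPe, iterate_mul, iterate_mul, hPe, hPe])
      map_zero' := huniq _ _ (hPs 0) (by simpa using hstalg 0) n (hPe 0)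
      map_add' := fun a b => huniq _ _ (hPs _) (hstadd _ _ (hPs a) (hPs b)) n (by
        rw [hPe, iterate_add, iterate_add, hPe, hPe])
      commutes' := fun l => huniq _ _ (hPs _) (hstalg l) n (hPe _) }
  have hres : ∀ m (x : A), A.res ((⇑E)^[m] x) = A.res x := fun m x => by
    induction m with
    | zero => rfl
    | succ m ih => rw [Function.iterate_succ_apply', Art.res_app, ih]
  refine ⟨⟨Q, AlgHom.ext fun x => ?_⟩, n, fun x => ⟨hPs x, hPe x⟩, fun y hy => huniq _ _ (hPs y) hy n (hPe y), huniq⟩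
  show A.res (P x) = A.res x
  rw [← hres n (P x), hPe, hres]
where
  iterate_mul {A : Art Λ k} (E : A ⟶ A) (m : ℕ) (a b : A) : (⇑E)^[m] (a * b) = (⇑E)^[m] a * (⇑E)^[m] b := by
    induction m with
    | zero => rfl
    | succ m ih =>
      rw [Function.iterate_succ_apply', Function.iterate_succ_apply', Function.iterate_succ_apply', ih]
      exact map_mul E.toAlgHom _ _
  iterate_add {A : Art Λ k} (E : A ⟶ A) (m : ℕ) (a b : A) : (⇑E)^[m] (a + b) = (⇑E)^[m] a + (⇑E)^[m] b := by
    induction m with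
    | zero => rfl
    | succ m ih =>
      rw [Function.iterate_succ_apply', Function.iterate_succ_apply', Function.iterate_succ_apply', ih]
      exact map_add E.toAlgHom _ _
  iterate_alg {A : Art Λ k} (E : A ⟶ A) (m : ℕ) (l : Λ) : (⇑E)^[m] (algebraMap Λ A l) = algebraMap Λ A l := by
    induction m with
    | zero => rfl
    | succ m ih =>
      rw [Function.iterate_succ_apply', ih]
      exact E.toAlgHom.commutes l

theorem map_fixed {F : Art Λ k ⥤ Type v} {A : Art Λ k} (E P : A ⟶ A) (u : F.obj A) (hu : F.map E u = u) (n : ℕ)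
    (h : ∀ x, P ((⇑E)^[n] x) = (⇑E)^[n] x) : F.map P u = u := by
  obtain ⟨En, hEn, hfix⟩ : ∃ En : A ⟶ A, (∀ x, En x = (⇑E)^[n] x) ∧ F.map En u = u := by
    clear h
    induction n with
    | zero => exact ⟨𝟙 A, fun x => rfl, map_id' F u⟩
    | succ m ih =>
      obtain ⟨En, hEn, hfix⟩ := ih
      refine ⟨En ≫ E, fun x => ?_, by rw [map_comp', hfix, hu]⟩
      rw [Function.iterate_succ_apply', ← hEn]
      rfl
  calc F.map P u = F.map P (F.map En u) := by rw [hfix]
    _ = F.map (En ≫ P) u := (map_comp' F En P u).symm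
    _ = F.map En u := congrArg (fun φ => F.map φ u) (hom_apply_ext fun x => by
        show P (En x) = En x
        rw [hEn, h])
    _ = u := hfix

theorem toFormalElt_along {F : Art Λ k ⥤ Type v} {R' R : CRing Λ k} (η : Family R'.carrier R'.res F)
    (f : R'.carrier →ₐ[Λ] R.carrier) (hf : R.res.comp f = R'.res) :
    (η.along f hf).toFormalElt = η.toFormalElt.push f hf := by
  refine FormalElt.ext' fun n => ?_
  change η.app _ _ = F.map (CRing.truncMapOfHom f hf n) (η.app _ (R'.truncHom n))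
  rw [← η.natural]
  exact congrArg (η.app _) (Subtype.ext (AlgHom.ext fun _ => rfl))

variable [IsNoetherianRing Λ] [Module.Finite Λ k] {F : Art Λ k ⥤ Type v}

/-- An endomorphism preserving a family yields an idempotent preserving it. -/
theorem exists_idempotent (R : CRing Λ k) (ξ : Family R.carrier R.res F) (e : R.carrier →ₐ[Λ] R.carrier)
    (he : R.res.comp e = R.res) (hξ : ξ.along e he = ξ) :
    ∃ (p : R.carrier →ₐ[Λ] R.carrier) (hp : R.res.comp p = R.res), ξ.along p hp = ξ ∧ (∀ x, p (p x) = p x) ∧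
      (Function.Surjective p → Function.Surjective e) := by
  haveI := R.isAdicComplete
  have hle : ∀ N, RingHom.ker R.res ^ (N + 1) ≤ RingHom.ker ((Hull.lvlHom R N).1.comp e) := fun N x hx => by
    rw [RingHom.mem_ker, AlgHom.comp_apply]
    refine (Hull.qmk_eq_zero R.res R.res_surjective _ _).2 ?_
    exact EGA41Lib.mem_pow_of_forall_mem e (fun w hw => RingHom.mem_ker.2
      ((congr($he w)).trans (RingHom.mem_ker.1 hw))) _ x hx
  let E : ∀ N, Hull.lvl R N ⟶ Hull.lvl R N := fun N => Hull.qlift R.res R.res_surjective _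
    ((Hull.lvlHom R N).1.comp e) (AlgHom.ext fun x => congr($he x)) (hle N)
  have hE : ∀ N, HomSet.map (E N) (Hull.lvlHom R N) =
      ⟨(Hull.lvlHom R N).1.comp e, by rw [← AlgHom.comp_assoc, (Hull.lvlHom R N).2, he]⟩ := fun N =>
    Subtype.ext (AlgHom.ext fun x => rfl)
  have hu : ∀ N, F.map (E N) (ξ.app _ (Hull.lvlHom R N)) = ξ.app _ (Hull.lvlHom R N) := fun N => by
    rw [← ξ.natural, hE]
    exact congrArg (fun η : Family R.carrier R.res F => η.app _ (Hull.lvlHom R N)) hξ
  choose P n hP hPid huniq using fun N => exists_fitting (E N)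
  have hcomm : ∀ p N (h : p ≤ N) (x : Hull.lvl R N), Hull.lvlTrans R h (E N x) = E p (Hull.lvlTrans R h x) := by
    intro p N h x
    obtain ⟨r, rfl⟩ := Hull.qmk_surjective R.res R.res_surjective _ _ x
    rfl
  have hcomm' : ∀ p N (h : p ≤ N) (m : ℕ) (x : Hull.lvl R N),
      Hull.lvlTrans R h ((⇑(E N))^[m] x) = (⇑(E p))^[m] (Hull.lvlTrans R h x) := by
    intro p N h m x
    induction m with
    | zero => rfl
    | succ m ih => rw [Function.iterate_succ_apply', Function.iterate_succ_apply', hcomm, ih]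
  have hPt : ∀ p N (h : p ≤ N) (x : Hull.lvl R N), Hull.lvlTrans R h (P N x) = P p (Hull.lvlTrans R h x) := by
    intro p N h x
    refine huniq p _ _ (fun m => ?_) (hP p _).1 (n N + n p) ?_
    · obtain ⟨z, hz⟩ := (hP N x).1 m
      exact ⟨Hull.lvlTrans R h z, by rw [← hcomm', hz]⟩
    · conv_lhs => rw [add_comm, Function.iterate_add_apply, ← hcomm' p N h (n N), (hP N x).2, hcomm',
        ← Function.iterate_add_apply, add_comm]
      rw [Function.iterate_add_apply, Function.iterate_add_apply, (hP p _).2]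
  let φ : ∀ N, HomSet R.carrier R.res (Hull.lvl R N) := fun N => HomSet.map (P N) (Hull.lvlHom R N)
  have hφt : ∀ p N (h : p ≤ N), HomSet.map (Hull.lvlTrans R h) (φ N) = φ p := fun p N h =>
    Subtype.ext (AlgHom.ext fun x => hPt p N h (Hull.qmk R.res R.res_surjective _ _ x))
  obtain ⟨p, hp, hpξ, hpφ⟩ := Hull.exists_along_of_compatible (ξ := ξ) R ξ φ (fun N => by
    rw [ξ.natural]
    refine map_fixed (E N) (P N) _ (hu N) (n N) fun x => hPid N _ fun m => ?_
    obtain ⟨z, hz⟩ := (hP N x).1 m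
    exact ⟨(⇑(E N))^[n N] z, by rw [← Function.iterate_add_apply, add_comm, Function.iterate_add_apply, hz, (hP N x).2]⟩) hφt
  have hidem : ∀ x, p (p x) = p x := fun x => by
    refine eq_of_sub_eq_zero (IsHausdorff.haus (I := maximalIdeal R.carrier) inferInstance _ fun m => ?_)
    rw [SModEq.sub_mem, sub_zero, Ideal.smul_eq_mul, Ideal.mul_top, ← Hull.ker_res_eq]
    refine Ideal.pow_le_pow_right (Nat.le_succ m)
      ((Hull.qmk_eq_zero R.res R.res_surjective (Hull.isNear_ker_pow R m) _).1 ?_)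
    rw [map_sub, sub_eq_zero, hpφ, hpφ]
    show P m (Hull.qmk R.res R.res_surjective _ _ (p x)) = P m _
    rw [hpφ]
    exact hPid m _ (hP m _).1
  refine ⟨p, hp, hpξ, hidem, fun hps => ?_⟩
  have hid : ∀ x, p x = x := fun x => by
    obtain ⟨y, rfl⟩ := hps x
    exact hidem y
  have hEs : ∀ x : R.carrier, ∃ z, e z - x ∈ maximalIdeal R.carrier ^ 2 := fun x => by
    have h1 : P 1 (Hull.qmk R.res R.res_surjective _ (Hull.isNear_ker_pow R 1) x) =
        Hull.qmk R.res R.res_surjective _ (Hull.isNear_ker_pow R 1) x := by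
      have := hpφ 1 x
      rw [hid] at this
      exact this.symm
    obtain ⟨z, hz⟩ := (hP 1 (Hull.qmk R.res R.res_surjective _ (Hull.isNear_ker_pow R 1) x)).1 1
    rw [h1] at hz
    obtain ⟨z, rfl⟩ := Hull.qmk_surjective R.res R.res_surjective _ _ z
    refine ⟨z, ?_⟩
    rw [← Hull.ker_res_eq]
    refine (Hull.qmk_eq_zero R.res R.res_surjective (Hull.isNear_ker_pow R 1) _).1 ?_
    rw [map_sub, sub_eq_zero]
    exact hz
  letI : Algebra R.carrier k := R.res.toRingHom.toAlgebra
  haveI : IsScalarTower Λ R.carrier k := .of_algebraMap_eq fun l => (R.res.commutes l).symm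
  refine surjective_of_derivation_comp_injective R R.carrier R.res_surjective e he fun D₁ D₂ h => ?_
  ext x
  obtain ⟨z, hz⟩ := hEs x
  have hkill : ∀ (D : Derivation Λ R.carrier k), ∀ w ∈ maximalIdeal R.carrier ^ 2, D w = 0 := fun D w hw => by
    rw [sq] at hw
    refine Submodule.mul_induction_on hw (fun a ha b hb => ?_) fun a b ha hb => by rw [map_add, ha, hb, add_zero]
    rw [D.leibniz, Algebra.smul_def, Algebra.smul_def b, show algebraMap R.carrier k a = 0 from (CRing.mem_maximalIdeal_iff R a).1 ha,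
      show algebraMap R.carrier k b = 0 from (CRing.mem_maximalIdeal_iff R b).1 hb, zero_mul, zero_mul, add_zero]
  have h1 := hkill D₁ _ hz
  have h2 := hkill D₂ _ hz
  rw [map_sub, sub_eq_zero] at h1 h2
  rw [← h1, ← h2, h z]

/-- A minimal versal family exists below any versal one. -/
theorem exists_minimal (h0 : H0 F) (R : CRing Λ k) (ξ : Family R.carrier R.res F) (hξ : IsVersal ξ) :
    ∃ (R' : CRing Λ k) (ξ' : Family R'.carrier R'.res F), ξ'.IsMinimalVersal := by
  classical
  let dim : CRing Λ k → ℕ := fun S =>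
    letI : Algebra S.carrier k := S.res.toRingHom.toAlgebra
    Module.finrank k (Derivation Λ S.carrier k)
  have hex : ∃ m, ∃ (S : CRing Λ k) (η : Family S.carrier S.res F), IsVersal η ∧ dim S = m := ⟨_, R, ξ, hξ, rfl⟩
  obtain ⟨S, η, hη, hdim⟩ := Nat.find_spec hex
  refine ⟨S, η, hη, fun T u f hf hpush => ?_⟩
  haveI := S.isAdicComplete
  obtain ⟨η', rfl⟩ := (bijective_toFormalElt T F).2 u
  obtain ⟨g, hg, hge⟩ := Hull.exists_along_of_versal hη h0 T η'
  have he : S.res.comp (f.comp g) = S.res := by rw [← AlgHom.comp_assoc, hf, hg]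
  have hηe : η.along (f.comp g) he = η := by
    refine (bijective_toFormalElt S F).1 ?_
    show (η.along (f.comp g) he).toFormalElt = η.toFormalElt
    refine Eq.trans ?_ hpush
    rw [← toFormalElt_along η' f hf]
    refine congrArg Family.toFormalElt ?_
    rw [← hge]
    rfl
  obtain ⟨p, hp, hpη, hidem, hps⟩ := exists_idempotent S η (f.comp g) he hηe
  suffices hsp : Function.Surjective p from Function.Surjective.of_comp (hps hsp)
  obtain ⟨Q, q, hq, hqs, hqk, hQ⟩ := Completion.exists_quotient S (RingHom.ker p) fun x hx => by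
    rw [CRing.mem_maximalIdeal_iff, ← hp]
    exact (congrArg S.res (RingHom.mem_ker.1 hx)).trans (map_zero _)
  obtain ⟨j, hj, hjq⟩ := hQ S p hp le_rfl
  have hjq' : ∀ x, j (q x) = p x := fun x => congr($hjq x)
  have hqj : ∀ z, q (j z) = z := fun z => by
    obtain ⟨x, rfl⟩ := hqs z
    rw [hjq', ← sub_eq_zero, ← map_sub, ← RingHom.mem_ker, hqk, RingHom.mem_ker, map_sub, hidem, sub_self]
  have hv : IsVersal (η.along q hq) := fun B A μ hμ φ y hy => by
    obtain ⟨ψ, h₁, h₂⟩ := hη μ hμ ⟨φ.1.comp q, by rw [← AlgHom.comp_assoc, φ.2, hq]⟩ y hy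
    refine ⟨⟨ψ.1.comp j, by rw [← AlgHom.comp_assoc, ψ.2, hj]⟩, Subtype.ext (AlgHom.ext fun z => ?_), ?_⟩
    · refine (congr($(congrArg Subtype.val h₁) (j z))).trans ?_
      exact congrArg φ.1 (hqj z)
    · refine Eq.trans ?_ h₂
      conv_rhs => rw [← hpη]
      exact congrArg (η.app B) (Subtype.ext (AlgHom.ext fun x => congrArg ψ.1 (hjq' x)))
  letI : Algebra S.carrier k := S.res.toRingHom.toAlgebra
  letI : Algebra Q.carrier k := Q.res.toRingHom.toAlgebra
  haveI : IsScalarTower Λ S.carrier k := .of_algebraMap_eq fun l => (S.res.commutes l).symm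
  haveI : IsScalarTower Λ Q.carrier k := .of_algebraMap_eq fun l => (Q.res.commutes l).symm
  haveI : Module.Finite k (Derivation Λ S.carrier k) := finite_derivation S.carrier S.res_surjective
  haveI : Module.Finite k (Derivation Λ Q.carrier k) := finite_derivation Q.carrier Q.res_surjective
  let L : Derivation Λ Q.carrier k →ₗ[k] Derivation Λ S.carrier k :=
    { toFun := fun E => Derivation.mk' (E.toLinearMap.comp q.toLinearMap) fun a b => by
        show E (q (a * b)) = a • E (q b) + b • E (q a)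
        rw [map_mul, E.leibniz]
        show Q.res (q a) * E (q b) + Q.res (q b) * E (q a) = S.res a * E (q b) + S.res b * E (q a)
        rw [← hq]
        rfl
      map_add' := fun _ _ => rfl
      map_smul' := fun _ _ => rfl }
  have hLi : Function.Injective L := fun E₁ E₂ h => by
    ext z
    obtain ⟨x, rfl⟩ := hqs z
    exact congr($h x)
  have hle : Module.finrank k (Derivation Λ Q.carrier k) ≤ Module.finrank k (Derivation Λ S.carrier k) :=
    LinearMap.finrank_le_finrank_of_injective hLi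
  have heq : Module.finrank k (Derivation Λ Q.carrier k) = Module.finrank k (Derivation Λ S.carrier k) :=
    le_antisymm hle (hdim.le.trans (Nat.find_min' hex ⟨Q, η.along q hq, hv, rfl⟩))
  have hjs : Function.Surjective j := by
    refine surjective_of_derivation_comp_injective Q S.carrier S.res_surjective j hj fun D₁ D₂ h => ?_
    obtain ⟨E₁, rfl⟩ := (LinearMap.injective_iff_surjective_of_finrank_eq_finrank heq).1 hLi D₁
    obtain ⟨E₂, rfl⟩ := (LinearMap.injective_iff_surjective_of_finrank_eq_finrank heq).1 hLi D₂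
    have : E₁ = E₂ := by
      ext z
      have hz : E₁ (q (j z)) = E₂ (q (j z)) := h z
      rwa [hqj] at hz
    rw [this]
  intro x
  obtain ⟨z, rfl⟩ := hjs x
  obtain ⟨y, rfl⟩ := hqs z
  exact ⟨y, (hjq' y).symm⟩

/-- A versal family is a power series extension of a minimal one. -/
theorem exists_decomposition (h0 : H0 F) (R : CRing Λ k) (ξ : Family R.carrier R.res F) (hξ : IsVersal ξ) :
    ∃ (R' : CRing Λ k) (ξ' : Family R'.carrier R'.res F), ξ'.IsMinimalVersal ∧
      ∃ (g : R'.carrier →ₐ[Λ] R.carrier) (hg : R.res.comp g = R'.res)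
        (n : ℕ) (e : R.carrier ≃ₐ[Λ] MvPowerSeries (Fin n) R'.carrier),
        (∀ a : R'.carrier, e (g a) = algebraMap R'.carrier (MvPowerSeries (Fin n) R'.carrier) a) ∧
        (ξ'.along g hg).toFormalElt = ξ.toFormalElt := by
  classical
  obtain ⟨R', ξ', hmin⟩ := exists_minimal h0 R ξ hξ
  obtain ⟨g₀, hg₀, hg₀e⟩ := Hull.exists_along_of_versal hmin.1 h0 R ξ
  obtain ⟨h, hh, hhe⟩ := Hull.exists_along_of_versal hξ h0 R' ξ'
  have hhs : Function.Surjective (h.comp g₀) := by
    refine hmin.2 R' ξ'.toFormalElt (h.comp g₀) (by rw [← AlgHom.comp_assoc, hh, hg₀]) ?_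
    rw [← toFormalElt_along]
    refine congrArg Family.toFormalElt ?_
    conv_rhs => rw [← hhe, ← hg₀e]
    rfl
  let a := AlgEquiv.ofBijective (h.comp g₀) (S6277.result (h.comp g₀).toRingHom hhs)
  let g : R'.carrier →ₐ[Λ] R.carrier := g₀.comp a.symm.toAlgHom
  have hhg : ∀ x, h (g x) = x := fun x => a.apply_symm_apply x
  have hares : ∀ x, R'.res (a x) = R'.res x := fun x => (congr($hh (g₀ x))).trans (congr($hg₀ x))
  have hg : R.res.comp g = R'.res := AlgHom.ext fun x => by
    show R.res (g₀ (a.symm x)) = R'.res x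
    rw [show R.res (g₀ (a.symm x)) = R'.res (a.symm x) from congr($hg₀ _), ← hares (a.symm x), a.apply_symm_apply]
  have ha' : (ξ'.along (h.comp g₀) (by rw [← AlgHom.comp_assoc, hh, hg₀])) = ξ' := by
    conv_rhs => rw [← hhe, ← hg₀e]
    rfl
  have hge : ξ'.along g hg = ξ := by
    rw [← hg₀e]
    conv_lhs => rw [← ha']
    cases ξ'
    simp only [Family.along, Family.mk.injEq]
    funext B ψ
    congr 1
    refine Subtype.ext (AlgHom.ext fun x => ?_)
    show ψ.1 (g₀ (a.symm (a x))) = ψ.1 (g₀ x)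
    rw [a.symm_apply_apply]
  haveI := R.isAdicComplete
  haveI := R'.isAdicComplete
  letI : Algebra R'.carrier R.carrier := g.toRingHom.toAlgebra
  haveI : IsScalarTower Λ R'.carrier R.carrier := .of_algebraMap_eq fun l => (g.commutes l).symm
  have hgm : ∀ r ∈ maximalIdeal R'.carrier, g r ∈ maximalIdeal R.carrier := fun r hr =>
    CRing.maximalIdeal_le_comap g hg hr
  have hhm : ∀ r ∈ maximalIdeal R.carrier, h r ∈ maximalIdeal R'.carrier := fun r hr =>
    CRing.maximalIdeal_le_comap h hh hr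
  let I : Ideal R.carrier := (maximalIdeal R'.carrier).map g ⊔ maximalIdeal R.carrier ^ 2
  obtain ⟨s₀, hs₀⟩ := (IsNoetherian.noetherian (maximalIdeal R.carrier) : (maximalIdeal R.carrier).FG)
  have hex : ∃ m, ∃ t : Finset R.carrier, t.card = m ∧ (∀ x ∈ t, x ∈ maximalIdeal R.carrier ∧ h x = 0) ∧
      maximalIdeal R.carrier ≤ Ideal.span (t : Set R.carrier) ⊔ I := by
    refine ⟨_, s₀.image fun x => x - g (h x), rfl, fun x hx => ?_, hs₀.symm.le.trans (Submodule.span_le.2 fun x hx => ?_)⟩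
    · obtain ⟨y, hy, rfl⟩ := Finset.mem_image.1 hx
      have hy' : y ∈ maximalIdeal R.carrier := hs₀ ▸ Submodule.subset_span hy
      exact ⟨sub_mem hy' (hgm _ (hhm y hy')), by rw [map_sub, hhg, sub_self]⟩
    · have hx' : x ∈ maximalIdeal R.carrier := hs₀ ▸ Submodule.subset_span hx
      rw [SetLike.mem_coe, ← sub_add_cancel x (g (h x))]
      exact add_mem (Ideal.mem_sup_left (Ideal.subset_span (Finset.mem_coe.2 (Finset.mem_image_of_mem (fun x => x - g (h x)) hx))))
        (Ideal.mem_sup_right (Ideal.mem_sup_left (Ideal.mem_map_of_mem g (hhm x hx'))))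
  obtain ⟨t, htc, htm, htI⟩ := Nat.find_spec hex
  let n := t.card
  let x : Fin n → R.carrier := fun i => (t.equivFin.symm i).1
  have hxm : ∀ i, x i ∈ maximalIdeal R.carrier := fun i => (htm _ (t.equivFin.symm i).2).1
  have hxh : ∀ i, h (x i) = 0 := fun i => (htm _ (t.equivFin.symm i).2).2
  have hxr : Ideal.span (t : Set R.carrier) ≤ Ideal.span (Set.range x) := Ideal.span_mono fun y hy =>
    ⟨t.equivFin ⟨y, hy⟩, by simp [x]⟩
  have hindep : ∀ c : Fin n → R.carrier, ∑ i, c i * x i ∈ I → ∀ i, c i ∈ maximalIdeal R.carrier := by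
    intro c hc j
    by_contra hu
    obtain ⟨u, hu⟩ : IsUnit (c j) := by
      by_contra h'
      exact hu h'
    have hj : x j ∈ Ideal.span ((t.erase (x j) : Finset R.carrier) : Set R.carrier) ⊔ I := by
      have h1 : (∑ i ∈ Finset.univ.erase j, c i * x i) ∈
          Ideal.span ((t.erase (x j) : Finset R.carrier) : Set R.carrier) := by
        refine Ideal.sum_mem _ fun i hi => Ideal.mul_mem_left _ _ (Ideal.subset_span ?_)
        refine Finset.mem_coe.2 (Finset.mem_erase.2 ⟨fun e => (Finset.mem_erase.1 hi).1 ?_, (t.equivFin.symm i).2⟩)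
        exact t.equivFin.symm.injective (Subtype.ext e)
      have h2 : c j * x j = ∑ i, c i * x i - ∑ i ∈ Finset.univ.erase j, c i * x i := by
        rw [← Finset.add_sum_erase _ _ (Finset.mem_univ j), add_sub_cancel_right]
      have h3 : c j * x j ∈ Ideal.span ((t.erase (x j) : Finset R.carrier) : Set R.carrier) ⊔ I := by
        rw [h2]
        exact sub_mem (Ideal.mem_sup_right hc) (Ideal.mem_sup_left h1)
      have := Ideal.mul_mem_left _ (↑u⁻¹ : R.carrier) h3
      rwa [← hu, ← mul_assoc, Units.inv_mul, one_mul] at this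
    refine Nat.find_min hex (m := (t.erase (x j)).card) ?_ ⟨_, rfl, fun y hy => htm y (Finset.mem_of_mem_erase hy), ?_⟩
    · exact lt_of_lt_of_eq (Finset.card_erase_lt_of_mem (t.equivFin.symm j).2) htc
    · refine htI.trans (sup_le (Ideal.span_le.2 fun y hy => ?_) le_sup_right)
      by_cases hy' : y = x j
      · exact hy' ▸ hj
      · exact Ideal.mem_sup_left (Ideal.subset_span (Finset.mem_coe.2 (Finset.mem_erase.2 ⟨hy', hy⟩)))
  let P := VersalPS.psRing R' n
  haveI : IsAdicComplete (maximalIdeal (MvPowerSeries (Fin n) R'.carrier)) (MvPowerSeries (Fin n) R'.carrier) :=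
    P.isAdicComplete
  obtain ⟨θ, hθ⟩ := PSLib.exists_algHom (R := R'.carrier) (A := R.carrier) (maximalIdeal R.carrier) x hxm
  let mP := maximalIdeal (MvPowerSeries (Fin n) R'.carrier)
  have hθm : ∀ z ∈ mP, θ z ∈ maximalIdeal R.carrier := fun z hz => by
    obtain ⟨r, hr, c, rfl⟩ := VersalPS.exists_eq R' n z hz
    rw [map_add, AlgHom.commutes, map_sum]
    exact add_mem (hgm r hr) (Ideal.sum_mem _ fun i _ => by
      rw [map_mul, hθ]; exact Ideal.mul_mem_left _ _ (hxm i))
  have hresθ : ∀ z, R.res (θ z) = P.res z := fun z => by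
    have h1 : z - algebraMap R'.carrier _ (MvPowerSeries.constantCoeff z) ∈ mP :=
      CohenLib.mem_maximalIdeal_mvPowerSeries_iff.2 (by simp [MvPowerSeries.algebraMap_apply])
    have h2 := (CRing.mem_maximalIdeal_iff R _).1 (hθm _ h1)
    rw [map_sub, map_sub, AlgHom.commutes, sub_eq_zero] at h2
    exact h2.trans (congr($hg _))
  have hmR' : ∀ r ∈ maximalIdeal R'.carrier, algebraMap R'.carrier (MvPowerSeries (Fin n) R'.carrier) r ∈ mP :=
    fun r hr => CohenLib.mem_maximalIdeal_mvPowerSeries_iff.2 (by simpa [MvPowerSeries.algebraMap_apply] using hr)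
  have hmap : mP.map θ.toRingHom = maximalIdeal R.carrier := by
    refine le_antisymm (Ideal.map_le_iff_le_comap.2 hθm) (Submodule.le_of_le_smul_of_le_jacobson_bot
      (IsNoetherian.noetherian _) (maximalIdeal_le_jacobson ⊥) (htI.trans ?_))
    refine sup_le ((hxr.trans (Ideal.span_le.2 ?_)).trans le_sup_left) (sup_le ((Ideal.map_le_iff_le_comap.2 fun r hr => ?_)) ?_)
    · rintro _ ⟨i, rfl⟩
      exact hθ i ▸ Ideal.mem_map_of_mem θ.toRingHom (VersalPS.X_mem R' n i)
    · rw [Ideal.mem_comap]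
      refine Submodule.mem_sup_left ?_
      rw [show g r = θ.toRingHom (algebraMap R'.carrier _ r) from (θ.commutes r).symm]
      exact Ideal.mem_map_of_mem θ.toRingHom (hmR' r hr)
    · rw [smul_eq_mul, ← sq]
      exact le_sup_right
  haveI : IsHausdorff (mP.map θ.toRingHom) R.carrier :=
    hmap.symm ▸ (inferInstance : IsHausdorff (maximalIdeal R.carrier) R.carrier)
  have hsurj : Function.Surjective θ :=
    surjective_of_mk_map_comp_surjective (I := mP) (f := θ.toRingHom) fun z => by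
      obtain ⟨b, rfl⟩ := Ideal.Quotient.mk_surjective z
      obtain ⟨r, hr⟩ := R'.res_surjective (R.res b)
      refine ⟨algebraMap R'.carrier _ r, Ideal.Quotient.eq.2 ?_⟩
      rw [hmap, show θ.toRingHom (algebraMap R'.carrier _ r) = g r from θ.commutes r,
        CRing.mem_maximalIdeal_iff, map_sub, show R.res (g r) = R'.res r from congr($hg r), hr, sub_self]
  let θΛ : P.carrier →ₐ[Λ] R.carrier := θ.restrictScalars Λ
  have hθΛ : R.res.comp θΛ = P.res := AlgHom.ext hresθ
  let hθΛ' : HomSet P.carrier P.res (Hull.lvl R 1) :=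
    ⟨(Hull.lvlHom R 1).1.comp θΛ, by rw [← AlgHom.comp_assoc, (Hull.lvlHom R 1).2, hθΛ]⟩
  let aP : R'.carrier →ₐ[Λ] P.carrier := IsScalarTower.toAlgHom Λ R'.carrier (MvPowerSeries (Fin n) R'.carrier)
  have haP : P.res.comp aP = R'.res := AlgHom.ext fun r => by
    show R'.res (MvPowerSeries.constantCoeff (algebraMap R'.carrier (MvPowerSeries (Fin n) R'.carrier) r)) = R'.res r
    simp [MvPowerSeries.algebraMap_apply]
  let η : Family P.carrier P.res F := ξ'.along aP haP
  have hηθ : ∀ (B : Art Λ k) (φ : HomSet R.carrier R.res B),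
      η.app B ⟨φ.1.comp θΛ, by rw [← AlgHom.comp_assoc, φ.2, hθΛ]⟩ = ξ.app B φ := fun B φ => by
    conv_rhs => rw [← hge]
    exact congrArg (ξ'.app B) (Subtype.ext (AlgHom.ext fun r => congrArg φ.1 (θ.commutes r)))
  have hle : RingHom.ker P.res ^ (1 + 1) ≤ RingHom.ker ((Hull.lvlHom R 1).1.comp θΛ) := fun z hz => by
    rw [RingHom.mem_ker, AlgHom.comp_apply]
    refine (Hull.qmk_eq_zero R.res R.res_surjective _ _).2 ?_
    exact EGA41Lib.mem_pow_of_forall_mem θΛ (fun w hw => RingHom.mem_ker.2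
      ((hresθ w).trans (RingHom.mem_ker.1 hw))) _ z hz
  let μ : Hull.lvl P 1 ⟶ Hull.lvl R 1 := Hull.qlift P.res P.res_surjective _
    ((Hull.lvlHom R 1).1.comp θΛ) (AlgHom.ext fun z => hresθ z) hle
  have hμ : Function.Surjective μ := fun z => by
    obtain ⟨b, hb⟩ := Hull.qmk_surjective R.res R.res_surjective _ _ z
    obtain ⟨c, rfl⟩ := hsurj b
    exact ⟨Hull.qmk P.res P.res_surjective _ _ c, hb⟩
  obtain ⟨ψ₁, hψ₁, hψ₁'⟩ := hξ μ hμ (Hull.lvlHom R 1) (η.app _ (Hull.lvlHom P 1)) (by
    rw [← η.natural, ← hηθ]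
    exact congrArg (η.app _) (Subtype.ext (AlgHom.ext fun _ => rfl)))
  let T : ℕ → Type u := fun m => {ψ : HomSet R.carrier R.res (Hull.lvl P (m + 1)) //
    ξ.app _ ψ = η.app _ (Hull.lvlHom P (m + 1))}
  have hηt : ∀ p m (h : p ≤ m), F.map (Hull.lvlTrans P h) (η.app _ (Hull.lvlHom P m)) = η.app _ (Hull.lvlHom P p) :=
    fun p m h => by
      rw [← η.natural]
      exact congrArg (η.app _) (Subtype.ext (AlgHom.ext fun _ => rfl))
  have hstep : ∀ m (ψ : T m), ∃ ψ' : T (m + 1),
      HomSet.map (Hull.lvlTrans P (Nat.le_succ (m + 1))) ψ'.1 = ψ.1 := fun m ψ => by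
    obtain ⟨ψ', h₁, h₂⟩ := hξ (Hull.lvlTrans P (Nat.le_succ (m + 1))) (Hull.qTrans_surjective _ _ _ _ _) ψ.1
      (η.app _ (Hull.lvlHom P (m + 2))) ((hηt _ _ _).trans ψ.2.symm)
    exact ⟨⟨ψ', h₂⟩, h₁⟩
  choose next hnext using hstep
  let seq : ∀ m, T m := fun m => Nat.rec ⟨ψ₁, hψ₁'⟩ next m
  let φs : ∀ m, HomSet R.carrier R.res (Hull.lvl P m) := fun m =>
    HomSet.map (Hull.lvlTrans P (Nat.le_succ m)) (seq m).1
  have hcomp : ∀ a b c (h : a ≤ b) (h' : b ≤ c) (ψ : HomSet R.carrier R.res (Hull.lvl P c)),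
      HomSet.map (Hull.lvlTrans P h) (HomSet.map (Hull.lvlTrans P h') ψ) = HomSet.map (Hull.lvlTrans P (h.trans h')) ψ :=
    fun a b c h h' ψ => Subtype.ext (AlgHom.ext fun z =>
      congr($(Hull.qTrans_comp P.res P.res_surjective (Hull.isNear_ker_pow P c) (Hull.isNear_ker_pow P b) (Hull.isNear_ker_pow P a)
        (Ideal.pow_le_pow_right (Nat.succ_le_succ h')) (Ideal.pow_le_pow_right (Nat.succ_le_succ h))) (ψ.1 z)))
  have hφt : ∀ p m (h : p ≤ m), HomSet.map (Hull.lvlTrans P h) (φs m) = φs p := by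
    intro p m h
    induction m, h using Nat.le_induction with
    | base => exact hcomp p p (p + 1) le_rfl (Nat.le_succ p) (seq p).1
    | succ m h ih =>
      rw [← ih]
      refine (hcomp p (m + 1) (m + 2) _ _ (seq (m + 1)).1).trans ?_
      show _ = HomSet.map (Hull.lvlTrans P h) (HomSet.map (Hull.lvlTrans P (Nat.le_succ m)) (seq m).1)
      rw [show (seq m).1 = HomSet.map (Hull.lvlTrans P (Nat.le_succ (m + 1))) (seq (m + 1)).1 from
        (hnext m (seq m)).symm, hcomp, hcomp]
  obtain ⟨s, hs, -, hsφ⟩ := Hull.exists_along_of_compatible (ξ := ξ) P η φs (fun m => by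
    rw [ξ.natural, (seq m).2, hηt]) hφt
  have he₁ : ∀ b, θ (s b) - b ∈ maximalIdeal R.carrier ^ 2 := fun b => by
    have h1 : Hull.qmk P.res P.res_surjective _ (Hull.isNear_ker_pow P 1) (s b) = ψ₁.1 b := by
      rw [hsφ 1 b]
      show (HomSet.map (Hull.lvlTrans P (Nat.le_succ 1)) (seq 1).1).1 b = ψ₁.1 b
      rw [show HomSet.map (Hull.lvlTrans P (Nat.le_succ 1)) (seq 1).1 = (seq 0).1 from hnext 0 (seq 0)]
      rfl
    have h2 : Hull.qmk R.res R.res_surjective _ (Hull.isNear_ker_pow R 1) (θ (s b)) =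
        Hull.qmk R.res R.res_surjective _ (Hull.isNear_ker_pow R 1) b :=
      (congrArg μ.toAlgHom h1).trans (congr($(congrArg Subtype.val hψ₁) b))
    rw [← Hull.ker_res_eq]
    refine (Hull.qmk_eq_zero R.res R.res_surjective (Hull.isNear_ker_pow R 1) _).1 ?_
    rw [map_sub]
    exact sub_eq_zero.2 h2
  -- the map is an isomorphism on cotangent spaces
  have hker2 : ∀ z, θ z ∈ maximalIdeal R.carrier ^ 2 → z ∈ mP ^ 2 := fun z hz => by
    have hzm : z ∈ mP := fun hu => (IsLocalRing.mem_maximalIdeal _).1 (Ideal.pow_le_self two_ne_zero hz) (hu.map θ)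
    obtain ⟨r, hr, c, rfl⟩ := VersalPS.exists_eq R' n z hzm
    have e1 : θ (algebraMap R'.carrier _ r + ∑ i, c i * MvPowerSeries.X i) = g r + ∑ i, θ (c i) * x i := by
      rw [map_add, AlgHom.commutes, map_sum]
      simp only [map_mul, hθ]
      rfl
    rw [e1] at hz
    have h2 : ∀ i, θ (c i) ∈ maximalIdeal R.carrier := hindep (fun i => θ (c i)) (by
      have := sub_mem (Ideal.mem_sup_right (S := (maximalIdeal R'.carrier).map g) hz)
        (Ideal.mem_sup_left (Ideal.mem_map_of_mem g hr))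
      rwa [add_sub_cancel_left] at this)
    have hc : ∀ i, c i ∈ mP := fun i hu => h2 i (hu.map θ)
    have h3 : r ∈ maximalIdeal R'.carrier ^ 2 := by
      have h4 : h (g r + ∑ i, θ (c i) * x i) = r := by
        rw [map_add, hhg, map_sum]
        simp only [map_mul, hxh, mul_zero, Finset.sum_const_zero, add_zero]
      rw [← h4]
      exact EGA41Lib.mem_pow_of_forall_mem h hhm 2 _ hz
    refine add_mem (EGA41Lib.mem_pow_of_forall_mem (algebraMap R'.carrier (MvPowerSeries (Fin n) R'.carrier)) hmR' 2 r h3)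
      (Ideal.sum_mem _ fun i _ => ?_)
    rw [sq]
    exact Ideal.mul_mem_mul (hc i) (VersalPS.X_mem R' n i)
  have hb := SmoothHull.bijective_of_congr_sq P (s.comp θΛ) fun z => hker2 _ (by
    show θΛ (s (θΛ z) - z) ∈ maximalIdeal R.carrier ^ 2
    rw [map_sub]
    exact he₁ (θ z))
  have hinj : Function.Injective θ := fun b c hbc => hb.1 (congrArg s hbc)
  let eθ : MvPowerSeries (Fin n) R'.carrier ≃ₐ[Λ] R.carrier := AlgEquiv.ofBijective (θ.restrictScalars Λ) ⟨hinj, hsurj⟩
  exact ⟨R', ξ', hmin, g, hg, n, eθ.symm, fun r => (AlgEquiv.symm_apply_eq eθ).2 (θ.commutes r).symm, by rw [hge]⟩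

end Groth.Agent.ArtFunLib.Minimal2
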