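import Groth.Agent.ArtFunLib.Basic

/-! Fibre-product squares of functors of Artin rings and small extensions. -/

universe u v

open CategoryTheory ArtFun ArtFun.Art

namespace Groth.Agent.ArtFunLib

variable {Λ : Type u} {k : Type u} [CommRing Λ] [Field k] [Algebra Λ k]

theorem map_comp' (F : Art Λ k ⥤ Type v) {A B C : Art Λ k} (f : A ⟶ B) (g : B ⟶ C) (x : F.obj A) :
    F.map (f ≫ g) x = F.map g (F.map f x) := by
  rw [F.map_comp]; rfl

theorem map_id' (F : Art Λ k ⥤ Type v) {A : Art Λ k} (x : F.obj A) : F.map (𝟙 A) x = x := by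
  rw [F.map_id]; rfl

theorem map_bijective_of_isIso (F : Art Λ k ⥤ Type v) {A B : Art Λ k} (f : A ⟶ B) [IsIso f] :
    Function.Bijective (F.map f) := by
  refine Function.bijective_iff_has_inverse.2 ⟨F.map (inv f), fun x => ?_, fun x => ?_⟩
  · rw [← map_comp', IsIso.hom_inv_id, map_id']
  · rw [← map_comp', IsIso.inv_hom_id, map_id']

theorem eq_zero_of_mul_eq_zero (B : Art Λ k) {t r : B} (ht : t ≠ 0) (h : r * t = 0) : B.res r = 0 := by
  by_contra hr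
  exact ht (((isUnit_iff_res_ne_zero B r).2 hr).mul_right_eq_zero.1 h)

/-- The map `B ×_A B → k[ε]`, `(b, b') ↦ res b + ((b' - b)/t) ε`, of a small extension. -/
theorem exists_diff {B A P : Art Λ k} (p : B ⟶ A) (hp : IsSmallExt p) (t : B)
    (ht : RingHom.ker p.toAlgHom = Ideal.span {t}) (p₁ p₂ : P ⟶ B) (hP : IsFibreProd p₁ p₂ p p) :
    ∃ g : P ⟶ dual Λ k,
      (∀ z, ∃ r : B, p₂ z - p₁ z = r * t ∧ B.res r = TrivSqZeroExt.snd (g z)) ∧
      (∀ (z : P) (r : B), p₂ z - p₁ z = r * t → TrivSqZeroExt.snd (g z) = B.res r) ∧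
      IsFibreProd p₁ g (toBase B) (toBase (dual Λ k)) := by
  have ht0 : t ≠ 0 := fun e => hp.2.1 (by rw [ht, e, Ideal.span_singleton_eq_bot])
  have hexists : ∀ z, ∃ r : B, p₂ z - p₁ z = r * t := fun z => by
    have : p₂ z - p₁ z ∈ RingHom.ker p.toAlgHom := by
      rw [mem_ker_iff, map_sub, hP.w_apply, sub_self]
    rw [ht, Ideal.mem_span_singleton'] at this
    obtain ⟨r, hr⟩ := this
    exact ⟨r, hr.symm⟩
  choose q hq using hexists
  have huniq : ∀ z (r : B), p₂ z - p₁ z = r * t → B.res (q z) = B.res r := fun z r hr => by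
    rw [← sub_eq_zero, ← map_sub]
    exact eq_zero_of_mul_eq_zero B ht0 (by rw [sub_mul, ← hq, hr, sub_self])
  have hone : p₂ (1 : P) - p₁ (1 : P) = 0 * t := by
    rw [map_one p₂.toAlgHom, map_one p₁.toAlgHom, sub_self, zero_mul]
  have hzero : p₂ (0 : P) - p₁ (0 : P) = 0 * t := by
    rw [map_zero p₂.toAlgHom, map_zero p₁.toAlgHom, sub_self, zero_mul]
  have hadd : ∀ x y, p₂ (x + y) - p₁ (x + y) = (q x + q y) * t := fun x y => by
    rw [map_add p₂.toAlgHom, map_add p₁.toAlgHom, add_mul, ← hq, ← hq]; abel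
  have hmul : ∀ x y, p₂ (x * y) - p₁ (x * y) = (q x * p₂ y + p₁ x * q y) * t := fun x y => by
    rw [map_mul p₂.toAlgHom, map_mul p₁.toAlgHom, add_mul, mul_right_comm, ← hq,
      mul_assoc (p₁ x), ← hq]
    ring
  let G : P →ₐ[Λ] DualNumber k :=
    { toFun := fun z => (P.res z, B.res (q z))
      map_one' := TrivSqZeroExt.ext (map_one _) (by
        change B.res (q 1) = _
        rw [huniq _ _ hone, map_zero, TrivSqZeroExt.snd_one])
      map_zero' := TrivSqZeroExt.ext (map_zero _) (by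
        change B.res (q 0) = _
        rw [huniq _ _ hzero, map_zero, TrivSqZeroExt.snd_zero])
      map_add' := fun x y => TrivSqZeroExt.ext (map_add _ _ _) (by
        change B.res (q (x + y)) = B.res (q x) + B.res (q y)
        rw [huniq _ _ (hadd x y), map_add])
      map_mul' := fun x y => TrivSqZeroExt.ext (map_mul _ _ _) (by
        change B.res (q (x * y)) = P.res x • B.res (q y) + MulOpposite.op (P.res y) • B.res (q x)
        rw [huniq _ _ (hmul x y), map_add, map_mul, map_mul, res_app p₂, res_app p₁,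
          op_smul_eq_smul, smul_eq_mul, smul_eq_mul]
        ring)
      commutes' := fun c => TrivSqZeroExt.ext (P.res.commutes c) (by
        change B.res (q (algebraMap Λ P c)) = _
        rw [huniq _ (0 : B) (by
          rw [p₂.toAlgHom.commutes, p₁.toAlgHom.commutes, sub_self, zero_mul]), map_zero,
          TrivSqZeroExt.algebraMap_eq_inl', TrivSqZeroExt.snd_inl]) }
  let g : P ⟶ dual Λ k := ⟨G, rfl⟩
  refine ⟨g, fun z => ⟨q z, hq z, rfl⟩, fun z r hr => huniq z r hr, ?_, ?_, ?_⟩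
  · rw [eq_toBase (p₁ ≫ toBase B), eq_toBase (g ≫ toBase _)]
  · intro z₁ z₂ h₁ h₂
    refine hP.inj _ _ h₁ ?_
    have hr : B.res (q z₁) = B.res (q z₂) := congrArg TrivSqZeroExt.snd h₂
    have hm : q z₁ - q z₂ ∈ IsLocalRing.maximalIdeal B := by
      rw [mem_maximalIdeal_iff, map_sub, hr, sub_self]
    have := Ideal.mul_mem_mul hm (ht ▸ Ideal.mem_span_singleton_self t : t ∈ RingHom.ker p.toAlgHom)
    rw [hp.2.2.2, Ideal.mem_bot, sub_mul, ← hq, ← hq, h₁] at this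
    simpa [sub_eq_zero] using this
  · intro b a e
    obtain ⟨r, hr⟩ := B.res_surjective a.snd
    obtain ⟨z, hz₁, hz₂⟩ := hP.surj b (b + r * t) (by
      have hk : r * t ∈ RingHom.ker p.toAlgHom := by
        rw [ht]; exact Ideal.mul_mem_left _ r (Ideal.mem_span_singleton_self t)
      rw [map_add, (mem_ker_iff p _).1 hk, add_zero])
    refine ⟨z, hz₁, TrivSqZeroExt.ext ?_ ?_⟩
    · change P.res z = a.fst
      rw [← res_app p₁, hz₁]
      exact e
    · change B.res (q z) = a.snd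
      rw [huniq z r (by rw [hz₁, hz₂]; abel), hr]

/-- Squares over `f''` have surjective comparison map. -/
def SqSurj (F : Art Λ k ⥤ Type v) {A A'' : Art Λ k} (f'' : A'' ⟶ A) : Prop :=
  ∀ ⦃B A' : Art Λ k⦄ (p' : B ⟶ A') (p'' : B ⟶ A'') (f' : A' ⟶ A) (h : IsFibreProd p' p'' f' f''),
    Function.Surjective (cmp F h)

/-- Squares over `f''` have injective comparison map. -/
def SqInj (F : Art Λ k ⥤ Type v) {A A'' : Art Λ k} (f'' : A'' ⟶ A) : Prop :=
  ∀ ⦃B A' : Art Λ k⦄ (p' : B ⟶ A') (p'' : B ⟶ A'') (f' : A' ⟶ A) (h : IsFibreProd p' p'' f' f''),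
    Function.Injective (cmp F h)

theorem cmp_ext {F : Art Λ k ⥤ Type v} {B A A' A'' : Art Λ k} {p' : B ⟶ A'} {p'' : B ⟶ A''}
    {f' : A' ⟶ A} {f'' : A'' ⟶ A} {h : IsFibreProd p' p'' f' f''} (hi : Function.Injective (cmp F h))
    {z₁ z₂ : F.obj B} (e' : F.map p' z₁ = F.map p' z₂) (e'' : F.map p'' z₁ = F.map p'' z₂) :
    z₁ = z₂ := hi (FibProd.ext e' e'')

theorem exists_of_cmp_surjective {F : Art Λ k ⥤ Type v} {B A A' A'' : Art Λ k} {p' : B ⟶ A'}
    {p'' : B ⟶ A''} {f' : A' ⟶ A} {f'' : A'' ⟶ A} {h : IsFibreProd p' p'' f' f''}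
    (hs : Function.Surjective (cmp F h)) (x' : F.obj A') (x'' : F.obj A'')
    (e : F.map f' x' = F.map f'' x'') : ∃ z, F.map p' z = x' ∧ F.map p'' z = x'' := by
  obtain ⟨z, hz⟩ := hs ⟨(x', x''), e⟩
  exact ⟨z, congrArg (fun t => t.1.1) hz, congrArg (fun t => t.1.2) hz⟩

theorem fst_isIso {B A A' A'' : Art Λ k} {p' : B ⟶ A'} {p'' : B ⟶ A''}
    {f' : A' ⟶ A} {f'' : A'' ⟶ A} (h : IsFibreProd p' p'' f' f'') [IsIso f''] : IsIso p' :=
  isIso_of_bijective p' ⟨fun a b e => h.inj _ _ e ((bijective_of_isIso f'').1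
    (by rw [← h.w_apply, ← h.w_apply, e])), fst_surjective h (bijective_of_isIso f'').2⟩

theorem sqInj_of_isIso (F : Art Λ k ⥤ Type v) {A A'' : Art Λ k} (f'' : A'' ⟶ A) [IsIso f''] :
    SqInj F f'' := by
  intro B A' p' p'' f' h z₁ z₂ e
  haveI := fst_isIso h
  exact (map_bijective_of_isIso F p').1 (congrArg (fun t => t.1.1) e)

theorem sqSurj_of_isIso (F : Art Λ k ⥤ Type v) {A A'' : Art Λ k} (f'' : A'' ⟶ A) [IsIso f''] :
    SqSurj F f'' := by
  intro B A' p' p'' f' h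
  haveI := fst_isIso h
  rintro ⟨⟨x', x''⟩, e⟩
  obtain ⟨z, hz⟩ := (map_bijective_of_isIso F p').2 x'
  refine ⟨z, FibProd.ext hz ((map_bijective_of_isIso F f'').1 ?_)⟩
  change F.map f'' (F.map p'' z) = F.map f'' x''
  rw [← map_comp', ← h.w, map_comp', hz]
  exact e

variable [IsNoetherianRing Λ] [Module.Finite Λ k]

theorem exists_square_factor {B A A₁ A' A'' : Art Λ k} {p' : B ⟶ A'} {p'' : B ⟶ A''}
    {f' : A' ⟶ A} (p : A'' ⟶ A₁) (q : A₁ ⟶ A) (hq : Function.Surjective q)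
    (h : IsFibreProd p' p'' f' (p ≫ q)) :
    ∃ (C : Art Λ k) (π₁ : C ⟶ A') (π₂ : C ⟶ A₁) (c : B ⟶ C),
      IsFibreProd π₁ π₂ f' q ∧ IsFibreProd c p'' π₂ p ∧ c ≫ π₁ = p' ∧ c ≫ π₂ = p'' ≫ p := by
  obtain ⟨C, π₁, π₂, hC⟩ := exists_isFibreProd f' q hq
  have w : p' ≫ f' = (p'' ≫ p) ≫ q := by rw [Category.assoc]; exact h.w
  refine ⟨C, π₁, π₂, fibLift hC p' (p'' ≫ p) w, hC, ?_, fibLift_fst _ _ _ _, fibLift_snd _ _ _ _⟩
  refine ⟨fibLift_snd _ _ _ _, fun b₁ b₂ e₁ e₂ => h.inj _ _ ?_ e₂, fun x a e => ?_⟩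
  · have := congrArg (fun φ : B ⟶ A' => φ b₁) (fibLift_fst hC p' (p'' ≫ p) w)
    have h2 := congrArg (fun φ : B ⟶ A' => φ b₂) (fibLift_fst hC p' (p'' ≫ p) w)
    rw [← this, ← h2]
    exact congrArg π₁ e₁
  · obtain ⟨b, hb₁, hb₂⟩ := h.surj (π₁ x) a (by rw [hC.w_apply, e]; rfl)
    refine ⟨b, hC.inj _ _ ?_ ?_, hb₂⟩
    · exact (congrArg (fun φ : B ⟶ A' => φ b) (fibLift_fst hC p' (p'' ≫ p) w)).trans hb₁
    · refine (congrArg (fun φ : B ⟶ A₁ => φ b) (fibLift_snd hC p' (p'' ≫ p) w)).trans ?_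
      change p (p'' b) = π₂ x
      rw [hb₂, e]

theorem sqSurj_comp (F : Art Λ k ⥤ Type v) {A A₁ A'' : Art Λ k} (p : A'' ⟶ A₁) (q : A₁ ⟶ A)
    (hq : Function.Surjective q) (h₁ : SqSurj F p) (h₂ : SqSurj F q) : SqSurj F (p ≫ q) := by
  intro B A' p' p'' f' h
  obtain ⟨C, π₁, π₂, c, hC, hB, hc₁, -⟩ := exists_square_factor p q hq h
  rintro ⟨⟨x', x''⟩, e⟩
  obtain ⟨y, hy₁, hy₂⟩ := exists_of_cmp_surjective (h₂ π₁ π₂ f' hC) x' (F.map p x'')
    (by rw [← map_comp']; exact e)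
  obtain ⟨z, hz₁, hz₂⟩ := exists_of_cmp_surjective (h₁ c p'' π₂ hB) y x'' hy₂
  exact ⟨z, FibProd.ext (by change F.map p' z = x'; rw [← hc₁, map_comp', hz₁, hy₁]) hz₂⟩

theorem sqInj_comp (F : Art Λ k ⥤ Type v) {A A₁ A'' : Art Λ k} (p : A'' ⟶ A₁) (q : A₁ ⟶ A)
    (hq : Function.Surjective q) (h₁ : SqInj F p) (h₂ : SqInj F q) : SqInj F (p ≫ q) := by
  intro B A' p' p'' f' h
  obtain ⟨C, π₁, π₂, c, hC, hB, hc₁, hc₂⟩ := exists_square_factor p q hq h
  intro z₁ z₂ e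
  have e' : F.map p' z₁ = F.map p' z₂ := congrArg (fun t => t.1.1) e
  have e'' : F.map p'' z₁ = F.map p'' z₂ := congrArg (fun t => t.1.2) e
  refine cmp_ext (h₁ c p'' π₂ hB) (cmp_ext (h₂ π₁ π₂ f' hC) ?_ ?_) e''
  · rw [← map_comp', ← map_comp', hc₁, e']
  · rw [← map_comp', ← map_comp', hc₂, map_comp', map_comp', e'']

theorem sqSurj_of_small (F : Art Λ k ⥤ Type v)
    (h : ∀ ⦃A A'' : Art Λ k⦄ (f : A'' ⟶ A), IsSmallExt f → SqSurj F f)
    ⦃A A'' : Art Λ k⦄ (f : A'' ⟶ A) (hf : Function.Surjective f) : SqSurj F f :=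
  surjective_induction (fun _ _ f => SqSurj F f) (fun _ _ f _ => sqSurj_of_isIso F f) h
    (fun _ _ _ p q _ hq => sqSurj_comp F p q hq) f hf

theorem sqInj_of_small (F : Art Λ k ⥤ Type v)
    (h : ∀ ⦃A A'' : Art Λ k⦄ (f : A'' ⟶ A), IsSmallExt f → SqInj F f)
    ⦃A A'' : Art Λ k⦄ (f : A'' ⟶ A) (hf : Function.Surjective f) : SqInj F f :=
  surjective_induction (fun _ _ f => SqInj F f) (fun _ _ f _ => sqInj_of_isIso F f) h
    (fun _ _ _ p q _ hq => sqInj_comp F p q hq) f hf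

theorem s1_of_hbar {F : Art Λ k ⥤ Type v} (h : Hbar F) : S1 F :=
  fun _ _ _ _ p' p'' f' f'' hsq hf =>
    sqSurj_of_small F (fun _ _ f hf _ _ a b c hh => h a b c f hh hf) f'' hf p' p'' f' hsq

omit [IsNoetherianRing Λ] [Module.Finite Λ k] in
theorem hbar_of_s1 {F : Art Λ k ⥤ Type v} (h : S1 F) : Hbar F :=
  fun _ _ _ _ p' p'' f' f'' hsq hf => h p' p'' f' f'' hsq hf.1

theorem sqInj_small_of_hbar_heps_hsq {F : Art Λ k ⥤ Type v} (h1 : Hbar F) (h2 : Heps F) (h4 : HSq F)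
    {A A'' : Art Λ k} (f'' : A'' ⟶ A) (hf : IsSmallExt f'') : SqInj F f'' := by
  intro B A' p' p'' f' h z₁ z₂ e
  have e' : F.map p' z₁ = F.map p' z₂ := congrArg (fun t => t.1.1) e
  have e'' : F.map p'' z₁ = F.map p'' z₂ := congrArg (fun t => t.1.2) e
  have hp' : IsSmallExt p' := isSmallExt_fst h hf
  obtain ⟨t, ht⟩ := hp'.2.2.1
  rw [Ideal.submodule_span_eq] at ht
  obtain ⟨W, q₁, q₂, hW⟩ := exists_isFibreProd p' p' hp'.1
  obtain ⟨V, r₁, r₂, hV⟩ := exists_isFibreProd f'' f'' hf.1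
  have ht'' : RingHom.ker f''.toAlgHom = Ideal.span {p'' t} := by
    refine le_antisymm (fun x hx => ?_) ((Ideal.span_singleton_le_iff_mem _).2 ?_)
    · obtain ⟨b, hb₁, hb₂⟩ := h.surj 0 x (by rw [map_zero]; exact ((mem_ker_iff _ _).1 hx).symm)
      have hb : b ∈ RingHom.ker p'.toAlgHom := (mem_ker_iff _ _).2 hb₁
      rw [ht, Ideal.mem_span_singleton'] at hb
      obtain ⟨r, rfl⟩ := hb
      rw [← hb₂, map_mul p''.toAlgHom]
      exact Ideal.mul_mem_left _ _ (Ideal.mem_span_singleton_self _)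
    · rw [mem_ker_iff, ← h.w_apply, (mem_ker_iff p' t).1 (ht ▸ Ideal.mem_span_singleton_self t),
        map_zero]
  obtain ⟨g, hg, -, hgsq⟩ := exists_diff p' hp' t ht q₁ q₂ hW
  obtain ⟨g'', -, hg''u, -⟩ := exists_diff f'' hf _ ht'' r₁ r₂ hV
  obtain ⟨w, hw₁, hw₂⟩ := exists_of_cmp_surjective (h1 q₁ q₂ p' p' hW hp') z₁ z₂ e'
  have wπ : (q₁ ≫ p'') ≫ f'' = (q₂ ≫ p'') ≫ f'' := by
    rw [Category.assoc, Category.assoc, ← h.w, ← Category.assoc, ← Category.assoc, hW.w]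
  let π : W ⟶ V := fibLift hV (q₁ ≫ p'') (q₂ ≫ p'') wπ
  let Δ : B ⟶ W := fibLift hW (𝟙 B) (𝟙 B) rfl
  let Δ'' : A'' ⟶ V := fibLift hV (𝟙 A'') (𝟙 A'') rfl
  have hπ : π ≫ g'' = g := hom_apply_ext fun z => by
    obtain ⟨r, hr, hr'⟩ := hg z
    refine TrivSqZeroExt.ext ?_ ?_
    · have h1 := res_app (π ≫ g'') z
      have h2 := res_app g z
      exact h1.trans h2.symm
    · change TrivSqZeroExt.snd (g'' (π z)) = _
      rw [← hr', ← res_app p'' r]
      refine hg''u (π z) (p'' r) ?_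
      have a1 : r₁ (π z) = p'' (q₁ z) :=
        congrArg (fun φ : W ⟶ A'' => φ z) (fibLift_fst hV (q₁ ≫ p'') (q₂ ≫ p'') wπ)
      have a2 : r₂ (π z) = p'' (q₂ z) :=
        congrArg (fun φ : W ⟶ A'' => φ z) (fibLift_snd hV (q₁ ≫ p'') (q₂ ≫ p'') wπ)
      rw [a1, a2, ← map_sub p''.toAlgHom, hr, map_mul p''.toAlgHom]
  have hΔ'' : Δ'' ≫ g'' = toBase A'' ≫ baseToDual := hom_apply_ext fun a => by
    refine TrivSqZeroExt.ext ?_ ?_
    · exact (res_app (Δ'' ≫ g'') a).trans (res_app (toBase A'' ≫ baseToDual) a).symm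
    · change TrivSqZeroExt.snd (g'' (Δ'' a)) = _
      have a1 : r₁ (Δ'' a) = a :=
        congrArg (fun φ : A'' ⟶ A'' => φ a) (fibLift_fst hV (𝟙 A'') (𝟙 A'') rfl)
      have a2 : r₂ (Δ'' a) = a :=
        congrArg (fun φ : A'' ⟶ A'' => φ a) (fibLift_snd hV (𝟙 A'') (𝟙 A'') rfl)
      rw [hg''u (Δ'' a) 0 (by rw [a1, a2, sub_self, zero_mul]), map_zero]
      exact (TrivSqZeroExt.snd_inl k _).symm
  have hΔπ : Δ ≫ π = p'' ≫ Δ'' := by
    refine fib_hom_ext hV ?_ ?_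
    · rw [Category.assoc, Category.assoc, fibLift_fst, fibLift_fst, Category.comp_id,
        ← Category.assoc, fibLift_fst, Category.id_comp]
    · rw [Category.assoc, Category.assoc, fibLift_snd, fibLift_snd, Category.comp_id,
        ← Category.assoc, fibLift_snd, Category.id_comp]
  have hv : F.map π w = F.map Δ'' (F.map p'' z₁) := by
    refine cmp_ext (h4 r₁ r₂ f'' hV hf).1 ?_ ?_
    · rw [← map_comp', fibLift_fst, map_comp', hw₁, ← map_comp', fibLift_fst, map_id']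
    · rw [← map_comp', fibLift_snd, map_comp', hw₂, ← e'', ← map_comp', fibLift_snd, map_id']
  have hw : w = F.map Δ z₁ := by
    refine cmp_ext (h2 q₁ g hgsq).1 ?_ ?_
    · rw [hw₁, ← map_comp', fibLift_fst, map_id']
    · rw [← hπ, map_comp', hv, ← map_comp', ← map_comp', ← map_comp', ← Category.assoc Δ,
        hΔπ, Category.assoc]
  rw [← hw₂, hw, ← map_comp', fibLift_snd, map_id']

/-- `H̄`, `H_ε` and `H` give bijective comparison maps along every surjection. -/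
theorem bijective_cmp_of_hbar_heps_hsq {F : Art Λ k ⥤ Type v} (h1 : Hbar F) (h2 : Heps F) (h4 : HSq F)
    ⦃B A A' A'' : Art Λ k⦄ (p' : B ⟶ A') (p'' : B ⟶ A'') (f' : A' ⟶ A) (f'' : A'' ⟶ A)
    (h : IsFibreProd p' p'' f' f'') (hf : Function.Surjective f'') : Function.Bijective (cmp F h) :=
  ⟨sqInj_of_small F (fun _ _ f hf => sqInj_small_of_hbar_heps_hsq h1 h2 h4 f hf) f'' hf p' p'' f' h,
    s1_of_hbar h1 p' p'' f' f'' h hf⟩

end Groth.Agent.ArtFunLib
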