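import Groth.Agent.ArtFunLib.SmoothHull
import Groth.Agent.ArtFunLib.Square
import Groth.Agent.ArtFunLib.Minimal2

/-!
# Versal lifting along surjections of coefficient rings
-/

set_option autoImplicit false

universe u v

open CategoryTheory ArtFun IsLocalRing

namespace Groth.Agent.ArtFunLib.CompleteLift

variable {Λ : Type u} {k : Type u} [CommRing Λ] [Field k] [Algebra Λ k] [IsNoetherianRing Λ] [Module.Finite Λ k]
variable {F : Art Λ k ⥤ Type v}

theorem exists_lift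
    (hRS : ∀ ⦃B A A₁ A₂ : Art Λ k⦄ (p₁ : B ⟶ A₁) (p₂ : B ⟶ A₂) (f₁ : A₁ ⟶ A) (f₂ : A₂ ⟶ A)
        (h : Art.IsFibreProd p₁ p₂ f₁ f₂), Function.Surjective f₂ → Function.Bijective (cmp F h))
    (R : CRing Λ k) (ξ : Family R.carrier R.res F) (hξ : IsVersal ξ)
    (A' A : CRing Λ k) (g : A'.carrier →ₐ[Λ] A.carrier) (hg : A.res.comp g = A'.res)
    (hgs : Function.Surjective g) (η : Family A'.carrier A'.res F)
    (φ : R.carrier →ₐ[Λ] A.carrier) (hφ : A.res.comp φ = R.res) (hsq : ξ.along φ hφ = η.along g hg) :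
    ∃ (ψ : R.carrier →ₐ[Λ] A'.carrier) (hψ : A'.res.comp ψ = R.res), g.comp ψ = φ ∧ ξ.along ψ hψ = η := by
  have hgk : ∀ x ∈ RingHom.ker A'.res, g x ∈ RingHom.ker A.res := fun x hx => by
    rw [RingHom.mem_ker] at hx ⊢
    exact (congr($hg x)).trans hx
  have hle : ∀ n, RingHom.ker A'.res ^ (n + 1) ≤ RingHom.ker ((Hull.lvlHom A n).1.comp g) := fun n x hx => by
    rw [RingHom.mem_ker, AlgHom.comp_apply]
    exact (Hull.qmk_eq_zero A.res A.res_surjective _ _).2 (EGA41Lib.mem_pow_of_forall_mem g hgk _ x hx)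
  let γ : ∀ n, Hull.lvl A' n ⟶ Hull.lvl A n := fun n => Hull.qlift A'.res A'.res_surjective _
    ((Hull.lvlHom A n).1.comp g) (AlgHom.ext fun x => congr($hg x)) (hle n)
  let φl : ∀ n, HomSet R.carrier R.res (Hull.lvl A n) := fun n =>
    ⟨(Hull.lvlHom A n).1.comp φ, by rw [← AlgHom.comp_assoc, (Hull.lvlHom A n).2, hφ]⟩
  have hsq' : ∀ n, ξ.app _ (φl n) = F.map (γ n) (η.app _ (Hull.lvlHom A' n)) := fun n => by
    rw [← η.natural]
    refine Eq.trans ?_ ((congrArg (fun χ : Family A.carrier A.res F => χ.app _ (Hull.lvlHom A n)) hsq).trans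
      (congrArg (η.app _) (Subtype.ext (AlgHom.ext fun x => rfl))))
    rfl
  have hγs : ∀ n, Function.Surjective (γ n) := fun n z => by
    obtain ⟨a, ha⟩ := Hull.qmk_surjective A.res A.res_surjective _ _ z
    obtain ⟨x, rfl⟩ := hgs a
    exact ⟨Hull.qmk A'.res A'.res_surjective _ _ x, ha⟩
  let T : ℕ → Type u := fun n => {ψ : HomSet R.carrier R.res (Hull.lvl A' n) //
    ξ.app _ ψ = η.app _ (Hull.lvlHom A' n) ∧ HomSet.map (γ n) ψ = φl n}
  obtain ⟨ψ₀, hψ₀, hψ₀'⟩ := hξ (γ 0) (hγs 0) (φl 0) (η.app _ (Hull.lvlHom A' 0)) (hsq' 0).symm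
  have hmax : Ideal.map g (RingHom.ker A'.res) = RingHom.ker A.res := by
    refine le_antisymm (Ideal.map_le_iff_le_comap.2 hgk) fun a ha => ?_
    obtain ⟨x, rfl⟩ := hgs a
    exact Ideal.mem_map_of_mem g (RingHom.mem_ker.2 ((congr($hg x)).symm.trans (RingHom.mem_ker.1 ha)))
  have hstep : ∀ n (ψ : T n), ∃ ψ' : T (n + 1),
      HomSet.map (Hull.lvlTrans A' (Nat.le_succ n)) ψ'.1 = ψ.1 := fun n ψ => by
    let t' := Hull.lvlTrans A' (Nat.le_succ n)
    let t := Hull.lvlTrans A (Nat.le_succ n)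
    obtain ⟨P, p₁, p₂, hP⟩ := exists_isFibreProd (γ n) t (Hull.qTrans_surjective _ _ _ _ _)
    have w : t' ≫ γ n = γ (n + 1) ≫ t := hom_apply_ext fun z => by
      obtain ⟨x, rfl⟩ := Hull.qmk_surjective A'.res A'.res_surjective _ _ z
      rfl
    let μ := fibLift hP t' (γ (n + 1)) w
    have hμ₁ : μ ≫ p₁ = t' := fibLift_fst hP t' (γ (n + 1)) w
    have hμ₂ : μ ≫ p₂ = γ (n + 1) := fibLift_snd hP t' (γ (n + 1)) w
    have hμs : Function.Surjective μ := fun z => by
      obtain ⟨s', hs'⟩ := Hull.qmk_surjective A'.res A'.res_surjective _ _ (p₁ z)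
      obtain ⟨r, hr⟩ := Hull.qmk_surjective A.res A.res_surjective _ _ (p₂ z)
      obtain ⟨r', rfl⟩ := hgs r
      have h1 : g r' - g s' ∈ RingHom.ker A.res ^ (n + 1) := by
        refine (Hull.qmk_eq_zero A.res A.res_surjective (Hull.isNear_ker_pow A n) _).1 ?_
        rw [map_sub, sub_eq_zero]
        have e := hP.w_apply z
        rw [← hs', ← hr] at e
        exact e.symm
      rw [← hmax, ← Ideal.map_pow, ← map_sub, Ideal.mem_map_iff_of_surjective g hgs] at h1
      obtain ⟨w', hw', hgw⟩ := h1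
      rw [map_sub] at hgw
      have e1 : g (s' + w') = g r' := by rw [map_add, hgw]; abel
      refine ⟨Hull.qmk A'.res A'.res_surjective _ (Hull.isNear_ker_pow A' (n + 1)) (s' + w'), hP.inj _ _ ?_ ?_⟩
      · refine (congr($hμ₁ (Hull.qmk A'.res A'.res_surjective _ (Hull.isNear_ker_pow A' (n + 1)) (s' + w')))).trans ?_
        show Hull.qmk A'.res A'.res_surjective _ (Hull.isNear_ker_pow A' n) (s' + w') = p₁ z
        rw [map_add, (Hull.qmk_eq_zero A'.res A'.res_surjective (Hull.isNear_ker_pow A' n) w').2 hw', add_zero, hs']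
      · refine (congr($hμ₂ (Hull.qmk A'.res A'.res_surjective _ (Hull.isNear_ker_pow A' (n + 1)) (s' + w')))).trans ?_
        show Hull.qmk A.res A.res_surjective _ _ (g (s' + w')) = p₂ z
        rw [e1, hr]
    have hpair : HomSet.map (γ n) ψ.1 = HomSet.map t (φl (n + 1)) := by
      rw [ψ.2.2]
      exact Subtype.ext (AlgHom.ext fun x => rfl)
    let χ := homPair hP ψ.1 (φl (n + 1)) hpair
    have hy : F.map μ (η.app _ (Hull.lvlHom A' (n + 1))) = ξ.app P χ := by
      refine cmp_ext (hRS p₁ p₂ (γ n) t hP (Hull.qTrans_surjective _ _ _ _ _)).1 ?_ ?_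
      · rw [← map_comp', hμ₁, ← ξ.natural, homPair_fst, ψ.2.1, ← η.natural]
        exact congrArg (η.app _) (Subtype.ext (AlgHom.ext fun _ => rfl))
      · rw [← map_comp', hμ₂, ← ξ.natural, homPair_snd, hsq']
    obtain ⟨ψ', h₁, h₂⟩ := hξ μ hμs χ (η.app _ (Hull.lvlHom A' (n + 1))) hy
    have hm : ∀ {X : Art Λ k} (p : P ⟶ X), HomSet.map (μ ≫ p) ψ' = HomSet.map p χ := fun p => by
      rw [← h₁]
      rfl
    refine ⟨⟨ψ', h₂, ?_⟩, ?_⟩
    · rw [← hμ₂, hm]; exact homPair_snd hP ψ.1 (φl (n + 1)) hpair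
    · show HomSet.map t' ψ' = ψ.1
      rw [← hμ₁, hm]; exact homPair_fst hP ψ.1 (φl (n + 1)) hpair
  choose next hnext using hstep
  let seq : ∀ n, T n := fun n => Nat.rec ⟨ψ₀, hψ₀', hψ₀⟩ next n
  have hseq : ∀ p n (h : p ≤ n), HomSet.map (Hull.lvlTrans A' h) (seq n).1 = (seq p).1 := fun p n h => by
    induction n, h using Nat.le_induction with
    | base =>
      refine Subtype.ext (AlgHom.ext fun x => ?_)
      obtain ⟨s, hs⟩ := Hull.qmk_surjective A'.res A'.res_surjective _ (Hull.isNear_ker_pow A' p) ((seq p).1.1 x)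
      change Hull.lvlTrans A' le_rfl ((seq p).1.1 x) = (seq p).1.1 x
      rw [← hs]
      rfl
    | succ n h ih =>
      rw [← ih, ← hnext n (seq n)]
      refine Subtype.ext (AlgHom.ext fun x => ?_)
      obtain ⟨s, hs⟩ := Hull.qmk_surjective A'.res A'.res_surjective _ (Hull.isNear_ker_pow A' (n + 1))
        ((seq (n + 1)).1.1 x)
      change Hull.lvlTrans A' (h.trans (Nat.le_succ n)) ((seq (n + 1)).1.1 x) =
        Hull.lvlTrans A' h (Hull.lvlTrans A' (Nat.le_succ n) ((seq (n + 1)).1.1 x))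
      rw [← hs]
      rfl
  obtain ⟨ψ, hψ, hψe, hψφ⟩ := Hull.exists_along_of_compatible (ξ := ξ) A' η (fun n => (seq n).1)
    (fun n => (seq n).2.1) hseq
  haveI := A.isAdicComplete
  refine ⟨ψ, hψ, AlgHom.ext fun x => ?_, hψe⟩
  refine eq_of_sub_eq_zero (IsHausdorff.haus (I := maximalIdeal A.carrier) inferInstance _ fun n => ?_)
  rw [SModEq.sub_mem, sub_zero, Ideal.smul_eq_mul, Ideal.mul_top, ← Hull.ker_res_eq]
  refine Ideal.pow_le_pow_right (Nat.le_succ n)
    ((Hull.qmk_eq_zero A.res A.res_surjective (Hull.isNear_ker_pow A n) _).1 ?_)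
  rw [map_sub, sub_eq_zero]
  exact (congrArg (γ n).toAlgHom (hψφ n x)).trans (congr($(congrArg Subtype.val (seq n).2.2) x))

end Groth.Agent.ArtFunLib.CompleteLift
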