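import Groth.Agent.ArtFunLib.Basic
import Groth.Prelude.Def_ArtFun2
import Mathlib.RingTheory.Kaehler.Basic
import Mathlib.RingTheory.Unramified.LocalRing

/-!
# Cotangent criteria for surjectivity in `Art Λ k`, sections of small extensions, derivations to `k`
-/

set_option autoImplicit false

universe u

open CategoryTheory ArtFun ArtFun.Art IsLocalRing

namespace Groth.Agent.ArtFunLib

variable {Λ : Type u} {k : Type u} [CommRing Λ] [Field k] [Algebra Λ k]

theorem map_maximalIdeal_le {A B : Art Λ k} (f : A ⟶ B) :
    Ideal.map f.toAlgHom (maximalIdeal A) ≤ maximalIdeal B := by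
  refine Ideal.map_le_iff_le_comap.2 fun a ha => ?_
  rw [Ideal.mem_comap, mem_maximalIdeal_iff, res_app]
  exact (mem_maximalIdeal_iff A a).1 ha

theorem map_maximalIdeal_eq_of_surjective {A B : Art Λ k} (f : A ⟶ B) (hf : Function.Surjective f) :
    Ideal.map f.toAlgHom (maximalIdeal A) = maximalIdeal B := by
  refine le_antisymm (map_maximalIdeal_le f) fun b hb => ?_
  obtain ⟨a, rfl⟩ := hf b
  refine Ideal.mem_map_of_mem _ ?_
  rw [mem_maximalIdeal_iff, ← res_app f a]
  exact (mem_maximalIdeal_iff B _).1 hb

theorem map_algebraMap_ker_le {A B : Art Λ k} (f : A ⟶ B) :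
    Ideal.map (algebraMap Λ B) (RingHom.ker (algebraMap Λ k)) ≤ Ideal.map f.toAlgHom (maximalIdeal A) := by
  refine Ideal.map_le_iff_le_comap.2 fun l hl => ?_
  rw [Ideal.mem_comap, ← f.toAlgHom.commutes l]
  refine Ideal.mem_map_of_mem _ ?_
  rw [mem_maximalIdeal_iff, A.res.commutes]
  exact hl

/-- A morphism surjective on cotangent spaces is surjective. -/
theorem surjective_of_map_sup {A B : Art Λ k} (f : A ⟶ B)
    (h : Ideal.map f.toAlgHom (maximalIdeal A) ⊔ maximalIdeal B ^ 2 = maximalIdeal B) :
    Function.Surjective f := by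
  let I := Ideal.map f.toAlgHom (maximalIdeal A)
  have hI : I = maximalIdeal B := by
    have h2 : ∀ j : ℕ, maximalIdeal B ≤ I ⊔ maximalIdeal B ^ (j + 1) := by
      intro j
      induction j with
      | zero => simp
      | succ j ih =>
        refine h.ge.trans (sup_le le_sup_left ?_)
        calc maximalIdeal B ^ 2 = maximalIdeal B * maximalIdeal B := sq _
          _ ≤ maximalIdeal B * (I ⊔ maximalIdeal B ^ (j + 1)) := Ideal.mul_mono_right ih
          _ ≤ I ⊔ maximalIdeal B ^ (j + 1 + 1) := by
            rw [Ideal.mul_sup, ← pow_succ' (maximalIdeal B) (j + 1)]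
            exact sup_le_sup_right Ideal.mul_le_right _
    obtain ⟨n, hn⟩ := (isArtinianRing_iff_isNilpotent_maximalIdeal B).1 inferInstance
    refine le_antisymm (map_maximalIdeal_le f) ((h2 n).trans (sup_le le_rfl ?_))
    rw [pow_succ, hn, zero_mul]
    exact bot_le
  letI := f.toAlgHom.toRingHom.toAlgebra
  let N : Submodule A B := LinearMap.range (Algebra.linearMap A B)
  have h1 : N ⊔ maximalIdeal A • ⊤ = ⊤ := by
    refine top_le_iff.1 fun b _ => ?_
    obtain ⟨a, ha⟩ := A.res_surjective (B.res b)
    have hb : b - f a ∈ maximalIdeal B := by rw [mem_maximalIdeal_iff, map_sub, res_app, ha, sub_self]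
    rw [← hI] at hb
    refine Submodule.mem_sup.2 ⟨f a, ⟨a, rfl⟩, b - f a, ?_, add_sub_cancel _ _⟩
    rw [Ideal.smul_top_eq_map]
    exact hb
  have h2 : ∀ j : ℕ, N ⊔ maximalIdeal A ^ j • ⊤ = ⊤ := by
    intro j
    induction j with
    | zero => rw [pow_zero, Ideal.one_eq_top, Submodule.top_smul, sup_top_eq]
    | succ j ih =>
      refine top_le_iff.1 (ih.ge.trans (sup_le le_sup_left ?_))
      conv_lhs => rw [← h1, Submodule.smul_sup, ← Submodule.mul_smul, ← pow_succ]
      exact sup_le_sup_right Submodule.smul_le_right _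
  obtain ⟨n, hn⟩ := (isArtinianRing_iff_isNilpotent_maximalIdeal A).1 inferInstance
  intro b
  have hb : b ∈ N ⊔ maximalIdeal A ^ n • (⊤ : Submodule A B) := (h2 n).ge trivial
  rw [hn, Submodule.zero_eq_bot, Submodule.bot_smul, sup_bot_eq] at hb
  exact hb

theorem surjective_iff_kaehler [IsNoetherianRing Λ] [Module.Finite Λ k] {A B : Art Λ k} (f : B ⟶ A) :
    letI : Algebra B A := f.toAlgHom.toRingHom.toAlgebra
    letI : Algebra A k := A.res.toRingHom.toAlgebra
    Function.Surjective f ↔ Subsingleton (TensorProduct A k (KaehlerDifferential B A)) := by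
  letI : Algebra B A := f.toAlgHom.toRingHom.toAlgebra
  letI : Algebra A k := A.res.toRingHom.toAlgebra
  haveI : IsScalarTower Λ B A := .of_algebraMap_eq fun l => (f.toAlgHom.commutes l).symm
  constructor
  · intro hf
    haveI : Subsingleton (KaehlerDifferential B A) := KaehlerDifferential.subsingleton_of_surjective B A hf
    infer_instance
  · intro h
    haveI : Module.Finite Λ A := ⟨(isNoetherian_base A).noetherian ⊤⟩
    haveI : Module.Finite B A := Module.Finite.of_restrictScalars_finite Λ B A
    haveI : Module.Finite A (KaehlerDifferential B A) := inferInstance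
    haveI : IsLocalHom (algebraMap B A) := ⟨fun b hb => (isLocalHom f).map_nonunit b hb⟩
    have hmk : Function.Surjective (algebraMap A k) := A.res_surjective
    have hΩ : Subsingleton (KaehlerDifferential B A) := by
      haveI : Subsingleton (TensorProduct A (ResidueField A) (KaehlerDifferential B A)) := by
        have hker : RingHom.ker (algebraMap A k) = maximalIdeal A := by
          ext a
          exact (mem_maximalIdeal_iff A a).symm
        let e : ResidueField A ≃ₐ[A] k :=
          (Ideal.quotientEquivAlgOfEq A hker.symm).trans (Ideal.quotientKerAlgEquivOfSurjective (f := Algebra.ofId A k) hmk)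
        exact (TensorProduct.congr e.toLinearEquiv (LinearEquiv.refl A (KaehlerDifferential B A))).toEquiv.subsingleton
      exact IsLocalRing.subsingleton_tensorProduct.1 this
    haveI : Algebra.FormallyUnramified B A := ⟨hΩ⟩
    haveI : Algebra.EssFiniteType B A := inferInstance
    refine surjective_of_map_sup f ?_
    rw [show Ideal.map f.toAlgHom (maximalIdeal B) = maximalIdeal A from Algebra.FormallyUnramified.map_maximalIdeal]
    exact sup_of_le_left (Ideal.pow_le_self two_ne_zero)

/-- A small extension is essential unless it has a section. -/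
theorem not_essential_iff_exists_section {A B : Art Λ k} (f : B ⟶ A) (hf : IsSmallExt f) :
    (∃ (C : Art Λ k) (g : C ⟶ B), Function.Surjective (g ≫ f) ∧ ¬ Function.Surjective g) ↔
      ∃ s : A ⟶ B, s ≫ f = 𝟙 A := by
  obtain ⟨hfs, hne, hp, hm⟩ := hf
  constructor
  · rintro ⟨C, g, hgf, hg⟩
    obtain ⟨t, ht⟩ := hp.principal
    have hann : ∀ (x : B), B.res x = 0 → x * t = 0 := fun x hx => by
      have h1 : x * t ∈ maximalIdeal B * RingHom.ker f.toAlgHom :=
        Ideal.mul_mem_mul ((mem_maximalIdeal_iff B x).2 hx) (ht ▸ Submodule.mem_span_singleton_self t)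
      rw [hm] at h1
      exact h1
    have hmem : ∀ x ∈ RingHom.ker f.toAlgHom, ∃ r, x = r * t := fun x hx => by
      rw [ht] at hx
      obtain ⟨r, hr⟩ := Submodule.mem_span_singleton.1 hx
      exact ⟨r, hr.symm⟩
    have hdec : ∀ r : B, ∃ c : C, r * t = g c * t := fun r => by
      obtain ⟨c, hc⟩ := C.res_surjective (B.res r)
      refine ⟨c, sub_eq_zero.1 ?_⟩
      rw [← sub_mul]
      exact hann _ (by rw [map_sub, res_app, hc, sub_self])
    have hinj : ∀ c : C, f (g c) = 0 → g c = 0 := by
      intro c hc
      by_contra h0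
      obtain ⟨r, hr⟩ := hmem (g c) hc
      obtain ⟨c₁, hc₁⟩ := hdec r
      have hu : IsUnit c₁ := by
        rw [isUnit_iff_res_ne_zero, ← res_app g c₁]
        intro hz
        exact h0 (by rw [hr, hc₁, hann _ hz])
      obtain ⟨u, rfl⟩ := hu
      have htC : g (↑u⁻¹ * c) = t := by
        show g.toAlgHom (↑u⁻¹ * c) = t
        rw [map_mul, show g.toAlgHom c = g.toAlgHom ↑u * t from hr.trans hc₁, ← mul_assoc, ← map_mul,
          Units.inv_mul, map_one, one_mul]
      refine hg fun b => ?_
      obtain ⟨c', hc'⟩ := hgf (f b)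
      obtain ⟨r', hr'⟩ := hmem (b - g c') (by
        show f.toAlgHom (b - g.toAlgHom c') = 0
        rw [map_sub, sub_eq_zero]
        exact hc'.symm)
      obtain ⟨c₂, hc₂⟩ := hdec r'
      refine ⟨c' + c₂ * (↑u⁻¹ * c), ?_⟩
      show g.toAlgHom (c' + c₂ * (↑u⁻¹ * c)) = b
      rw [map_add, map_mul, show g.toAlgHom (↑u⁻¹ * c) = t from htC]
      exact (congrArg (g c' + ·) (hc₂.symm.trans hr'.symm)).trans (add_sub_cancel _ _)
    choose σ hσ using hgf
    have huniq : ∀ c c' : C, f (g c) = f (g c') → g c = g c' := fun c c' h => by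
      refine sub_eq_zero.1 ?_
      show g.toAlgHom c - g.toAlgHom c' = 0
      rw [← map_sub]
      refine hinj _ ?_
      show f.toAlgHom (g.toAlgHom (c - c')) = 0
      rw [map_sub, map_sub, sub_eq_zero]
      exact h
    let s : A →ₐ[Λ] B :=
      { toFun := fun a => g (σ a)
        map_one' := (huniq (σ 1) 1 ((hσ 1).trans (by simp))).trans (map_one g.toAlgHom)
        map_mul' := fun x y => (huniq (σ (x * y)) (σ x * σ y) ((hσ _).trans (by
          show x * y = f.toAlgHom (g.toAlgHom (σ x * σ y))
          rw [map_mul, map_mul]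
          exact congrArg₂ (· * ·) (hσ x).symm (hσ y).symm))).trans (map_mul g.toAlgHom _ _)
        map_zero' := (huniq (σ 0) 0 ((hσ 0).trans (by simp))).trans (map_zero g.toAlgHom)
        map_add' := fun x y => (huniq (σ (x + y)) (σ x + σ y) ((hσ _).trans (by
          show x + y = f.toAlgHom (g.toAlgHom (σ x + σ y))
          rw [map_add, map_add]
          exact congrArg₂ (· + ·) (hσ x).symm (hσ y).symm))).trans (map_add g.toAlgHom _ _)
        commutes' := fun l => (huniq (σ _) (algebraMap Λ C l) ((hσ _).trans (by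
          show algebraMap Λ A l = f.toAlgHom (g.toAlgHom (algebraMap Λ C l))
          rw [AlgHom.commutes, AlgHom.commutes]))).trans (g.toAlgHom.commutes l) }
    refine ⟨⟨s, AlgHom.ext fun a => ?_⟩, hom_apply_ext fun a => hσ a⟩
    show B.res (g (σ a)) = A.res a
    rw [← res_app f (g (σ a))]
    exact congrArg A.res (hσ a)
  · rintro ⟨s, hs⟩
    refine ⟨A, s, fun a => ⟨a, by rw [hs]; rfl⟩, fun hsurj => hne ?_⟩
    rw [eq_bot_iff]
    intro b hb
    obtain ⟨a, rfl⟩ := hsurj b
    have ha : a = 0 := by
      have h1 : f (s a) = a := congr($hs a)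
      rw [← h1]
      exact hb
    rw [ha]
    exact (map_zero s.toAlgHom)

/-- Derivations to the residue field form a finite-dimensional space. -/
theorem finite_derivation [Module.Finite Λ k] (S : Type u) [CommRing S] [Algebra Λ S] [IsLocalRing S]
    [IsNoetherianRing S] [Algebra S k] [IsScalarTower Λ S k]
    (hres : Function.Surjective (algebraMap S k)) : Module.Finite k (Derivation Λ S k) := by
  classical
  obtain ⟨a, ha⟩ := (IsNoetherian.noetherian (RingHom.ker (algebraMap S k)) :
    (RingHom.ker (algebraMap S k)).FG)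
  obtain ⟨b, hb⟩ := (Module.Finite.fg_top : (⊤ : Submodule Λ k).FG)
  choose l hl using hres
  let F : Derivation Λ S k →ₗ[k] ((↥a ⊕ ↥b) → k) :=
    { toFun := fun D => Sum.elim (fun x => D x.1) (fun y => D (l y.1))
      map_add' := fun D E => by ext x; rcases x with x | x <;> rfl
      map_smul' := fun c D => by ext x; rcases x with x | x <;> rfl }
  refine Module.Finite.of_injective F ((injective_iff_map_eq_zero F).2 fun D hD => ?_)
  have hka : ∀ x ∈ RingHom.ker (algebraMap S k), D x = 0 := by
    intro x hx
    rw [← ha] at hx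
    induction hx using Submodule.span_induction with
    | mem y hy => exact congrFun hD (Sum.inl ⟨y, hy⟩)
    | zero => exact D.map_zero
    | add y z _ _ hy hz => rw [map_add, hy, hz, add_zero]
    | smul s y hy' hy =>
      have hy0 : algebraMap S k y = 0 := RingHom.mem_ker.1 (ha ▸ hy')
      rw [smul_eq_mul, Derivation.leibniz, hy, Algebra.smul_def y, hy0, zero_mul, add_zero, smul_zero]
  ext s
  have hy : ∀ y ∈ Submodule.span Λ (b : Set k), ∀ x : S, algebraMap S k x = y → D x = 0 := by
    intro y hy
    induction hy using Submodule.span_induction with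
    | mem y hy =>
      intro x hx
      have h1 : D (x - l y) = 0 := hka _ (by rw [RingHom.mem_ker, map_sub, hx, hl, sub_self])
      rwa [map_sub, show D (l y) = 0 from congrFun hD (Sum.inr ⟨y, hy⟩), sub_zero] at h1
    | zero => exact fun x hx => hka x hx
    | add y z _ _ hy hz =>
      intro x hx
      rw [← sub_add_cancel x (l z), map_add, hy (x - l z) (by rw [map_sub, hx, hl]; ring), hz (l z) (hl z), add_zero]
    | smul c y _ hy =>
      intro x hx
      have h1 : D (x - c • l y) = 0 := hka _ (by
        rw [RingHom.mem_ker, map_sub, hx, Algebra.smul_def c (l y), map_mul, hl,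
          ← IsScalarTower.algebraMap_apply Λ S k, ← Algebra.smul_def, sub_self])
      rwa [map_sub, Derivation.map_smul, hy (l y) (hl y), smul_zero, sub_zero] at h1
  exact hy _ (hb.symm ▸ trivial) s rfl

end Groth.Agent.ArtFunLib
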