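import Groth.Agent.ArtFunLib.Cotangent
import Groth.Agent.ArtFunLib.DerSurj
import Mathlib.RingTheory.Etale.Field
import Mathlib.RingTheory.TensorProduct.Basic
import Mathlib.LinearAlgebra.Dual.Lemmas

/-!
# Essential surjections in `Art Λ k` and derivations to the residue field
-/

set_option autoImplicit false

universe u

open CategoryTheory ArtFun ArtFun.Art IsLocalRing TensorProduct

namespace Groth.Agent.ArtFunLib

variable {Λ : Type u} {k : Type u} [CommRing Λ] [Field k] [Algebra Λ k]

theorem isAdicComplete_of_isNilpotent {R : Type u} [CommRing R] {I : Ideal R} (h : IsNilpotent I) :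
    IsAdicComplete I R := by
  obtain ⟨N, hN⟩ := h
  have hz : I ^ N • (⊤ : Submodule R R) = ⊥ := by rw [hN, Submodule.zero_eq_bot, Submodule.bot_smul]
  refine { haus' := fun x hx => ?_, prec' := fun f hf => ⟨f N, fun n => ?_⟩ }
  · have := hx N
    rwa [hz, SModEq.bot] at this
  · rcases le_total n N with h | h
    · exact hf h
    · have := hf h
      rw [hz, SModEq.bot] at this
      rw [this]

theorem isAdicComplete_maximalIdeal (A : Art Λ k) : IsAdicComplete (maximalIdeal A) A :=
  isAdicComplete_of_isNilpotent ((isArtinianRing_iff_isNilpotent_maximalIdeal A).1 inferInstance)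

/-- An object of `Art Λ k` as a complete local ring. -/
noncomputable def toCRing (A : Art Λ k) : CRing Λ k :=
  { carrier := A, res := A.res, res_surjective := A.res_surjective,
    isAdicComplete := isAdicComplete_maximalIdeal A }

/-- Derivations to the residue field form the dual of the cotangent space. -/
theorem finrank_tensor_kaehler (S : Type u) [CommRing S] [Algebra Λ S] [Algebra S k]
    [IsScalarTower Λ S k] (hres : Function.Surjective (algebraMap S k)) :
    Module.finrank k (k ⊗[S] Ω[S⁄Λ]) = Module.finrank k (Derivation Λ S k) := by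
  let e₁ := (KaehlerDifferential.linearMapEquivDerivation Λ S (M := k)).extendScalarsOfSurjective hres
  let e₂ : (Ω[S⁄Λ] →ₗ[S] k) ≃ₗ[k] Module.Dual k (k ⊗[S] Ω[S⁄Λ]) := LinearMap.liftBaseChangeEquiv k
  rw [← Subspace.dual_finrank_eq (K := k) (V := k ⊗[S] Ω[S⁄Λ])]
  exact (e₂.symm.trans e₁).finrank_eq

variable [IsNoetherianRing Λ] [Module.Finite Λ k]

/-- `f` is essential iff it is surjective and every derivation to `k` factors through it. -/
theorem isEssential_iff_derivation {A B : Art Λ k} (f : B ⟶ A) :
    letI : Algebra A k := A.res.toRingHom.toAlgebra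
    letI : Algebra B k := B.res.toRingHom.toAlgebra
    (Function.Surjective f ∧ ∀ (C : Art Λ k) (g : C ⟶ B), Function.Surjective (g ≫ f) → Function.Surjective g) ↔
      (Function.Surjective f ∧ ∀ D : Derivation Λ B k, ∃ E : Derivation Λ A k, ∀ b : B, E (f b) = D b) := by
  letI : Algebra A k := A.res.toRingHom.toAlgebra
  letI : Algebra B k := B.res.toRingHom.toAlgebra
  haveI : IsScalarTower Λ A k := .of_algebraMap_eq fun l => (A.res.commutes l).symm
  haveI : IsScalarTower Λ B k := .of_algebraMap_eq fun l => (B.res.commutes l).symm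
  refine and_congr_right fun hf => ⟨fun he D => ?_, fun hD C g hg => ?_⟩
  · by_cases h0 : ∀ y : B, f y = 0 → D y = 0
    · have hwd : ∀ x y : B, f x = f y → D x = D y := fun x y h => by
        refine sub_eq_zero.1 ?_
        rw [← map_sub]
        refine h0 _ ?_
        show f.toAlgHom (x - y) = 0
        rw [map_sub, sub_eq_zero]
        exact h
      choose σ hσ using hf
      have e : ∀ (a : A) (x : B), f x = a → D (σ a) = D x := fun a x h => hwd _ _ ((hσ a).trans h.symm)
      let L : A →ₗ[Λ] k :=
        { toFun := fun a => D (σ a)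
          map_add' := fun a b => by
            rw [e (a + b) (σ a + σ b) (by
              show f.toAlgHom (σ a + σ b) = a + b
              rw [map_add]; exact congrArg₂ (· + ·) (hσ a) (hσ b)), map_add]
          map_smul' := fun l a => by
            rw [e (l • a) (l • σ a) (by
              show f.toAlgHom (l • σ a) = l • a
              rw [map_smul]; exact congrArg (l • ·) (hσ a))]
            exact D.map_smul l (σ a) }
      refine ⟨Derivation.mk' L fun a b => ?_, fun b => hwd _ _ (hσ _)⟩
      show D (σ (a * b)) = a • D (σ b) + b • D (σ a)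
      have hr : ∀ (a : A) (c : k), a • c = σ a • c := fun a c => by
        show A.res a * c = B.res (σ a) * c
        rw [← res_app f, hσ]
      rw [e (a * b) (σ a * σ b) (by
        show f.toAlgHom (σ a * σ b) = a * b
        rw [map_mul]; exact congrArg₂ (· * ·) (hσ a) (hσ b)), D.leibniz, hr, hr]
    · exfalso
      push_neg at h0
      obtain ⟨y, hy, hy0⟩ := h0
      have hlift : ∀ a : A, ∃ x : B, D x = 0 ∧ f x = a := fun a => by
        obtain ⟨b, rfl⟩ := hf a
        obtain ⟨c, hc⟩ := B.res_surjective (D b / D y)
        refine ⟨b - c * y, ?_, ?_⟩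
        · rw [map_sub, D.leibniz, Algebra.smul_def, Algebra.smul_def y]
          show D b - (B.res c * D y + B.res y * D c) = 0
          rw [← res_app f y, hy, map_zero, zero_mul, add_zero, hc, div_mul_cancel₀ _ hy0, sub_self]
        · show f.toAlgHom (b - c * y) = f.toAlgHom b
          rw [map_sub, map_mul, show f.toAlgHom y = 0 from hy, mul_zero, sub_zero]
      let K : Subalgebra Λ B :=
        { carrier := {b | D b = 0}
          mul_mem' := fun {a b} (ha : D a = 0) (hb : D b = 0) => by
            show D (a * b) = 0
            rw [D.leibniz, ha, hb, smul_zero, smul_zero, add_zero]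
          add_mem' := fun {a b} (ha : D a = 0) (hb : D b = 0) => by
            show D (a + b) = 0
            rw [map_add, ha, hb, add_zero]
          algebraMap_mem' := fun l => D.map_algebraMap l }
      have hKunit : ∀ x : K, B.res x.1 ≠ 0 → IsUnit x := fun x hx => by
        obtain ⟨w, hw⟩ := ((isUnit_iff_res_ne_zero B x.1).2 hx).exists_right_inv
        have h1 : B.res x.1 * D w = 0 := by
          have := congrArg D hw
          rwa [D.leibniz, D.map_one_eq_zero, show D x.1 = 0 from x.2, smul_zero, add_zero] at this
        exact .of_mul_eq_one ⟨w, (mul_eq_zero.1 h1).resolve_left hx⟩ (Subtype.ext hw)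
      haveI : Nontrivial K := ⟨0, 1, fun e => zero_ne_one (α := B) (congrArg Subtype.val e)⟩
      haveI : IsLocalRing K := IsLocalRing.of_isUnit_or_isUnit_one_sub_self fun x => by
        by_cases hx : B.res x.1 = 0
        · refine Or.inr (hKunit _ ?_)
          change B.res (1 - x.1) ≠ 0
          rw [map_sub, map_one, hx, sub_zero]
          exact one_ne_zero
        · exact Or.inl (hKunit _ hx)
      haveI : IsArtinianRing K :=
        haveI := isArtinian_base B
        haveI : IsArtinian Λ K := inferInstanceAs (IsArtinian Λ (Subalgebra.toSubmodule K))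
        isArtinian_of_tower Λ inferInstance
      have hKres : Function.Surjective (B.res.comp K.val) := fun c => by
        obtain ⟨a, ha⟩ := A.res_surjective c
        obtain ⟨x, hx, hfx⟩ := hlift a
        exact ⟨⟨x, hx⟩, by rw [← ha, ← hfx, res_app]; rfl⟩
      let g : Art.of K (B.res.comp K.val) hKres ⟶ B := Art.homMk K.val rfl
      obtain ⟨x, hx⟩ := he _ g (fun a => by
        obtain ⟨x, hx, hfx⟩ := hlift a
        exact ⟨⟨x, hx⟩, hfx⟩) y
      exact hy0 (hx ▸ x.2)
  · haveI := isAdicComplete_maximalIdeal B
    refine surjective_of_derivation_comp_injective (toCRing C) B B.res_surjective g.toAlgHom g.res_comp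
      fun D₁ D₂ h => ?_
    obtain ⟨E₁, hE₁⟩ := hD D₁
    obtain ⟨E₂, hE₂⟩ := hD D₂
    ext b
    obtain ⟨c, hc⟩ := hg (f b)
    rw [← hE₁, ← hE₂, ← hc]
    show E₁ (f (g c)) = E₂ (f (g c))
    rw [hE₁, hE₂]
    exact h c

/-- `f` is essential iff it induces an isomorphism of cotangent spaces. -/
theorem isEssential_iff_kaehler {A B : Art Λ k} (f : B ⟶ A) :
    letI : Algebra B A := f.toAlgHom.toRingHom.toAlgebra
    letI : Algebra A k := A.res.toRingHom.toAlgebra
    letI : Algebra B k := B.res.toRingHom.toAlgebra
    (Function.Surjective f ∧ ∀ (C : Art Λ k) (g : C ⟶ B), Function.Surjective (g ≫ f) → Function.Surjective g) ↔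
      (Subsingleton (k ⊗[A] Ω[A⁄B]) ∧
        Module.finrank k (k ⊗[B] Ω[B⁄Λ]) = Module.finrank k (k ⊗[A] Ω[A⁄Λ])) := by
  letI : Algebra A k := A.res.toRingHom.toAlgebra
  letI : Algebra B k := B.res.toRingHom.toAlgebra
  haveI : IsScalarTower Λ A k := .of_algebraMap_eq fun l => (A.res.commutes l).symm
  haveI : IsScalarTower Λ B k := .of_algebraMap_eq fun l => (B.res.commutes l).symm
  rw [isEssential_iff_derivation f, surjective_iff_kaehler f, finrank_tensor_kaehler B B.res_surjective,
    finrank_tensor_kaehler A A.res_surjective, ← surjective_iff_kaehler f]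
  refine and_congr_right fun hf => ?_
  haveI : Module.Finite k (Derivation Λ A k) := finite_derivation A A.res_surjective
  haveI : Module.Finite k (Derivation Λ B k) := finite_derivation B B.res_surjective
  let φ : Derivation Λ A k →ₗ[k] Derivation Λ B k :=
    { toFun := fun E => Derivation.mk' (E.toLinearMap.comp f.toAlgHom.toLinearMap) fun x y => by
        show E (f.toAlgHom (x * y)) = x • E (f y) + y • E (f x)
        rw [map_mul, E.leibniz]
        show A.res (f x) * E (f y) + A.res (f y) * E (f x) = B.res x * E (f y) + B.res y * E (f x)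
        rw [res_app, res_app]
      map_add' := fun _ _ => rfl
      map_smul' := fun _ _ => rfl }
  have hinj : Function.Injective φ := fun E₁ E₂ h => by
    ext a
    obtain ⟨b, rfl⟩ := hf a
    exact congr($h b)
  refine ⟨fun h => ((LinearEquiv.ofBijective φ ⟨hinj, fun D => ?_⟩).finrank_eq).symm, fun h D => ?_⟩
  · obtain ⟨E, hE⟩ := h D
    exact ⟨E, Derivation.ext hE⟩
  · obtain ⟨E, hE⟩ := (LinearMap.injective_iff_surjective_of_finrank_eq_finrank h.symm).1 hinj D
    exact ⟨E, fun b => congr($hE b)⟩

/-- If `k` is separable over the image of `Λ`, a square-zero object killed by `ker (Λ → k)` has a section. -/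
theorem exists_section_of_sq_zero [Algebra.IsSeparable (↥(algebraMap Λ k).range) k] (E : Type u)
    [CommRing E] [Algebra Λ E] (π : E →ₐ[Λ] k) (hπ : Function.Surjective π)
    (hsq : ∀ x y : E, π x = 0 → π y = 0 → x * y = 0)
    (hΛ : ∀ l : Λ, algebraMap Λ k l = 0 → algebraMap Λ E l = 0) :
    ∃ s : k →ₐ[Λ] E, ∀ c, π (s c) = c := by
  let F := (algebraMap Λ k).range
  have hF : IsField F := by
    haveI := isMaximal_ker_algebraMap (Λ := Λ) (k := k)
    exact (RingHom.quotientKerEquivRange (algebraMap Λ k)).symm.toMulEquiv.isField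
      ((Ideal.Quotient.maximal_ideal_iff_isField_quotient _).1 inferInstance)
  let r : Λ →+* F := (algebraMap Λ k).rangeRestrict
  have hr : Function.Surjective r := (algebraMap Λ k).rangeRestrict_surjective
  let j : F →+* E := RingHom.liftOfSurjective r hr ⟨algebraMap Λ E, fun l hl => by
    refine hΛ l ?_
    exact congrArg Subtype.val (RingHom.mem_ker.1 hl)⟩
  have hj : ∀ l, j (r l) = algebraMap Λ E l := fun l =>
    RingHom.liftOfRightInverse_comp_apply _ _ _ _ l
  letI : Field F := hF.toField
  letI : Algebra F E := j.toAlgebra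
  haveI : Algebra.FormallyEtale F k := Algebra.FormallyEtale.of_isSeparable F k
  let π' : E →ₐ[F] k :=
    { toRingHom := π.toRingHom
      commutes' := fun x => by
        obtain ⟨l, rfl⟩ := hr x
        show π (j (r l)) = (r l : k)
        rw [hj, π.commutes]
        rfl }
  have hnil : IsNilpotent (RingHom.ker (π' : E →+* k)) := by
    refine ⟨2, ?_⟩
    rw [sq, Ideal.zero_eq_bot, eq_bot_iff, Ideal.mul_le]
    exact fun x hx y hy => hsq x y hx hy
  let s := Algebra.FormallySmooth.liftOfSurjective (R := F) (AlgHom.id F k) π' hπ hnil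
  refine ⟨{ s.toRingHom with commutes' := fun l => ?_ },
    fun c => Algebra.FormallySmooth.liftOfSurjective_apply (R := F) (AlgHom.id F k) π' hπ hnil c⟩
  have h : algebraMap Λ k l = algebraMap F k (r l) := rfl
  show s (algebraMap Λ k l) = algebraMap Λ E l
  rw [h, s.commutes, ← hj]
  rfl

end Groth.Agent.ArtFunLib
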