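import Mathlib.AlgebraicGeometry.Modules.Sheaf
import Mathlib.AlgebraicGeometry.AffineScheme
import Mathlib.Topology.Sheaves.SheafCondition.UniqueGluing

/-! Morphisms of modules from compatible families on affine opens. -/

set_option autoImplicit false
set_option backward.isDefEq.respectTransparency false
universe u

open CategoryTheory AlgebraicGeometry Opposite TopologicalSpace

namespace Groth.Agent.ArtFunLib.FamilyHom

variable {X : Scheme.{u}} {M N : X.Modules}

theorem map_map (M : X.Modules) {U V W : X.Opens} (h₁ : W ≤ V) (h₂ : V ≤ U) (x : Γ(M, U)) :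
    M.presheaf.map (homOfLE h₁).op (M.presheaf.map (homOfLE h₂).op x) = M.presheaf.map (homOfLE (h₁.trans h₂)).op x := by
  rw [← ConcreteCategory.comp_apply, ← M.presheaf.map_comp]
  rfl

theorem map_refl (M : X.Modules) {U : X.Opens} (h : U ≤ U) (x : Γ(M, U)) : M.presheaf.map (homOfLE h).op x = x := by
  rw [show (homOfLE h).op = 𝟙 (op U) from Subsingleton.elim _ _, M.presheaf.map_id]
  rfl

/-- Two sections agree if they agree on all affine opens. -/
theorem ext_affine (N : X.Modules) (V : X.Opens) (s t : Γ(N, V))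
    (h : ∀ (W : X.affineOpens) (hW : W.1 ≤ V), N.presheaf.map (homOfLE hW).op s = N.presheaf.map (homOfLE hW).op t) :
    s = t := by
  refine TopCat.Sheaf.eq_of_locally_eq' ⟨N.presheaf, Scheme.Modules.isSheaf N⟩
    (fun i : {W : X.affineOpens // W.1 ≤ V} => i.1.1) V (fun i => homOfLE i.2) (fun x hx => ?_) s t
    (fun i => h i.1 i.2)
  obtain ⟨_, ⟨W, hW, rfl⟩, hxW, hWV⟩ := X.isBasis_affineOpens.exists_subset_of_mem_open hx V.2
  exact TopologicalSpace.Opens.mem_iSup.2 ⟨⟨⟨W, hW⟩, hWV⟩, hxW⟩

/-- A compatible linear family on affine opens extends to a morphism. -/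
theorem exists_hom_of_family (f : ∀ U : X.affineOpens, Γ(M, U.1) →+ Γ(N, U.1))
    (hnat : ∀ (U W : X.affineOpens) (h : W.1 ≤ U.1) (s : Γ(M, U.1)),
      N.presheaf.map (homOfLE h).op (f U s) = f W (M.presheaf.map (homOfLE h).op s))
    (hlin : ∀ (U : X.affineOpens) (r : Γ(X, U.1)) (s : Γ(M, U.1)), f U (r • s) = r • f U s) :
    ∃ φ : M ⟶ N, ∀ (U : X.affineOpens) (s : Γ(M, U.1)), φ.app U.1 s = f U s := by
  have hg : ∀ (V : X.Opens) (s : Γ(M, V)), ∃ t : Γ(N, V), ∀ (W : X.affineOpens) (hW : W.1 ≤ V),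
      N.presheaf.map (homOfLE hW).op t = f W (M.presheaf.map (homOfLE hW).op s) := by
    intro V s
    obtain ⟨t, ht, -⟩ := TopCat.Sheaf.existsUnique_gluing' ⟨N.presheaf, Scheme.Modules.isSheaf N⟩
      (fun i : {W : X.affineOpens // W.1 ≤ V} => i.1.1) V (fun i => homOfLE i.2)
      (fun x hx => by
        obtain ⟨_, ⟨W, hW, rfl⟩, hxW, hWV⟩ := X.isBasis_affineOpens.exists_subset_of_mem_open hx V.2
        exact TopologicalSpace.Opens.mem_iSup.2 ⟨⟨⟨W, hW⟩, hWV⟩, hxW⟩)
      (fun i => f i.1 (M.presheaf.map (homOfLE i.2).op s)) (fun i j => ext_affine N _ _ _ fun W hW => by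
        show N.presheaf.map _ (N.presheaf.map (homOfLE inf_le_left).op _) =
          N.presheaf.map _ (N.presheaf.map (homOfLE inf_le_right).op _)
        rw [map_map, map_map, hnat i.1 W (hW.trans inf_le_left), hnat j.1 W (hW.trans inf_le_right), map_map, map_map])
    exact ⟨t, fun W hW => ht ⟨W, hW⟩⟩
  choose g hg' using hg
  have huniq : ∀ (V : X.Opens) (s : Γ(M, V)) (t : Γ(N, V)),
      (∀ (W : X.affineOpens) (hW : W.1 ≤ V), N.presheaf.map (homOfLE hW).op t = f W (M.presheaf.map (homOfLE hW).op s)) →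
        g V s = t := fun V s t h => ext_affine N V _ _ fun W hW => (hg' V s W hW).trans (h W hW).symm
  have hadd : ∀ V s s', g V (s + s') = g V s + g V s' := fun V s s' => huniq V _ _ fun W hW => by
    rw [map_add, hg', hg', map_add (M.presheaf.map _).hom, map_add]
  let G : ∀ V : X.Opens, Γ(M, V) →+ Γ(N, V) := fun V => AddMonoidHom.mk' (g V) (hadd V)
  refine ⟨⟨PresheafOfModules.homMk
    { app := fun V => AddCommGrpCat.ofHom (G V.unop)
      naturality := fun V V' i => by
        ext s
        refine huniq V'.unop _ _ fun W hW => ?_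
        show N.presheaf.map (homOfLE hW).op (N.presheaf.map i (g V.unop s)) = _
        rw [show i = (homOfLE i.unop.le).op from Subsingleton.elim _ _]
        rw [map_map, hg']
        exact congrArg (f W) (map_map M hW i.unop.le s).symm }
    (fun V (r : Γ(X, V.unop)) (s : Γ(M, V.unop)) => show g V.unop (r • s) = r • g V.unop s from
      huniq V.unop _ _ fun W hW => by
        rw [Scheme.Modules.map_smul, Scheme.Modules.map_smul, hg', hlin])⟩, fun U s => ?_⟩
  show g U.1 s = f U s
  exact huniq U.1 s _ fun W hW => hnat U W hW s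

end Groth.Agent.ArtFunLib.FamilyHom
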