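import Groth.Agent.ArtFunLib.Hull.Seed
import Groth.Agent.ArtFunLib.Square
import Mathlib.LinearAlgebra.TensorProduct.Pi
import Mathlib.LinearAlgebra.TensorProduct.Tower

/-!
# Fibres of a left exact functor over a semismall extension
-/

set_option autoImplicit false
universe u v

open CategoryTheory ArtFun ArtFun.Art
open scoped TensorProduct

namespace Groth.Agent.ArtFunLib.Fibre

variable {k : Type u} [Field k] {F : Art k k ⥤ Type v}

/-- The comparison maps of squares are bijective. -/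
def Exact' (F : Art k k ⥤ Type v) : Prop :=
  ∀ ⦃B A A' A'' : Art k k⦄ (p' : B ⟶ A') (p'' : B ⟶ A'') (f' : A' ⟶ A) (f'' : A'' ⟶ A)
    (h : IsFibreProd p' p'' f' f''), Function.Surjective f'' → Function.Bijective (cmp F h)

/-- The value on `k ⊕ k^n` is the `n`-th power of the tangent space. -/
theorem nonempty_En_equiv (h0 : H0 F) (hF : Exact' F) :
    ∀ n : ℕ, Nonempty (F.obj (Hull.En n : Art k k) ≃ (Fin n → F.obj (dual k k))) := by
  intro n
  induction n with
  | zero =>
    let inc : base k k ⟶ (Hull.En 0 : Art k k) :=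
      ⟨(Algebra.ofId k (TrivSqZeroExt k (Fin 0 → k))).restrictScalars k, AlgHom.ext fun _ => rfl⟩
    have hid : toBase (Hull.En 0 : Art k k) ≫ inc = 𝟙 _ := hom_apply_ext fun x => by
      change (TrivSqZeroExt.inl (x : TrivSqZeroExt k (Fin 0 → k)).fst : TrivSqZeroExt k (Fin 0 → k)) = x
      exact TrivSqZeroExt.ext rfl (funext fun i => i.elim0)
    obtain ⟨b⟩ := h0.1
    haveI : Subsingleton (F.obj (base k k)) := h0.2
    refine ⟨⟨fun _ i => i.elim0, fun _ => F.map inc b, fun y => ?_, fun _ => funext fun i => i.elim0⟩⟩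
    show F.map inc b = y
    rw [show b = F.map (toBase _) y from Subsingleton.elim _ _, ← map_comp', hid]
    rw [F.map_id]
    rfl
  | succ n ih =>
    obtain ⟨e⟩ := ih
    haveI : Subsingleton (F.obj (base k k)) := h0.2
    have hb := hF _ _ _ _ (Hull.isFibreProd_En (Λ := k) (k := k) n) fun c =>
      ⟨algebraMap k (dual k k) c, (toBase (dual k k)).toAlgHom.commutes c⟩
    refine ⟨(Equiv.ofBijective _ hb).trans ?_⟩
    refine Equiv.trans ⟨fun q => (q.1.2, q.1.1), fun q => ⟨(q.2, q.1), Subsingleton.elim _ _⟩,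
      fun q => rfl, fun q => rfl⟩ ((Equiv.prodCongr (Equiv.refl _) e).trans (Fin.consEquiv fun _ => F.obj (dual k k)))

variable {C' C : Art k k} (p : C' ⟶ C)

theorem mul_mem_ker (hp : IsSemismallExt p) (c : C') {j : C'} (hj : j ∈ RingHom.ker p.toAlgHom) :
    c * j = C'.res c • j := by
  have hm : c - algebraMap k C' (C'.res c) ∈ IsLocalRing.maximalIdeal C' := by
    rw [mem_maximalIdeal_iff, map_sub, AlgHom.commutes]
    exact sub_self _
  have h := Ideal.mul_mem_mul hm hj
  rw [hp.2, Ideal.mem_bot, sub_mul, sub_eq_zero, ← Algebra.smul_def] at h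
  exact h

theorem finite_ker : Module.Finite k ↥(RingHom.ker p.toAlgHom) := by
  haveI := isNoetherian_base C'
  haveI : IsNoetherian k ↥((RingHom.ker p.toAlgHom).restrictScalars k) := inferInstance
  exact Module.Finite.equiv ((RingHom.ker p.toAlgHom).restrictScalarsEquiv k _ _ |>.restrictScalars k)

/-- The self product of a semismall extension over the base is a product with `k ⊕ kⁿ`. -/
theorem exists_split (hp : IsSemismallExt p) {n : ℕ} (b : Module.Basis (Fin n) k ↥(RingHom.ker p.toAlgHom))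
    {P : Art k k} (p₁ p₂ : P ⟶ C') (hP : IsFibreProd p₁ p₂ p p) :
    ∃ g : P ⟶ (Hull.En n : Art k k),
      IsFibreProd p₁ g (toBase C') (toBase (Hull.En n)) := by
  have hd : ∀ z : P, p₂ z - p₁ z ∈ RingHom.ker p.toAlgHom := fun z => by
    rw [RingHom.mem_ker, map_sub, sub_eq_zero]
    exact (hP.w_apply z).symm
  let d : P →ₗ[k] ↥(RingHom.ker p.toAlgHom) :=
    { toFun := fun z => ⟨p₂ z - p₁ z, hd z⟩
      map_add' := fun x y => Subtype.ext (by
        show p₂ (x + y) - p₁ (x + y) = (p₂ x - p₁ x) + (p₂ y - p₁ y)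
        rw [map_add p₂.toAlgHom, map_add p₁.toAlgHom]; abel)
      map_smul' := fun c x => Subtype.ext (by
        show p₂ (c • x) - p₁ (c • x) = c • (p₂ x - p₁ x)
        rw [map_smul p₂.toAlgHom, map_smul p₁.toAlgHom, smul_sub]) }
  have hdmul : ∀ x y, d (x * y) = P.res x • d y + P.res y • d x := fun x y => by
    refine Subtype.ext ?_
    show p₂ (x * y) - p₁ (x * y) = P.res x • (p₂ y - p₁ y) + P.res y • (p₂ x - p₁ x)
    rw [← res_app p₁ x, ← res_app p₂ y, ← mul_mem_ker p hp _ (hd y), ← mul_mem_ker p hp _ (hd x),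
      map_mul p₂.toAlgHom, map_mul p₁.toAlgHom]
    ring
  have hd1 : d 1 = 0 := Subtype.ext (by
    show p₂ (1 : P) - p₁ (1 : P) = 0
    rw [map_one p₂.toAlgHom, map_one p₁.toAlgHom, sub_self])
  let D : P →ₗ[k] (Fin n → k) := b.equivFun.toLinearMap.comp d
  let G : P →ₐ[k] TrivSqZeroExt k (Fin n → k) :=
    { toFun := fun z => (P.res z, D z)
      map_one' := TrivSqZeroExt.ext (map_one _) (by
        show b.equivFun (d 1) = _
        rw [hd1, map_zero, TrivSqZeroExt.snd_one])
      map_zero' := TrivSqZeroExt.ext (map_zero _) (map_zero D)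
      map_add' := fun x y => TrivSqZeroExt.ext (map_add _ _ _) (map_add D x y)
      map_mul' := fun x y => TrivSqZeroExt.ext (map_mul _ _ _) (by
        show b.equivFun (d (x * y)) = P.res x • b.equivFun (d y) + MulOpposite.op (P.res y) • b.equivFun (d x)
        rw [hdmul, map_add, map_smul, map_smul, op_smul_eq_smul])
      commutes' := fun c => TrivSqZeroExt.ext (P.res.commutes c) (by
        show D (algebraMap k P c) = _
        rw [Algebra.algebraMap_eq_smul_one, map_smul, TrivSqZeroExt.algebraMap_eq_inl', TrivSqZeroExt.snd_inl]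
        show c • b.equivFun (d 1) = 0
        rw [hd1, map_zero, smul_zero]) }
  let g : P ⟶ (Hull.En n : Art k k) := ⟨G, rfl⟩
  refine ⟨g, ?_, fun z₁ z₂ h₁ h₂ => ?_, fun a e he => ?_⟩
  · rw [eq_toBase (p₁ ≫ toBase C'), eq_toBase (g ≫ toBase _)]
  · refine hP.inj _ _ h₁ ?_
    have h := congrArg TrivSqZeroExt.snd h₂
    have h' : d z₁ = d z₂ := b.equivFun.injective h
    have h'' : p₂ z₁ - p₁ z₁ = p₂ z₂ - p₁ z₂ := congrArg Subtype.val h'
    rw [h₁] at h''
    exact sub_left_inj.1 h''
  · let j := b.equivFun.symm (TrivSqZeroExt.snd e)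
    obtain ⟨z, hz₁, hz₂⟩ := hP.surj a (a + j.1) (by
      rw [map_add p.toAlgHom, show p j.1 = 0 from j.2, add_zero])
    refine ⟨z, hz₁, TrivSqZeroExt.ext ?_ ?_⟩
    · show P.res z = TrivSqZeroExt.fst e
      rw [← res_app p₁, hz₁]
      exact he
    · show b.equivFun (d z) = _
      rw [show d z = j from Subtype.ext (by show p₂ z - p₁ z = j.1; rw [hz₁, hz₂, add_sub_cancel_left])]
      exact b.equivFun.apply_symm_apply _

/-- A non-empty fibre over a semismall extension is a power of the tangent space. -/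
theorem nonempty_fibre_equiv (h0 : H0 F) (hF : Exact' F) (hp : IsSemismallExt p) (y : F.obj C') {n : ℕ}
    (b : Module.Basis (Fin n) k ↥(RingHom.ker p.toAlgHom)) :
    Nonempty ({y' : F.obj C' // F.map p y' = F.map p y} ≃ (Fin n → F.obj (dual k k))) := by
  obtain ⟨P, p₁, p₂, hP⟩ := exists_isFibreProd p p hp.1
  obtain ⟨g, hg⟩ := exists_split p hp b p₁ p₂ hP
  haveI : Subsingleton (F.obj (base k k)) := h0.2
  let e₁ := Equiv.ofBijective _ (hF p₁ p₂ p p hP hp.1)
  let e₂ := Equiv.ofBijective _ (hF p₁ g _ _ hg fun c =>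
    ⟨algebraMap k (Hull.En n : Art k k) c, (toBase (Hull.En n : Art k k)).toAlgHom.commutes c⟩)
  have he₁ : ∀ z, (e₁ z).1.1 = F.map p₁ z := fun z => rfl
  have he₂ : ∀ z, (e₂ z).1.1 = F.map p₁ z := fun z => rfl
  obtain ⟨e⟩ := nonempty_En_equiv h0 hF n
  refine ⟨Equiv.trans ?_ e⟩
  refine Equiv.trans (β := {z : F.obj P // F.map p₁ z = y})
    ⟨fun q => ⟨e₁.symm ⟨(y, q.1), q.2.symm⟩, (he₁ _).symm.trans (congrArg (fun q => q.1.1) (e₁.apply_symm_apply _))⟩,
      fun z => ⟨(e₁ z.1).1.2, by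
        rw [← (e₁ z.1).2, he₁, z.2]⟩,
      fun q => Subtype.ext (congrArg (fun q => q.1.2) (e₁.apply_symm_apply _)), fun z => Subtype.ext ?_⟩
    ⟨fun z => (e₂ z.1).1.2, fun v => ⟨e₂.symm ⟨(y, v), Subsingleton.elim _ _⟩, (he₂ _).symm.trans (congrArg (fun q => q.1.1) (e₂.apply_symm_apply _))⟩,
      fun z => Subtype.ext ?_, fun v => congrArg (fun q => q.1.2) (e₂.apply_symm_apply _)⟩
  · apply e₁.injective
    refine (e₁.apply_symm_apply _).trans ?_
    exact Subtype.ext (Prod.ext z.2.symm rfl)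
  · apply e₂.injective
    refine (e₂.apply_symm_apply _).trans ?_
    exact Subtype.ext (Prod.ext z.2.symm rfl)

/-- A non-empty fibre over a semismall extension is `T ⊗ ker`. -/
theorem nonempty_fibre_equiv_tensor (h0 : H0 F) (hF : Exact' F) (hp : IsSemismallExt p) (y : F.obj C')
    {H : Type u} [AddCommGroup H] [Module k H] (eH : F.obj (dual k k) ≃ H) :
    Nonempty ({y' : F.obj C' // F.map p y' = F.map p y} ≃ (H ⊗[k] ↥(RingHom.ker p.toAlgHom))) := by
  haveI := finite_ker p
  let b := Module.finBasis k ↥(RingHom.ker p.toAlgHom)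
  obtain ⟨e⟩ := nonempty_fibre_equiv p h0 hF hp y b
  exact ⟨e.trans ((Equiv.piCongrRight fun _ => eH).trans
    ((TensorProduct.congr (LinearEquiv.refl k H) b.equivFun).trans (TensorProduct.piScalarRight k k H _)).symm.toEquiv)⟩

end Groth.Agent.ArtFunLib.Fibre

namespace Groth.Agent.ArtFunLib.Fibre

variable {k : Type u} [Field k] {F : Art k k ⥤ Type v}

/-- A left exact functor without tangent vectors is trivial. -/
theorem subsingleton_of_tangent (h0 : H0 F) (hF : Exact' F) [Subsingleton (F.obj (dual k k))] (A : Art k k) :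
    Subsingleton (F.obj A) := by
  have key : ∀ ⦃A B : Art k k⦄ (μ : B ⟶ A), IsSmallExt μ → Function.Injective (F.map μ) := fun A B μ hμ y₁ y₂ h => by
    haveI := finite_ker μ
    obtain ⟨e⟩ := nonempty_fibre_equiv μ h0 hF hμ.isSemismallExt y₁
      (Module.finBasis k ↥(RingHom.ker μ.toAlgHom))
    exact congrArg Subtype.val (e.injective (Subsingleton.elim (e ⟨y₁, rfl⟩) (e ⟨y₂, h.symm⟩)))
  have hinj : Function.Injective (F.map (toBase A)) :=
    surjective_induction (fun _ _ μ => Function.Injective (F.map μ)) (fun _ _ μ _ => (map_bijective_of_isIso F μ).1)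
      key (fun _ _ _ p q _ _ hp hq y₁ y₂ h => hp (hq (by rw [← map_comp', ← map_comp']; exact h)))
      (toBase A) A.res_surjective
  exact ⟨fun y₁ y₂ => hinj (h0.2.elim _ _)⟩

end Groth.Agent.ArtFunLib.Fibre
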