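import Groth.Agent.ArtFunLib.Smooth
import Groth.Prelude.Def_ArtFun5
import Mathlib.RingTheory.Artinian.Module

/-! Families over a complete ring are formal elements. -/

universe u v

open CategoryTheory ArtFun ArtFun.Art

namespace Groth.Agent.ArtFunLib

variable {Λ : Type u} {k : Type u} [CommRing Λ] [Field k] [Algebra Λ k] (R : CRing Λ k)
variable {F : Art Λ k ⥤ Type v}

theorem exists_mpow_le_ker {A : Art Λ k} (φ : HomSet R.carrier R.res A) :
    ∃ n, ∀ a ∈ CRing.mpow R n, φ.1 a = 0 := by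
  obtain ⟨N, hN⟩ := IsArtinianRing.isNilpotent_jacobson_bot (R := A)
  rw [IsLocalRing.jacobson_eq_maximalIdeal ⊥ bot_ne_top] at hN
  refine ⟨N, fun a ha => ?_⟩
  have h1 : (IsLocalRing.maximalIdeal R.carrier).map φ.1.toRingHom ≤ IsLocalRing.maximalIdeal A := by
    refine Ideal.map_le_iff_le_comap.2 fun b hb => ?_
    rw [CRing.mem_maximalIdeal_iff] at hb
    rw [Ideal.mem_comap, Art.mem_maximalIdeal_iff]
    exact (DFunLike.congr_fun φ.2 b).trans hb
  have h2 : φ.1 a ∈ IsLocalRing.maximalIdeal A ^ (N + 1) := by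
    refine Ideal.pow_right_mono h1 _ ?_
    rw [← Ideal.map_pow]
    exact Ideal.mem_map_of_mem φ.1.toRingHom ha
  rw [pow_succ, hN, zero_mul] at h2
  exact h2

/-- The map out of a truncation. -/
noncomputable def descTrunc {A : Art Λ k} (φ : HomSet R.carrier R.res A) (n : ℕ)
    (h : ∀ a ∈ CRing.mpow R n, φ.1 a = 0) : R.trunc n ⟶ A :=
  ⟨Ideal.Quotient.liftₐ (CRing.mpow R n) φ.1 h, by
    apply AlgHom.ext
    intro x
    obtain ⟨a, rfl⟩ := Ideal.Quotient.mk_surjective x
    exact DFunLike.congr_fun φ.2 a⟩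

theorem map_descTrunc {A : Art Λ k} (φ : HomSet R.carrier R.res A) (n : ℕ)
    (h : ∀ a ∈ CRing.mpow R n, φ.1 a = 0) : HomSet.map (descTrunc R φ n h) (R.truncHom n) = φ :=
  Subtype.ext (AlgHom.ext fun _ => rfl)

theorem descTrunc_comp {A B : Art Λ k} (f : A ⟶ B) (φ : HomSet R.carrier R.res A) (n : ℕ)
    (h : ∀ a ∈ CRing.mpow R n, φ.1 a = 0) (h' : ∀ a ∈ CRing.mpow R n, (HomSet.map f φ).1 a = 0) :
    descTrunc R φ n h ≫ f = descTrunc R (HomSet.map f φ) n h' :=
  hom_apply_ext fun x => (Ideal.Quotient.mk_surjective x).elim fun _ ha => ha ▸ rfl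

variable {R} in
theorem map_descTrunc_add (u : FormalElt F R) {A : Art Λ k} (φ : HomSet R.carrier R.res A) (n j : ℕ)
    (h : ∀ a ∈ CRing.mpow R n, φ.1 a = 0) (h' : ∀ a ∈ CRing.mpow R (n + j), φ.1 a = 0) :
    F.map (descTrunc R φ (n + j) h') (u.elt (n + j)) = F.map (descTrunc R φ n h) (u.elt n) := by
  induction j with
  | zero => rfl
  | succ j ih =>
    have hj : ∀ a ∈ CRing.mpow R (n + j), φ.1 a = 0 := fun a ha =>
      h a (Ideal.pow_le_pow_right (by omega) ha)
    rw [← ih hj, ← u.compat (n + j)]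
    have e : descTrunc R φ (n + (j + 1)) h' = R.truncMap (n + j) ≫ descTrunc R φ (n + j) hj :=
      hom_apply_ext fun x => (Ideal.Quotient.mk_surjective x).elim fun _ ha => ha ▸ rfl
    rw [e, Functor.map_comp]
    rfl

variable {R} in
theorem map_descTrunc_eq (u : FormalElt F R) {A : Art Λ k} (φ : HomSet R.carrier R.res A) (n m : ℕ)
    (h : ∀ a ∈ CRing.mpow R n, φ.1 a = 0) (h' : ∀ a ∈ CRing.mpow R m, φ.1 a = 0) :
    F.map (descTrunc R φ n h) (u.elt n) = F.map (descTrunc R φ m h') (u.elt m) := by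
  have key : ∀ a b, a ≤ b → ∀ (ha : ∀ x ∈ CRing.mpow R a, φ.1 x = 0) (hb : ∀ x ∈ CRing.mpow R b, φ.1 x = 0),
      F.map (descTrunc R φ b hb) (u.elt b) = F.map (descTrunc R φ a ha) (u.elt a) := by
    intro a b hab ha hb
    obtain ⟨j, rfl⟩ := Nat.exists_eq_add_of_le hab
    exact map_descTrunc_add u φ a j ha hb
  rcases le_total n m with hnm | hnm
  · exact (key n m hnm h h').symm
  · exact key m n hnm h' h

theorem bijective_toFormalElt (R : CRing Λ k) (F : Art Λ k ⥤ Type v) :
    Function.Bijective (fun ξ : Family R.carrier R.res F => ξ.toFormalElt) := by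
  constructor
  · intro ξ ξ' e
    have e' : ∀ A φ, ξ.app A φ = ξ'.app A φ := fun A φ => by
      obtain ⟨n, hn⟩ := exists_mpow_le_ker R φ
      rw [← map_descTrunc R φ n hn, ξ.natural, ξ'.natural]
      exact congrArg (F.map _) (congrArg (fun t => FormalElt.elt t n) e)
    cases ξ
    cases ξ'
    congr
    exact funext fun A => funext (e' A)
  · intro u
    refine ⟨⟨fun A φ => F.map (descTrunc R φ _ (exists_mpow_le_ker R φ).choose_spec)
      (u.elt (exists_mpow_le_ker R φ).choose), fun {A B} f φ => ?_⟩, ?_⟩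
    · have hn : ∀ a ∈ CRing.mpow R (exists_mpow_le_ker R φ).choose, (HomSet.map f φ).1 a = 0 := fun a ha =>
        (congrArg f.toAlgHom ((exists_mpow_le_ker R φ).choose_spec a ha)).trans (map_zero _)
      rw [map_descTrunc_eq u (HomSet.map f φ) _ _ (exists_mpow_le_ker R _).choose_spec hn,
        ← descTrunc_comp R f φ _ (exists_mpow_le_ker R φ).choose_spec hn, Functor.map_comp]
      rfl
    · refine FormalElt.ext' fun n => ?_
      have hn : ∀ a ∈ CRing.mpow R n, (R.truncHom n).1 a = 0 := fun a ha =>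
        Ideal.Quotient.eq_zero_iff_mem.2 ha
      refine (map_descTrunc_eq u (R.truncHom n) _ n (exists_mpow_le_ker R _).choose_spec hn).trans ?_
      rw [show descTrunc R (R.truncHom n) n hn = 𝟙 _ from
        hom_apply_ext fun x => (Ideal.Quotient.mk_surjective x).elim fun _ ha => ha ▸ rfl, F.map_id]
      rfl

end Groth.Agent.ArtFunLib
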