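import Groth.Agent.ArtFunLib.Square
import Mathlib.CategoryTheory.Limits.Types.Pullbacks
import Mathlib.CategoryTheory.Limits.FunctorCategory.Basic
import Mathlib.CategoryTheory.Limits.Shapes.Pullback.IsPullback.Basic

/-! Fibre products in the category of functors of Artin rings, elementwise. -/

universe u v

open CategoryTheory ArtFun ArtFun.Art

namespace Groth.Agent.ArtFunLib

variable {Λ : Type u} {k : Type u} [CommRing Λ] [Field k] [Algebra Λ k]

theorem isPullback_app {F G H : Art Λ k ⥤ Type v} (φ : F ⟶ G) (ψ : H ⟶ G) (A : Art Λ k) :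
    IsPullback ((Limits.pullback.fst φ ψ).app A) ((Limits.pullback.snd φ ψ).app A) (φ.app A)
      (ψ.app A) :=
  (IsPullback.of_hasPullback φ ψ).map ((evaluation (Art Λ k) (Type v)).obj A)

theorem pullback_exists {F G H : Art Λ k ⥤ Type v} (φ : F ⟶ G) (ψ : H ⟶ G) {A : Art Λ k}
    (x : F.obj A) (y : H.obj A) (h : φ.app A x = ψ.app A y) :
    ∃ z, (Limits.pullback.fst φ ψ).app A z = x ∧ (Limits.pullback.snd φ ψ).app A z = y :=
  Limits.Types.exists_of_isPullback (isPullback_app φ ψ A) x y h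

theorem pullback_ext {F G H : Art Λ k ⥤ Type v} (φ : F ⟶ G) (ψ : H ⟶ G) {A : Art Λ k}
    {z w : (Limits.pullback φ ψ).obj A}
    (h₁ : (Limits.pullback.fst φ ψ).app A z = (Limits.pullback.fst φ ψ).app A w)
    (h₂ : (Limits.pullback.snd φ ψ).app A z = (Limits.pullback.snd φ ψ).app A w) : z = w :=
  Limits.Types.ext_of_isPullback (isPullback_app φ ψ A) h₁ h₂

theorem pullback_condition_apply {F G H : Art Λ k ⥤ Type v} (φ : F ⟶ G) (ψ : H ⟶ G) {A : Art Λ k}
    (z : (Limits.pullback φ ψ).obj A) :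
    φ.app A ((Limits.pullback.fst φ ψ).app A z) = ψ.app A ((Limits.pullback.snd φ ψ).app A z) :=
  ConcreteCategory.congr_hom (isPullback_app φ ψ A).w z

end Groth.Agent.ArtFunLib
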