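import Groth.Prelude.Def_ArtFun6
import Groth.Agent.ArtFunLib.Basic
import Groth.Agent.ModPairLib.Basic
import Mathlib.AlgebraicGeometry.Morphisms.Flat

/-! `X ×_k Spec B` over affine opens of `X`. -/

set_option autoImplicit false
set_option backward.isDefEq.respectTransparency false
universe u

open CategoryTheory CategoryTheory.Limits AlgebraicGeometry ArtFun ArtFun.Art Opposite

namespace Groth.Agent.ArtFunLib.HilbAffine

/-- The kernel on affine opens of a base change of `Spec φ`, `φ` surjective. -/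
theorem ker_appLE_of_isPullback {P Q : Scheme.{u}} {S T : CommRingCat.{u}} {φ : S ⟶ T}
    (hφ : Function.Surjective φ) {g : P ⟶ Q} {pr' : P ⟶ Spec T} {pr : Q ⟶ Spec S}
    (h : IsPullback g pr' pr (Spec.map φ)) (W : Q.affineOpens) (V : P.Opens) (hV : V = g ⁻¹ᵁ W.1)
    (e : V ≤ g ⁻¹ᵁ W.1) :
    Function.Surjective (g.appLE W.1 V e).hom ∧
    RingHom.ker (g.appLE W.1 V e).hom =
      (RingHom.ker φ.hom).map ((pr.appLE ⊤ W.1 (fun _ _ => trivial)).hom.comp (Scheme.ΓSpecIso S).inv.hom) := by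
  haveI := IsClosedImmersion.spec_of_surjective φ hφ
  haveI : IsClosedImmersion g := MorphismProperty.of_isPullback (P := @IsClosedImmersion) h.flip inferInstance
  subst hV
  rw [← Scheme.Hom.app_eq_appLE]
  refine ⟨g.app_surjective W.1 W.2, ?_⟩
  rw [← g.ker_apply W, ← h.isoPullback_hom_fst, Scheme.Hom.ker_comp_of_isIso,
    Scheme.IdealSheafData.ker_fst_of_isClosedImmersion,
    ModPairLib.ideal_comap _ pr ⟨⊤, isAffineOpen_top _⟩ W (fun _ _ => trivial), ← Ideal.map_map,
    Scheme.Hom.ker_apply]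
  congr 1
  show RingHom.ker ((Spec.map φ).appTop).hom = _
  have hbij := ConcreteCategory.bijective_of_isIso (Scheme.ΓSpecIso S).inv
  have hbij' := ConcreteCategory.bijective_of_isIso (Scheme.ΓSpecIso T).inv
  have hn := Scheme.ΓSpecIso_inv_naturality φ
  apply le_antisymm
  · intro a ha
    obtain ⟨s, rfl⟩ := hbij.2 a
    refine Ideal.mem_map_of_mem _ (RingHom.mem_ker.2 (hbij'.1 ?_))
    rw [map_zero]
    exact (congr($hn s)).trans ha
  · refine Ideal.map_le_iff_le_comap.2 fun s hs => RingHom.mem_ker.2 ?_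
    refine (congr($hn s)).symm.trans ?_
    show (Scheme.ΓSpecIso T).inv.hom (φ.hom s) = 0
    rw [RingHom.mem_ker.1 hs, map_zero]

variable {k : Type u} [Field k] {X : Scheme.{u}} (x : X ⟶ specPt k)

/-- The affine open of `X ×_k Spec B` over an affine open of `X`. -/
noncomputable def W (B : Art k k) (U : X.affineOpens) : (XA x B).affineOpens :=
  haveI : IsAffineHom (pullback.fst x (specOver B)) := MorphismProperty.pullback_fst _ _ inferInstance
  ⟨pullback.fst x (specOver B) ⁻¹ᵁ U.1, U.2.preimage _⟩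

theorem W_mono (B : Art k k) {U U' : X.affineOpens} (h : U'.1 ≤ U.1) : (W x B U').1 ≤ (W x B U).1 :=
  (pullback.fst x (specOver B)).preimage_mono h

/-- `B → Γ(W)`. -/
noncomputable def c (B : Art k k) (U : X.affineOpens) : B →+* Γ(XA x B, (W x B U).1) :=
  ((XApr x B).appLE ⊤ (W x B U).1 (fun _ _ => trivial)).hom.comp (Scheme.ΓSpecIso (CommRingCat.of B)).inv.hom

theorem rho_le (B : Art k k) (U : X.affineOpens) : U.1 = (XAincl x B) ⁻¹ᵁ (W x B U).1 := by
  show _ = (XAincl x B) ⁻¹ᵁ (pullback.fst x (specOver B) ⁻¹ᵁ U.1)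
  rw [← Scheme.Hom.comp_preimage, XAincl_fst]
  rfl

theorem pi_le {B A : Art k k} (p : B ⟶ A) (U : X.affineOpens) : (W x A U).1 = (XAmap x p) ⁻¹ᵁ (W x B U).1 := by
  show pullback.fst x (specOver A) ⁻¹ᵁ U.1 = (XAmap x p) ⁻¹ᵁ (pullback.fst x (specOver B) ⁻¹ᵁ U.1)
  rw [← Scheme.Hom.comp_preimage, XAmap_fst]

/-- Restriction to the closed fibre. -/
noncomputable def rho (B : Art k k) (U : X.affineOpens) : Γ(XA x B, (W x B U).1) →+* Γ(X, U.1) :=
  ((XAincl x B).appLE (W x B U).1 U.1 (rho_le x B U).le).hom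

/-- Restriction along `p`. -/
noncomputable def pi {B A : Art k k} (p : B ⟶ A) (U : X.affineOpens) :
    Γ(XA x B, (W x B U).1) →+* Γ(XA x A, (W x A U).1) :=
  ((XAmap x p).appLE (W x B U).1 (W x A U).1 (pi_le x p U).le).hom

theorem rho_spec (B : Art k k) (U : X.affineOpens) :
    Function.Surjective (rho x B U) ∧ RingHom.ker (rho x B U) = (IsLocalRing.maximalIdeal B).map (c x B U) := by
  have h := ker_appLE_of_isPullback (φ := CommRingCat.ofHom B.res.toRingHom) B.res_surjective
    (isPullback_XAincl x B) (W x B U) U.1 (rho_le x B U) (rho_le x B U).le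
  refine ⟨h.1, h.2.trans ?_⟩
  congr 1
  exact IsLocalRing.eq_maximalIdeal (RingHom.ker_isMaximal_of_surjective _ B.res_surjective)

theorem pi_spec {B A : Art k k} (p : B ⟶ A) (hp : Function.Surjective p) (U : X.affineOpens) :
    Function.Surjective (pi x p U) ∧ RingHom.ker (pi x p U) = (RingHom.ker p.toAlgHom.toRingHom).map (c x B U) :=
  ker_appLE_of_isPullback (φ := CommRingCat.ofHom p.toAlgHom.toRingHom) hp
    (isPullback_XAmap x p) (W x B U) (W x A U).1 (pi_le x p U) (pi_le x p U).le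

theorem comap_incl_ideal {B : Art k k} (I : (XA x B).IdealSheafData) (U : X.affineOpens) :
    (I.comap (XAincl x B)).ideal U = (I.ideal (W x B U)).map (rho x B U) :=
  ModPairLib.ideal_comap I (XAincl x B) (W x B U) U (rho_le x B U).le

theorem comap_map_ideal {B A : Art k k} (p : B ⟶ A) (I : (XA x B).IdealSheafData) (U : X.affineOpens) :
    (I.comap (XAmap x p)).ideal (W x A U) = (I.ideal (W x B U)).map (pi x p U) :=
  ModPairLib.ideal_comap I (XAmap x p) (W x B U) (W x A U) (pi_le x p U).le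

theorem iSup_W (B : Art k k) : (⨆ U : X.affineOpens, (W x B U).1) = ⊤ := by
  refine top_le_iff.1 fun z _ => ?_
  obtain ⟨_, ⟨U, hU, rfl⟩, hzU, -⟩ := X.isBasis_affineOpens.exists_subset_of_mem_open
    (Set.mem_univ (pullback.fst x (specOver B) z)) isOpen_univ
  exact TopologicalSpace.Opens.mem_iSup.2 ⟨⟨U, hU⟩, hzU⟩

theorem ext_ideal {B : Art k k} {I J : (XA x B).IdealSheafData}
    (h : ∀ U : X.affineOpens, I.ideal (W x B U) = J.ideal (W x B U)) : I = J :=
  Scheme.IdealSheafData.ext_of_iSup_eq_top (fun U => W x B U) (iSup_W x B) h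

theorem flat_quotient {B : Art k k} (I : (XA x B).IdealSheafData) (hI : FlatOver X x B I) (U : X.affineOpens) :
    ((Ideal.Quotient.mk (I.ideal (W x B U))).comp (c x B U)).Flat := by
  haveI : Flat (I.subschemeι ≫ XApr x B) := hI
  have h := (I.subschemeι ≫ XApr x B).flat_appLE (U := ⊤) (isAffineOpen_top _) (V := I.subschemeι ⁻¹ᵁ (W x B U).1)
    ((W x B U).2.preimage _) (fun _ _ => trivial)
  rw [← Scheme.Hom.appLE_comp_appLE I.subschemeι (XApr x B) ⊤ (W x B U).1 _ (fun _ _ => trivial) le_rfl,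
    ← Scheme.Hom.app_eq_appLE, Scheme.IdealSheafData.subschemeι_app] at h
  have h2 := (RingHom.Flat.of_bijective (ConcreteCategory.bijective_of_isIso
    (Scheme.ΓSpecIso (CommRingCat.of B)).inv)).comp h
  have h3 := h2.comp (RingHom.Flat.of_bijective (ConcreteCategory.bijective_of_isIso
    (I.subschemeObjIso (W x B U)).hom))
  convert h3 using 1
  refine RingHom.ext fun b => ?_
  show _ = (I.subschemeObjIso (W x B U)).hom ((I.subschemeObjIso (W x B U)).inv _)
  rw [← ConcreteCategory.comp_apply, Iso.inv_hom_id, ConcreteCategory.id_apply]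
  rfl

theorem c_map (B : Art k k) {U U' : X.affineOpens} (h : U'.1 ≤ U.1) (b : B) :
    (XA x B).presheaf.map (homOfLE (W_mono x B h)).op (c x B U b) = c x B U' b :=
  congr($(Scheme.Hom.appLE_map (f := XApr x B) (U := ⊤) (fun _ _ => trivial) (homOfLE (W_mono x B h)).op)
    ((Scheme.ΓSpecIso (CommRingCat.of B)).inv b))

theorem rho_map (B : Art k k) {U U' : X.affineOpens} (h : U'.1 ≤ U.1) (a : Γ(XA x B, (W x B U).1)) :
    rho x B U' ((XA x B).presheaf.map (homOfLE (W_mono x B h)).op a) = X.presheaf.map (homOfLE h).op (rho x B U a) := by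
  have h1 := Scheme.Hom.map_appLE (f := XAincl x B) (rho_le x B U').le (homOfLE (W_mono x B h)).op
  have h2 := Scheme.Hom.appLE_map (f := XAincl x B) (rho_le x B U).le (homOfLE h).op
  exact (congr($h1 a)).trans (congr($h2 a)).symm

theorem pi_map {B A : Art k k} (p : B ⟶ A) {U U' : X.affineOpens} (h : U'.1 ≤ U.1) (a : Γ(XA x B, (W x B U).1)) :
    pi x p U' ((XA x B).presheaf.map (homOfLE (W_mono x B h)).op a) =
      (XA x A).presheaf.map (homOfLE (W_mono x A h)).op (pi x p U a) := by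
  have h1 := Scheme.Hom.map_appLE (f := XAmap x p) (pi_le x p U').le (homOfLE (W_mono x B h)).op
  have h2 := Scheme.Hom.appLE_map (f := XAmap x p) (pi_le x p U).le (homOfLE (W_mono x A h)).op
  exact (congr($h1 a)).trans (congr($h2 a)).symm

end Groth.Agent.ArtFunLib.HilbAffine
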