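import Groth.Agent.ArtFunLib.HilbObsApply
import Groth.Agent.Synt29.CodimTwoSpread
import Groth.Agent.Synt29.MinorsReduce

/-!
# Cohen–Macaulay subschemes of codimension two are locally unobstructed

Their flat deformations are cut out by the maximal minors of deformations of a Hilbert–Burch matrix.
-/

set_option autoImplicit false
set_option backward.isDefEq.respectTransparency false
set_option linter.style.haveILetI false
universe u

open CategoryTheory CategoryTheory.Limits AlgebraicGeometry ArtFun ArtFun.Art Matrix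

namespace Groth.Agent.ArtFunLib.HilbObs

open HilbAffine HilbSit HilbMod HilbTangent HilbLeftExact Synt29 MinorsLift

/-- Exactness on the special fibre, read on the special fibre. -/
theorem specialExact_of_fibre {C R : Type u} {R₀ : Type u} [CommRing C] [IsLocalRing C] [IsArtinianRing C]
    [CommRing R] [Algebra C R] [CommRing R₀] (ρ : R →+* R₀) (hρ : Function.Surjective ρ)
    (hker : RingHom.ker ρ = (IsLocalRing.maximalIdeal C).map (algebraMap C R)) {r : ℕ}
    (ψ : Matrix (Fin (r + 1)) (Fin r) R) (φ : Matrix (Fin (r + 1)) (Fin r) R₀) (h : ψ.map ρ = φ)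
    (hinj : Function.Injective φ.mulVecLin)
    (hex : LinearMap.range φ.mulVecLin = LinearMap.ker (Fintype.linearCombination R₀ (minors φ))) :
    SpecialExact (C := C) ψ := by
  have hmv : ∀ (v : Fin r → R) i, ρ ((ψ *ᵥ v) i) = (φ *ᵥ fun j => ρ (v j)) i := fun v i => by
    rw [RingHom.map_mulVec, h]; rfl
  constructor
  · intro v hv j
    rw [← hker, RingHom.mem_ker]
    refine congrFun (hinj (a₁ := fun j => ρ (v j)) (a₂ := 0) ?_) j
    rw [map_zero]
    funext i
    show (φ *ᵥ fun j => ρ (v j)) i = 0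
    rw [← hmv, ← RingHom.mem_ker, hker]
    exact hv i
  · intro z hz
    have h0 : (fun i => ρ (z i)) ∈ LinearMap.ker (Fintype.linearCombination R₀ (minors φ)) := by
      rw [LinearMap.mem_ker, linearCombination_eq]
      rw [← hker, RingHom.mem_ker, map_sum] at hz
      rw [← hz]
      exact Finset.sum_congr rfl fun i _ => by rw [map_mul, minors_map, h]
    rw [← hex] at h0
    obtain ⟨w, hw⟩ := h0
    choose v hv using fun j => hρ (w j)
    refine ⟨v, fun i => ?_⟩
    rw [← hker, RingHom.mem_ker, map_sub, hmv, funext hv]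
    exact sub_eq_zero.2 (congrFun hw i).symm

variable {k : Type u} [Field k] {X : Scheme.{u}} (x : X ⟶ specPt k)

/-- Cohen–Macaulay subschemes of codimension two of a smooth variety are locally unobstructed. -/
theorem locUnob_of_cm [Smooth x] (I₀ : X.IdealSheafData)
    (hCM : ∀ y : I₀.subscheme, LocCoh.IsCohenMacaulayLocalRing (I₀.subscheme.presheaf.stalk y))
    (hcodim : ∀ y : I₀.subscheme, ringKrullDim (I₀.subscheme.presheaf.stalk y) + 2 =
      ringKrullDim (X.presheaf.stalk (I₀.subschemeι.base y))) :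
    LocUnob x I₀ := by
  classical
  intro y
  by_cases hy : y ∈ I₀.support
  swap
  · obtain ⟨U, hyU, r, f, hf, hfI⟩ := exists_away I₀ y hy
    exact ⟨U, hyU, fun p _ t ht IA => unob_of_regular x U f hf hfI p t ht IA⟩
  obtain ⟨y', rfl⟩ : y ∈ Set.range I₀.subschemeι := by rw [I₀.range_subschemeι]; exact hy
  obtain ⟨U, hyU, r, φ, hspan, hinj, hex⟩ :=
    CodimTwo.exists_affine_resolution k X I₀.subscheme x I₀.subschemeι hCM hcodim y'
  rw [Scheme.IdealSheafData.ker_subschemeι] at hspan
  have hheight : ∀ P : Ideal Γ(X, U.1), P.IsPrime → I₀.ideal U ≤ P → (2 : ℕ∞) ≤ P.height := by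
    intro P hP hle
    have hz : U.2.fromSpec ⟨P, hP⟩ ∈ I₀.support := by
      have h1 : U.2.fromSpec ⟨P, hP⟩ ∈ X.zeroLocus (U := U.1) (I₀.ideal U) ∩ (U.1 : Set X) :=
        (U.2.fromSpec_image_zeroLocus _).le ⟨_, hle, rfl⟩
      rw [← Scheme.IdealSheafData.coe_support_inter] at h1
      exact h1.1
    obtain ⟨z, hz'⟩ : U.2.fromSpec ⟨P, hP⟩ ∈ Set.range I₀.subschemeι := by rw [I₀.range_subschemeι]; exact hz
    have hzU : I₀.subschemeι z ∈ U.1 := hz' ▸ U.2.range_fromSpec.le ⟨_, rfl⟩
    have hP' : (U.2.primeIdealOf ⟨_, hzU⟩).asIdeal = P := congrArg PrimeSpectrum.asIdeal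
      (U.2.fromSpec.isEmbedding.injective ((U.2.fromSpec_primeIdealOf ⟨_, hzU⟩).trans hz'))
    letI : Algebra Γ(X, U.1) (X.presheaf.stalk (I₀.subschemeι z)) :=
      (X.presheaf.germ U.1 _ hzU).hom.toAlgebra
    haveI := U.2.isLocalization_stalk ⟨_, hzU⟩
    have hd : ringKrullDim (X.presheaf.stalk (I₀.subschemeι z)) = (P.height : WithBot ℕ∞) := by
      rw [IsLocalization.AtPrime.ringKrullDim_eq_height (U.2.primeIdealOf ⟨_, hzU⟩).asIdeal
        (X.presheaf.stalk (I₀.subschemeι z))]
      rw [hP']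
    have h2 : ((2 : ℕ∞) : WithBot ℕ∞) ≤ (P.height : WithBot ℕ∞) := by
      rw [← hd, ← hcodim z]
      exact le_add_of_nonneg_left ringKrullDim_nonneg_of_nontrivial
    exact WithBot.coe_le_coe.1 h2
  refine ⟨U, hyU, fun {B A} p {n} t ht IA => ?_⟩
  let RA := Γ(XA x A, (W x A U).1)
  let R := Γ(XA x B, (W x B U).1)
  letI : Algebra A RA := (c x A U).toAlgebra
  haveI : Module.Flat A RA := flat_c x A U
  letI : Algebra B R := (c x B U).toAlgebra
  haveI : Module.Flat B R := flat_c x B U
  haveI : Module.Flat A (RA ⧸ IA.1.ideal (W x A U)) := flat_quotient x IA.1 IA.2.1 U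
  obtain ⟨hρs, hρk⟩ := rho_spec x A U
  have hIA0 : (IA.1.ideal (W x A U)).map (rho x A U) = I₀.ideal U := by rw [← comap_incl_ideal, IA.2.2]
  let φ₀ : Matrix (Fin (r + 1)) (Fin r) RA := φ.map (fstPull x A U)
  have hφ₀ : φ₀.map (rho x A U) = φ := by ext i j; exact rho_fst x A U _
  have hsp₀ : SpecialExact (C := A) φ₀ := specialExact_of_fibre (rho x A U) hρs hρk φ₀ φ hφ₀ hinj hex
  have hmin₀ : (Ideal.span (Set.range (minors φ₀))).map (rho x A U) = I₀.ideal U := by
    rw [← hspan, Ideal.map_span, ← Set.range_comp]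
    refine congrArg (fun F => Ideal.span (Set.range F)) (funext fun i => ?_)
    rw [Function.comp_apply, minors_map, hφ₀]
  let e : (RA ⧸ (IsLocalRing.maximalIdeal A).map (algebraMap A RA)) ≃+* Γ(X, U.1) :=
    (Ideal.quotEquivOfEq hρk.symm).trans (RingHom.quotientKerEquivOfSurjective hρs)
  have he : e.toRingHom.comp (Ideal.Quotient.mk _) = rho x A U := RingHom.ext fun a => rfl
  letI : Field (A ⧸ IsLocalRing.maximalIdeal A.carrier) := Ideal.Quotient.field _
  haveI : Algebra.Smooth (A ⧸ IsLocalRing.maximalIdeal A.carrier)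
      (RA ⧸ (IsLocalRing.maximalIdeal A).map (algebraMap A RA)) := by
    let η : (A ⧸ IsLocalRing.maximalIdeal A.carrier) ≃+* k :=
      (Ideal.quotEquivOfEq (IsLocalRing.ker_eq_maximalIdeal A.res.toRingHom A.res_surjective).symm).trans
        (RingHom.quotientKerEquivOfSurjective (f := A.res.toRingHom) A.res_surjective)
    have h1 : (k₀ x U).Smooth :=
      (RingHom.Smooth.of_bijective (ConcreteCategory.bijective_of_isIso
        (Scheme.ΓSpecIso (CommRingCat.of k)).inv)).comp (x.smooth_appLE (isAffineOpen_top _) U.2 _)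
    have h2 : (algebraMap (A ⧸ IsLocalRing.maximalIdeal A.carrier)
        (RA ⧸ (IsLocalRing.maximalIdeal A).map (algebraMap A RA))) =
        e.symm.toRingHom.comp ((k₀ x U).comp η.toRingHom) := by
      refine Ideal.Quotient.ringHom_ext (RingHom.ext fun a => e.injective ?_)
      show e (Ideal.Quotient.mk _ (c x A U a)) = e (e.symm (k₀ x U (A.res a)))
      rw [e.apply_symm_apply]
      exact rho_c x A U a
    exact RingHom.smooth_algebraMap.1 (h2 ▸ ((RingHom.Smooth.of_bijective η.bijective).comp h1).comp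
      (RingHom.Smooth.of_bijective e.symm.bijective))
  obtain ⟨φA, hφA, hspanA, -⟩ := exists_lift_matrix (C := A) (A := RA) (IsLocalRing.maximalIdeal A.carrier) le_rfl φ₀ hsp₀
    (fun P hP hle => by
      haveI := hP
      have hh : (P.comap e.symm).height = P.height := e.symm.height_comap P
      rw [← hh]
      refine hheight _ inferInstance ?_
      rw [← hmin₀, ← he, ← Ideal.map_map, Ideal.map_le_iff_le_comap]
      intro a ha
      show e.symm (e a) ∈ P
      rw [e.symm_apply_apply]
      exact hle ha)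
    (IA.1.ideal (W x A U)) (by
      have hj : ∀ I J : Ideal RA, I.map (rho x A U) = J.map (rho x A U) →
          I.map (Ideal.Quotient.mk ((IsLocalRing.maximalIdeal A).map (algebraMap A RA))) =
            J.map (Ideal.Quotient.mk _) := fun I J h => by
        rw [← he, ← Ideal.map_map, ← Ideal.map_map] at h
        have h' := congrArg (Ideal.map e.symm.toRingHom) h
        have hid : e.symm.toRingHom.comp e.toRingHom = RingHom.id _ := RingHom.ext e.symm_apply_apply
        simpa only [Ideal.map_map, ← RingHom.comp_assoc, hid, RingHom.id_comp] using h'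
      exact hj _ _ (hIA0.trans hmin₀.symm))
  have hφA0 : φA.map (rho x A U) = φ := by
    rw [← hφ₀]
    ext i j
    show rho x A U (φA i j) = rho x A U (φ₀ i j)
    rw [← sub_eq_zero, ← map_sub, ← RingHom.mem_ker, hρk]
    exact hφA i j
  choose φb hφb using fun i j => (pi_spec x p ht.surj U).1 (φA i j)
  let φB : Matrix (Fin (r + 1)) (Fin r) R := Matrix.of φb
  have hπB : φB.map (pi x p U) = φA := by ext i j; exact hφb i j
  have hρB : φB.map (rho x B U) = φ := by
    rw [← hφA0]; ext i j
    show rho x B U (φb i j) = rho x A U (φA i j)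
    rw [← hφb, rho_pi]
  have hflatQ := (exact_of_special φB
    (specialExact_of_fibre (rho x B U) (rho_spec x B U).1 (rho_spec x B U).2 φB φ hρB hinj hex)).2.2
  refine ⟨r + 1, minors φB, ?_, fun v z h0 l => ?_⟩
  · rw [← hspanA]
    refine congrArg (fun F => Ideal.span (Set.range F)) (funext fun i => ?_)
    rw [minors_map, hπB]
  · let Q := Ideal.span (Set.range (minors φB))
    have hQ : ∑ j, ((Ideal.Quotient.mk Q).comp (c x B U)) (t j) * Ideal.Quotient.mk Q (z j) = 0 := by
      have hsum : ∑ j, ((Ideal.Quotient.mk Q).comp (c x B U)) (t j) * Ideal.Quotient.mk Q (z j) =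
          Ideal.Quotient.mk Q (∑ j, c x B U (t j) * z j) := by
        rw [map_sum]
        exact Finset.sum_congr rfl fun j _ => (map_mul (Ideal.Quotient.mk Q) (c x B U (t j)) (z j)).symm
      rw [hsum, Ideal.Quotient.eq_zero_iff_mem, eq_neg_of_add_eq_zero_right h0]
      exact neg_mem (sum_mem fun i _ => Ideal.mul_mem_left _ _ (Ideal.subset_span ⟨i, rfl⟩))
    have h4 := HilbObsKoszul.mem_map_of_sum_eq_zero ((Ideal.Quotient.mk Q).comp (c x B U)) hflatQ t ht.indep _ hQ l
    rw [← Ideal.map_map] at h4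
    obtain ⟨w, hw, hw'⟩ := (Ideal.mem_map_iff_of_surjective _ Ideal.Quotient.mk_surjective).1 h4
    have h5 : z l - w ∈ Q := Ideal.Quotient.eq.1 hw'.symm
    have h6 := Ideal.mem_map_of_mem (rho x B U) h5
    rw [map_sub, rho_eq_zero_of_m hw, sub_zero, Ideal.map_span, ← Set.range_comp] at h6
    rw [← hspan]
    convert h6 using 4
    funext i
    rw [Function.comp_apply, minors_map, hρB]

/-- The same for a closed immersion. -/
theorem locUnob_of_cm_imm [Smooth x] {Y : Scheme.{u}} (i : Y ⟶ X) [IsClosedImmersion i]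
    (hCM : ∀ y : Y, LocCoh.IsCohenMacaulayLocalRing (Y.presheaf.stalk y))
    (hcodim : ∀ y : Y, ringKrullDim (Y.presheaf.stalk y) + 2 = ringKrullDim (X.presheaf.stalk (i.base y))) :
    LocUnob x i.ker := by
  haveI : IsIso i.toImage := inferInstance
  let e := (asIso i.toImage)
  have hst : ∀ z : i.ker.subscheme, Nonempty (i.ker.subscheme.presheaf.stalk z ≃+* Y.presheaf.stalk (e.inv z)) ∧
      i (e.inv z) = i.ker.subschemeι z := by
    intro z
    refine ⟨⟨(asIso (e.inv.stalkMap z)).commRingCatIsoToRingEquiv.symm⟩, ?_⟩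
    have h1 : e.inv ≫ i = i.ker.subschemeι := by
      rw [Iso.inv_comp_eq]
      exact (Scheme.Hom.toImage_imageι i).symm
    rw [← h1]; rfl
  refine locUnob_of_cm x i.ker (fun z => ?_) (fun z => ?_)
  · obtain ⟨⟨σ⟩, -⟩ := hst z
    haveI := hCM (e.inv z)
    haveI : IsLocallyNoetherian X := LocallyOfFiniteType.isLocallyNoetherian x
    haveI : IsLocallyNoetherian i.ker.subscheme := LocallyOfFiniteType.isLocallyNoetherian i.ker.subschemeι
    exact LC.Liaison.isCMLocal_of_ringEquiv σ.symm
  · obtain ⟨⟨σ⟩, hz⟩ := hst z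
    rw [ringKrullDim_eq_of_ringEquiv σ, hcodim]
    show ringKrullDim (X.presheaf.stalk (i (e.inv z))) = _
    rw [hz]

end Groth.Agent.ArtFunLib.HilbObs
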