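import Groth.Agent.ArtFunLib.HilbMod
import Mathlib.AlgebraicGeometry.Morphisms.Flat

/-! Ideal sheaves cut out by a morphism on an ideal sheaf of `X ×_k Spec B`. -/

set_option autoImplicit false
set_option backward.isDefEq.respectTransparency false
universe u

open CategoryTheory CategoryTheory.Limits AlgebraicGeometry ArtFun ArtFun.Art Opposite

namespace Groth.Agent.ArtFunLib.HilbIdeal

open HilbAffine HilbSit HilbMod

variable {k : Type u} [Field k] {X : Scheme.{u}} {x : X ⟶ specPt k}

theorem flat_of_ideals {B : Art k k} (I : (XA x B).IdealSheafData)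
    (h : ∀ U, ((Ideal.Quotient.mk (I.ideal (W x B U))).comp (c x B U)).Flat) : FlatOver X x B I := by
  show Flat (I.subschemeι ≫ XApr x B)
  let O : X.affineOpens → I.subscheme.affineOpens := fun U => ⟨I.subschemeι ⁻¹ᵁ (W x B U).1, (W x B U).2.preimage _⟩
  rw [HasRingHomProperty.iff_of_iSup_eq_top (P := @Flat) O (by
    show ⨆ U, I.subschemeι ⁻¹ᵁ (W x B U).1 = ⊤
    rw [← Scheme.Hom.preimage_iSup, iSup_W]; rfl)]
  intro U
  rw [← Scheme.Hom.appLE_comp_appLE I.subschemeι (XApr x B) ⊤ (W x B U).1 _ (fun _ _ => trivial) le_rfl,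
    ← Scheme.Hom.app_eq_appLE, Scheme.IdealSheafData.subschemeι_app]
  have h2 := (RingHom.Flat.of_bijective (ConcreteCategory.bijective_of_isIso
    (Scheme.ΓSpecIso (CommRingCat.of B)).hom)).comp ((h U).comp (RingHom.Flat.of_bijective
      (ConcreteCategory.bijective_of_isIso (I.subschemeObjIso (W x B U)).inv)))
  convert h2 using 1
  refine RingHom.ext fun b => ?_
  show _ = (I.subschemeObjIso (W x B U)).inv (Ideal.Quotient.mk _ (((XApr x B).appLE ⊤ (W x B U).1 _)
    ((Scheme.ΓSpecIso (CommRingCat.of B)).inv ((Scheme.ΓSpecIso (CommRingCat.of B)).hom b))))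
  rw [← ConcreteCategory.comp_apply (Scheme.ΓSpecIso (CommRingCat.of B)).hom, Iso.hom_inv_id, ConcreteCategory.id_apply]
  rfl

theorem exists_ideal {B : Art k k} (P : (XA x B).IdealSheafData) (I₀ : X.IdealSheafData)
    (θ : G P ⟶ ClSub.quotMod I₀)
    (hlin : ∀ (U : X.affineOpens) s (R : Γ(XA x B, (W x B U).1)) s', el P U s' = R * el P U s →
      θ.app U.1 s' = rho x B U R • θ.app U.1 s) :
    ∃ I : (XA x B).IdealSheafData, ∀ (U : X.affineOpens) a,
      a ∈ I.ideal (W x B U) ↔ ∃ s, el P U s = a ∧ θ.app U.1 s = 0 := by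
  let QW : ∀ U : X.affineOpens, Ideal Γ(XA x B, (W x B U).1) := fun U =>
    { carrier := {a | ∃ s : Γ(G P, U.1), el P U s = a ∧ θ.app U.1 s = 0}
      zero_mem' := ⟨0, map_zero (el P U), map_zero (θ.app U.1).hom⟩
      add_mem' := by
        rintro a b ⟨s, rfl, hs⟩ ⟨s', rfl, hs'⟩
        exact ⟨s + s', map_add _ _ _, by rw [map_add, hs, hs', add_zero]⟩
      smul_mem' := by
        rintro R a ⟨s, rfl, hs⟩
        obtain ⟨s', hs'⟩ := exists_el P U (R * el P U s) (Ideal.mul_mem_left _ _ (el_mem P U s))
        exact ⟨s', hs', by rw [hlin U s R s' hs', hs, smul_zero]⟩ }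
  have hQmap : ∀ (U V : X.affineOpens) (hV : V.1 ≤ U.1) a, a ∈ QW U →
      (XA x B).presheaf.map (homOfLE (W_mono x B hV)).op a ∈ QW V := by
    rintro U V hV a ⟨s, rfl, hs⟩
    refine ⟨(G P).presheaf.map (homOfLE hV).op s, el_map P U V hV s, ?_⟩
    rw [app_map, hs, map_zero]
  haveI := isAffineHom_incl x B
  let Ui : (XA x B).affineOpens → X.affineOpens := fun V => ⟨XAincl x B ⁻¹ᵁ V.1, V.2.preimage _⟩
  have hWU : ∀ V, (W x B (Ui V)).1 = V.1 := fun V => fst_incl_le x B V.1
  let res : ∀ V : (XA x B).affineOpens, Γ(XA x B, V.1) →+* Γ(XA x B, (W x B (Ui V)).1) := fun V =>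
    ((XA x B).presheaf.map (homOfLE (hWU V).le).op).hom
  have hres : ∀ V, Function.Bijective (res V) := fun V => by
    haveI : IsIso (homOfLE (hWU V).le) := ⟨homOfLE (hWU V).ge, Subsingleton.elim _ _, Subsingleton.elim _ _⟩
    exact ConcreteCategory.bijective_of_isIso ((XA x B).presheaf.map (homOfLE (hWU V).le).op)
  let I : (XA x B).IdealSheafData :=
    { ideal := fun V => (QW (Ui V)).comap (res V)
      map_ideal_basicOpen := fun V f => by
        have hVD : (Ui ((XA x B).affineBasicOpen f)).1 ≤ (Ui V).1 :=
          (XAincl x B).preimage_mono ((XA x B).basicOpen_le f)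
        let rD := ((XA x B).presheaf.map (homOfLE ((XA x B).basicOpen_le f)).op).hom
        have hcomm : ∀ a, res ((XA x B).affineBasicOpen f) (rD a) =
            (XA x B).presheaf.map (homOfLE (W_mono x B hVD)).op (res V a) := fun a => by
          show (XA x B).presheaf.map _ ((XA x B).presheaf.map _ a) = (XA x B).presheaf.map _ ((XA x B).presheaf.map _ a)
          rw [← ConcreteCategory.comp_apply, ← ConcreteCategory.comp_apply, ← Functor.map_comp, ← Functor.map_comp]
          rfl
        refine le_antisymm (Ideal.map_le_iff_le_comap.2 fun a ha => ?_) fun a ha => ?_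
        · show res ((XA x B).affineBasicOpen f) (rD a) ∈ QW (Ui ((XA x B).affineBasicOpen f))
          rw [hcomm]
          exact hQmap _ _ hVD _ ha
        · have hinst := V.2.isLocalization_basicOpen f
          have haP : a ∈ P.ideal ((XA x B).affineBasicOpen f) := by
            obtain ⟨s, hs, -⟩ := ha
            have h1 : res ((XA x B).affineBasicOpen f) a ∈ P.ideal (W x B _) := hs ▸ el_mem P _ s
            have h2 := P.map_ideal (V := (XA x B).affineBasicOpen f)
              (U := W x B (Ui ((XA x B).affineBasicOpen f))) (hWU _).le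
            rw [← h2] at h1
            obtain ⟨b, hb, hb'⟩ := (Ideal.mem_map_iff_of_surjective _ (hres _).2).1 h1
            exact (hres _).1 hb' ▸ hb
          rw [← P.map_ideal_basicOpen V f] at haP
          obtain ⟨⟨⟨a0, ha0⟩, ⟨_, n, rfl⟩⟩, he⟩ :=
            (IsLocalization.mem_map_algebraMap_iff (Submonoid.powers f) Γ(XA x B, (XA x B).basicOpen f)).1 haP
          have he' : a * rD (f ^ n) = rD a0 := he
          -- the value of θ at a0
          let U := Ui V
          have ha0' : res V a0 ∈ P.ideal (W x B U) := by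
            rw [← P.map_ideal (V := V) (U := W x B U) (hWU V).le]
            exact Ideal.mem_map_of_mem _ ha0
          obtain ⟨s0, hs0⟩ := exists_el P U _ ha0'
          have h1 : (ClSub.quotMod I₀).presheaf.map (homOfLE hVD).op (θ.app U.1 s0) = 0 := by
            obtain ⟨s, hs, hs'⟩ := ha
            have h2 := hlin _ s (res _ (rD (f ^ n))) ((G P).presheaf.map (homOfLE hVD).op s0) (by
              rw [el_map P U _ hVD, hs0, hs, ← map_mul, mul_comm, he', hcomm])
            rw [hs', smul_zero] at h2
            exact (congr($(θ.mapPresheaf.naturality (homOfLE hVD).op) s0)).symm.trans h2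
          let r := rho x B U (res V f)
          have hD : (Ui ((XA x B).affineBasicOpen f)).1 = X.basicOpen r := by
            have h3 : X.basicOpen r = U.1 ⊓ XAincl x B ⁻¹ᵁ ((XA x B).basicOpen (res V f)) := Scheme.basicOpen_appLE _ _ _ _ _
            rw [h3, show (XA x B).basicOpen (res V f) = (W x B U).1 ⊓ (XA x B).basicOpen f from
              Scheme.basicOpen_res _ _ _, Scheme.Hom.preimage_inf, ← rho_le x B U, ← inf_assoc, inf_idem]
            exact le_antisymm (le_inf hVD le_rfl) inf_le_right
          have hcpt : IsCompact ((I₀.subschemeι ⁻¹ᵁ U.1 : I₀.subscheme.Opens) : Set I₀.subscheme) :=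
            QuasiCompact.isCompact_preimage (f := I₀.subschemeι) _ U.1.isOpen U.2.isCompact
          obtain ⟨N, hN⟩ := exists_pow_mul_eq_zero_of_res_basicOpen_eq_zero_of_isCompact I₀.subscheme
            hcpt (θ.app U.1 s0) (I₀.subschemeι.app U.1 r) (by
              have e : I₀.subscheme.basicOpen (I₀.subschemeι.app U.1 r) =
                  I₀.subschemeι ⁻¹ᵁ (Ui ((XA x B).affineBasicOpen f)).1 := by
                rw [hD]; exact (I₀.subschemeι.preimage_basicOpen r).symm
              have h5 := congrArg (I₀.subscheme.presheaf.map (eqToHom e).op) h1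
              rw [map_zero] at h5
              refine Eq.trans ?_ h5
              show _ = I₀.subscheme.presheaf.map _ (I₀.subscheme.presheaf.map _ _)
              rw [← ConcreteCategory.comp_apply, ← Functor.map_comp]
              rfl)
          have hmem : f ^ N * a0 ∈ (QW U).comap (res V) := by
            rw [Ideal.mem_comap]
            obtain ⟨s', hs'⟩ := exists_el P U (res V (f ^ N) * el P U s0) (Ideal.mul_mem_left _ _ (el_mem P U s0))
            refine ⟨s', by rw [hs', hs0, map_mul], ?_⟩
            rw [hlin U s0 _ s' hs', map_pow, map_pow]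
            refine Eq.trans ?_ hN
            show I₀.subschemeι.app U.1 (r ^ N) * _ = _
            rw [map_pow]
          have hu : IsUnit (rD (f ^ N * f ^ n)) := by
            rw [← pow_add]
            exact IsLocalization.map_units (M := Submonoid.powers f) _ (⟨_, N + n, rfl⟩ : Submonoid.powers f)
          refine (Ideal.unit_mul_mem_iff_mem _ hu).1 ?_
          have : rD (f ^ N * f ^ n) * a = rD (f ^ N * a0) := by
            rw [map_mul, map_mul, ← he']; ring
          rw [this]
          exact Ideal.mem_map_of_mem rD hmem }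
  refine ⟨I, fun U a => ?_⟩
  have key : ∀ (U' : X.affineOpens) (h : U' = U) (e : (W x B U').1 ≤ (W x B U).1),
      (QW U').comap ((XA x B).presheaf.map (homOfLE e).op).hom = QW U := by
    rintro U' rfl e
    ext b
    rw [Ideal.mem_comap, show (homOfLE e).op = 𝟙 (op (W x B U').1) from Subsingleton.elim _ _,
      CategoryTheory.Functor.map_id]
    rfl
  have hk : I.ideal (W x B U) = QW U :=
    key (Ui (W x B U)) (Subtype.ext (rho_le x B U).symm) (hWU (W x B U)).le
  rw [hk]
  rfl

end Groth.Agent.ArtFunLib.HilbIdeal
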