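import Mathlib.RingTheory.Flat.EquationalCriterion
import Mathlib.RingTheory.RingHom.Flat
import Mathlib.RingTheory.Ideal.Quotient.Operations
import Mathlib.RingTheory.Ideal.Maps

/-! Flat quotients and small extensions: ring lemmas for embedded deformations. -/

set_option autoImplicit false
universe u v w

namespace Groth.Agent.ArtFunLib.HilbRing

variable {B : Type u} [CommRing B] {R : Type v} [CommRing R] (c : B →+* R) {I : Ideal R}

/-- A torsion element of a flat quotient comes from the annihilator. -/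
theorem mem_of_smul_mem (hI : ((Ideal.Quotient.mk I).comp c).Flat) (t : B) (m : Ideal B)
    (hm : ∀ a, t * a = 0 → a ∈ m) (z : R) (hz : c t * z ∈ I) : z ∈ m.map c ⊔ I := by
  letI : Algebra B (R ⧸ I) := ((Ideal.Quotient.mk I).comp c).toAlgebra
  haveI : Module.Flat B (R ⧸ I) := hI
  have hrel : ∑ i : Fin 1, (fun _ => t) i • (fun _ : Fin 1 => Ideal.Quotient.mk I z) i = 0 := by
    rw [Fin.sum_univ_one]
    show Ideal.Quotient.mk I (c t) * Ideal.Quotient.mk I z = 0
    rw [← map_mul, Ideal.Quotient.eq_zero_iff_mem]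
    exact hz
  obtain ⟨n, a, y, hx, ha⟩ := Module.Flat.isTrivialRelation_of_sum_smul_eq_zero hrel
  choose y' hy' using fun j => Ideal.Quotient.mk_surjective (y j)
  have h1 : Ideal.Quotient.mk I z = Ideal.Quotient.mk I (∑ j, c (a 0 j) * y' j) := by
    refine (hx 0).trans ?_
    rw [map_sum]
    exact Finset.sum_congr rfl fun j _ => by rw [map_mul, hy']; rfl
  rw [← add_sub_cancel (∑ j, c (a 0 j) * y' j) z]
  refine Submodule.add_mem_sup (sum_mem fun j _ => Ideal.mul_mem_right _ _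
    (Ideal.mem_map_of_mem c (hm _ ?_))) (Ideal.Quotient.eq.1 h1)
  simpa using ha j

/-- For a flat quotient, `I ∩ mR = mI`. -/
theorem inf_map_le (hI : ((Ideal.Quotient.mk I).comp c).Flat) (m : Ideal B) :
    I ⊓ m.map c ≤ m.map c * I := by
  rintro x ⟨hxI, hxm⟩
  letI : Algebra B (R ⧸ I) := ((Ideal.Quotient.mk I).comp c).toAlgebra
  haveI : Module.Flat B (R ⧸ I) := hI
  obtain ⟨n, z, g, rfl⟩ := Submodule.mem_span_set'.1 hxm
  choose b hb hbg using fun i => (g i).2
  have hrel : ∑ i, b i • Ideal.Quotient.mk I (z i) = 0 := by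
    have : Ideal.Quotient.mk I (∑ i, z i • (g i : R)) = 0 := Ideal.Quotient.eq_zero_iff_mem.2 hxI
    rw [map_sum] at this
    rw [← this]
    refine Finset.sum_congr rfl fun i _ => ?_
    show Ideal.Quotient.mk I (c (b i)) * _ = _
    rw [hbg, ← map_mul, smul_eq_mul, mul_comm]
  obtain ⟨k, a, y, hx, ha⟩ := Module.Flat.isTrivialRelation_of_sum_smul_eq_zero hrel
  choose y' hy' using fun j => Ideal.Quotient.mk_surjective (y j)
  have he : ∀ i, z i - ∑ j, c (a i j) * y' j ∈ I := fun i => by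
    rw [← Ideal.Quotient.eq, show Ideal.Quotient.mk I (z i) = _ from hx i, map_sum]
    exact Finset.sum_congr rfl fun j _ => by rw [map_mul, hy']; rfl
  have h0 : ∑ i, (∑ j, c (a i j) * y' j) * c (b i) = 0 := by
    simp_rw [Finset.sum_mul]
    rw [Finset.sum_comm]
    refine Finset.sum_eq_zero fun j _ => ?_
    have := congrArg c (ha j)
    rw [map_sum, map_zero] at this
    rw [show (∑ i, c (a i j) * y' j * c (b i)) = (∑ i, c (b i * a i j)) * y' j by
      rw [Finset.sum_mul]; exact Finset.sum_congr rfl fun i _ => by rw [map_mul]; ring, this, zero_mul]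
  have : ∑ i, z i • (g i : R) = ∑ i, c (b i) * (z i - ∑ j, c (a i j) * y' j) := by
    simp_rw [mul_sub, Finset.sum_sub_distrib, mul_comm (c (b _)) (Finset.sum _ _), h0, sub_zero]
    exact Finset.sum_congr rfl fun i _ => by rw [hbg, smul_eq_mul]; ring
  rw [this]
  exact sum_mem fun i _ => Ideal.mul_mem_mul (Ideal.mem_map_of_mem c (hb i)) (he i)

variable {R₀ : Type w} [CommRing R₀] (ρ : R →+* R₀) {RA : Type w} [CommRing RA] (π : R →+* RA)
variable (m : Ideal B) (t : B) {I' I'' : Ideal R}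

theorem rho_mem (hρker : RingHom.ker ρ = m.map c) (hm : ∀ a, t * a = 0 → a ∈ m)
    (hI : ((Ideal.Quotient.mk I).comp c).Flat) (z : R) (hz : c t * z ∈ I) : ρ z ∈ I.map ρ := by
  obtain ⟨a, ha, b, hb, rfl⟩ := Submodule.mem_sup.1 (mem_of_smul_mem c hI t m hm z hz)
  rw [map_add, RingHom.mem_ker.1 (hρker.symm ▸ ha : a ∈ RingHom.ker ρ), zero_add]
  exact Ideal.mem_map_of_mem _ hb

theorem exists_partner (hπker : RingHom.ker π = Ideal.span {c t}) (hπ : Function.Surjective π)
    (hA : I'.map π = I''.map π) (a : R) (ha : a ∈ I') :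
    ∃ a'' ∈ I'', ∃ z, a - a'' = c t * z := by
  obtain ⟨a'', ha'', h⟩ := (Ideal.mem_map_iff_of_surjective π hπ).1 (hA ▸ Ideal.mem_map_of_mem π ha)
  have h' : a - a'' ∈ RingHom.ker π := by rw [RingHom.mem_ker, map_sub, h, sub_self]
  rw [hπker] at h'
  obtain ⟨z, hz⟩ := Ideal.mem_span_singleton'.1 h'
  exact ⟨a'', ha'', z, by rw [← hz, mul_comm]⟩

theorem inf_ker_le (hρker : RingHom.ker ρ = m.map c) (hπker : RingHom.ker π = Ideal.span {c t})
    (hπ : Function.Surjective π) (hmt : ∀ a ∈ m, a * t = 0)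
    (hI' : ((Ideal.Quotient.mk I').comp c).Flat) (hA : I'.map π = I''.map π) :
    I' ⊓ RingHom.ker ρ ≤ I'' := by
  intro a ha
  rw [hρker] at ha
  refine Submodule.mul_induction_on (inf_map_le c hI' m ha) (fun x hx y hy => ?_) fun x y hx hy => add_mem hx hy
  obtain ⟨y'', hy'', z, hz⟩ := exists_partner c π t hπker hπ hA y hy
  have h0 : x * c t = 0 := by
    induction hx using Submodule.span_induction with
    | mem w hw => obtain ⟨b, hb, rfl⟩ := hw; rw [← map_mul, hmt b hb, map_zero]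
    | zero => rw [zero_mul]
    | add p q _ _ hp hq => rw [add_mul, hp, hq, add_zero]
    | smul r p _ hp => rw [smul_eq_mul, mul_assoc, hp, mul_zero]
  rw [show x * y = x * y'' + x * c t * z by rw [mul_assoc, ← hz]; ring, h0, zero_mul, add_zero]
  exact I''.mul_mem_left _ hy''

/-- The difference class of two lifts is well defined. -/
theorem diff_unique (hρker : RingHom.ker ρ = m.map c) (hπker : RingHom.ker π = Ideal.span {c t})
    (hπ : Function.Surjective π) (hmt : ∀ a ∈ m, a * t = 0) (hm : ∀ a, t * a = 0 → a ∈ m)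
    (hI' : ((Ideal.Quotient.mk I').comp c).Flat) (hI'' : ((Ideal.Quotient.mk I'').comp c).Flat)
    (hA : I'.map π = I''.map π) {I₀ : Ideal R₀} (h0 : I''.map ρ = I₀)
    {a₁ b₁ z₁ a₂ b₂ z₂ : R} (ha₁ : a₁ ∈ I') (hb₁ : b₁ ∈ I'') (e₁ : a₁ - b₁ = c t * z₁)
    (ha₂ : a₂ ∈ I') (hb₂ : b₂ ∈ I'') (e₂ : a₂ - b₂ = c t * z₂) (hρ : ρ a₁ = ρ a₂) :
    ρ z₁ - ρ z₂ ∈ I₀ := by
  rw [← map_sub, ← h0]
  refine rho_mem c ρ m t hρker hm hI'' _ ?_
  have hd : a₁ - a₂ ∈ I'' := inf_ker_le c ρ π m t hρker hπker hπ hmt hI' hA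
    ⟨sub_mem ha₁ ha₂, RingHom.mem_ker.2 (by rw [map_sub, hρ, sub_self])⟩
  rw [show c t * (z₁ - z₂) = (a₁ - a₂) - (b₁ - b₂) by rw [mul_sub, ← e₁, ← e₂]; ring]
  exact sub_mem hd (sub_mem hb₁ hb₂)

/-- If a difference class vanishes the element is common. -/
theorem mem_of_diff_mem (hρker : RingHom.ker ρ = m.map c) (hρ : Function.Surjective ρ)
    (hmt : ∀ a ∈ m, a * t = 0) {a b z : R} (hb : b ∈ I'') (e : a - b = c t * z)
    (hz : ρ z ∈ I''.map ρ) : a ∈ I'' := by
  obtain ⟨w, hw, hwz⟩ := (Ideal.mem_map_iff_of_surjective ρ hρ).1 hz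
  have hd : z - w ∈ m.map c := by rw [← hρker, RingHom.mem_ker, map_sub, hwz, sub_self]
  have h0 : ∀ x ∈ m.map c, c t * x = 0 := fun x hx => by
    induction hx using Submodule.span_induction with
    | mem w hw => obtain ⟨b, hb, rfl⟩ := hw; rw [mul_comm, ← map_mul, hmt b hb, map_zero]
    | zero => rw [mul_zero]
    | add p q _ _ hp hq => rw [mul_add, hp, hq, add_zero]
    | smul r p _ hp => rw [smul_eq_mul, mul_left_comm, hp, mul_zero]
  rw [show a = b + c t * w + c t * (z - w) by rw [mul_sub, ← e]; ring, h0 _ hd, add_zero]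
  exact add_mem hb (I''.mul_mem_left _ hw)

end Groth.Agent.ArtFunLib.HilbRing
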