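import Groth.Agent.ArtFunLib.HilbIdeal

/-!
# The local Hilbert functor is left exact

Lifts of a `k`-basis of `Γ(U, O)/I₀` are bases of every flat embedded deformation over `U`; so ideals
over the legs of a fibre product glue uniquely.
-/

set_option autoImplicit false
universe u

open CategoryTheory CategoryTheory.Limits AlgebraicGeometry ArtFun ArtFun.Art TensorProduct

namespace Groth.Agent.ArtFunLib.HilbLeftExact

open HilbAffine HilbSit HilbIdeal

variable {k : Type u} [Field k] {X : Scheme.{u}} (x : X ⟶ specPt k)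

theorem pi_fst {B A : Art k k} (p : B ⟶ A) (U : X.affineOpens) (r : Γ(X, U.1)) :
    pi x p U (fstPull x B U r) = fstPull x A U r := by
  have h1 : (pullback.fst x (specOver B)).app U.1 ≫ (XAmap x p).appLE (W x B U).1 (W x A U).1 (pi_le x p U).le =
      (pullback.fst x (specOver A)).app U.1 := by
    rw [Scheme.Hom.app_eq_appLE, Scheme.Hom.app_eq_appLE]
    refine (Scheme.Hom.appLE_comp_appLE (XAmap x p) (pullback.fst x (specOver B)) U.1 (W x B U).1 (W x A U).1 le_rfl
      (pi_le x p U).le).trans ?_
    exact appLE_congr (XAmap_fst x p) _ _ _ le_rfl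
  exact congr($h1 r)

theorem isAffineHom_XAmap {B A : Art k k} (p : B ⟶ A) : IsAffineHom (XAmap x p) := by
  haveI : IsAffineHom (specMap p) := inferInstance
  exact MorphismProperty.of_isPullback (P := @IsAffineHom) (isPullback_XAmap x p).flip inferInstance

theorem flat_field {K R : Type u} [Field K] [CommRing R] (f : K →+* R) : f.Flat := by
  letI := f.toAlgebra
  show Module.Flat K R
  infer_instance

/-- The `k`-structure on the functions on `U`. -/
noncomputable def k₀ (U : X.affineOpens) : k →+* Γ(X, U.1) :=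
  (x.appLE ⊤ U.1 (fun _ _ => trivial)).hom.comp (Scheme.ΓSpecIso (CommRingCat.of k)).inv.hom

theorem rho_c (B : Art k k) (U : X.affineOpens) (b : B) : rho x B U (c x B U b) = k₀ x U (B.res b) := by
  have h1 : (XApr x B).appLE ⊤ (W x B U).1 (fun _ _ => trivial) ≫
      (XAincl x B).appLE (W x B U).1 U.1 (rho_le x B U).le =
      (specRes B).appTop ≫ x.appLE ⊤ U.1 (fun _ _ => trivial) := by
    refine (Scheme.Hom.appLE_comp_appLE (XAincl x B) (XApr x B) ⊤ (W x B U).1 U.1 (fun _ _ => trivial)
      (rho_le x B U).le).trans ?_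
    refine (appLE_congr (XAincl_snd x B) ⊤ U.1 _ (fun _ _ => trivial)).trans ?_
    exact (Scheme.Hom.comp_appLE _ _ _ _ _).trans rfl
  have h2 := Scheme.ΓSpecIso_inv_naturality (CommRingCat.ofHom B.res.toRingHom)
  refine (congr($h1 ((Scheme.ΓSpecIso (CommRingCat.of B)).inv b))).trans ?_
  exact congrArg (x.appLE ⊤ U.1 (fun _ _ => trivial)).hom (congr($h2 b)).symm

variable {I₀ : X.IdealSheafData} {U : X.affineOpens} {κ : Type u} (v : κ → Γ(X, U.1))

/-- `v` is a `k`-basis of `Γ(U, O)` modulo `I₀`. -/
def IsModBasis (U : X.affineOpens) (v : κ → Γ(X, U.1)) (I₀ : X.IdealSheafData) : Prop :=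
  (∀ r, ∃ l : κ →₀ k, r - l.sum (fun i a => k₀ x U a * v i) ∈ I₀.ideal U) ∧
    ∀ l : κ →₀ k, l.sum (fun i a => k₀ x U a * v i) ∈ I₀.ideal U → l = 0

theorem exists_isModBasis (U : X.affineOpens) (I₀ : X.IdealSheafData) :
    ∃ (κ : Type u) (v : κ → Γ(X, U.1)), IsModBasis x U v I₀ := by
  letI : Algebra k Γ(X, U.1) := (k₀ x U).toAlgebra
  let b := Module.Free.chooseBasis k (Γ(X, U.1) ⧸ I₀.ideal U)
  choose v hv using fun i => Ideal.Quotient.mk_surjective (b i)
  have key : ∀ l, Ideal.Quotient.mk (I₀.ideal U) (l.sum (fun i a => k₀ x U a * v i)) =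
      Finsupp.linearCombination k b l := fun l => by
    rw [Finsupp.linearCombination_apply, map_finsuppSum]
    refine Finset.sum_congr rfl fun i _ => ?_
    beta_reduce
    rw [map_mul, hv, Algebra.smul_def]
    rfl
  refine ⟨_, v, fun r => ⟨b.repr (Ideal.Quotient.mk _ r), ?_⟩, fun l hl => ?_⟩
  · rw [← Ideal.Quotient.eq, key, b.linearCombination_repr]
  · rw [← Ideal.Quotient.eq_zero_iff_mem, key] at hl
    exact b.linearIndependent (hl.trans (map_zero _).symm)

variable {x}

/-- The combination with coefficients `a`. -/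
noncomputable def comb (D : Art k k) (U : X.affineOpens) (v : κ → Γ(X, U.1)) (a : κ →₀ D) :
    Γ(XA x D, (W x D U).1) :=
  a.sum fun i b => c x D U b * fstPull x D U (v i)

theorem comb_sub {D : Art k k} (a b : κ →₀ D) :
    comb (x := x) D U v (a - b) = comb D U v a - comb D U v b :=
  Finsupp.sum_sub_index fun i b₁ b₂ => by rw [map_sub, sub_mul]

theorem pi_comb {D E : Art k k} (p : D ⟶ E) (a : κ →₀ D) :
    pi x p U (comb D U v a) = comb E U v (a.mapRange p.toAlgHom (map_zero _)) := by
  rw [comb, comb, map_finsuppSum, Finsupp.sum_mapRange_index fun i => by rw [map_zero, zero_mul]]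
  exact Finset.sum_congr rfl fun i _ => by beta_reduce; rw [map_mul, pi_c, pi_fst]

theorem rho_comb {D : Art k k} (a : κ →₀ D) :
    rho x D U (comb D U v a) = (a.mapRange D.res (map_zero _)).sum fun i l => k₀ x U l * v i := by
  rw [comb, map_finsuppSum, Finsupp.sum_mapRange_index fun i => by rw [map_zero, zero_mul]]
  exact Finset.sum_congr rfl fun i _ => by beta_reduce; rw [map_mul, rho_c, rho_fst]

variable {v}

/-- Combinations of the lifted basis exhaust the functions modulo a lift of `I₀`. -/
theorem exists_comb (hv : IsModBasis x U v I₀) {D : Art k k} (I : Ideal Γ(XA x D, (W x D U).1))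
    (hI : I.map (rho x D U) = I₀.ideal U) (z : Γ(XA x D, (W x D U).1)) :
    ∃ a : κ →₀ D, z - comb D U v a ∈ I := by
  letI : Algebra D (Γ(XA x D, (W x D U).1) ⧸ I) := ((Ideal.Quotient.mk I).comp (c x D U)).toAlgebra
  let Φ : (κ →₀ D) →ₗ[D] Γ(XA x D, (W x D U).1) ⧸ I :=
    Finsupp.linearCombination D fun i => Ideal.Quotient.mk I (fstPull x D U (v i))
  have hΦ : ∀ a, Φ a = Ideal.Quotient.mk I (comb D U v a) := fun a => by
    rw [Finsupp.linearCombination_apply, comb, map_finsuppSum]
    exact Finset.sum_congr rfl fun i _ => by beta_reduce; rw [map_mul]; rfl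
  suffices LinearMap.range Φ = ⊤ by
    obtain ⟨a, ha⟩ := LinearMap.range_eq_top.1 this (Ideal.Quotient.mk I z)
    exact ⟨a, Ideal.Quotient.eq.1 (ha.symm.trans (hΦ a))⟩
  obtain ⟨n, hn⟩ := (isArtinianRing_iff_isNilpotent_maximalIdeal D).1 inferInstance
  have hbase : LinearMap.range Φ ⊔ IsLocalRing.maximalIdeal D • ⊤ = ⊤ := by
    refine top_unique fun y _ => ?_
    obtain ⟨y, rfl⟩ := Ideal.Quotient.mk_surjective y
    obtain ⟨l, hl⟩ := hv.1 (rho x D U y)
    let a : κ →₀ D := l.mapRange (algebraMap k D) (map_zero _)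
    have ha : a.mapRange D.res (map_zero _) = l := Finsupp.ext fun i => by
      simp only [a, Finsupp.mapRange_apply]
      exact D.res.commutes (l i)
    obtain ⟨e, he, hρ⟩ := (Ideal.mem_map_iff_of_surjective _ (rho_spec x D U).1).1 (hI.ge hl)
    have hk : y - comb D U v a - e ∈ (IsLocalRing.maximalIdeal D).map (c x D U) := by
      rw [← (rho_spec x D U).2, RingHom.mem_ker, map_sub, map_sub, rho_comb, ha, hρ, sub_self]
    rw [show Ideal.Quotient.mk I y = Φ a + Ideal.Quotient.mk I (y - comb D U v a - e) by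
      rw [hΦ, map_sub, map_sub, Ideal.Quotient.eq_zero_iff_mem.2 he, sub_zero, add_sub_cancel]]
    refine Submodule.add_mem_sup (LinearMap.mem_range_self _ _) ?_
    rw [Ideal.smul_top_eq_map]
    show Ideal.Quotient.mk I (y - comb D U v a - e) ∈
      Ideal.map ((Ideal.Quotient.mk I).comp (c x D U)) (IsLocalRing.maximalIdeal D)
    rw [← Ideal.map_map]
    exact Ideal.mem_map_of_mem _ hk
  have hpow : ∀ m : ℕ, LinearMap.range Φ ⊔ IsLocalRing.maximalIdeal D ^ m • ⊤ = ⊤ := fun m => by
    induction m with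
    | zero => rw [pow_zero, Ideal.one_eq_top, Submodule.top_smul, sup_top_eq]
    | succ m ih =>
      refine top_unique (ih.symm.le.trans (sup_le le_sup_left ?_))
      rw [← hbase, Submodule.smul_sup, pow_succ, Submodule.mul_smul]
      refine sup_le (Submodule.smul_le_right.trans le_sup_left) ?_
      rw [hbase]
      exact le_sup_right
  have := hpow n
  rwa [hn, Ideal.zero_eq_bot, Submodule.bot_smul, sup_bot_eq] at this

/-- The lifted basis is independent modulo a flat lift of `I₀`. -/
theorem comb_eq_zero (hv : IsModBasis x U v I₀) {D : Art k k} (I : Ideal Γ(XA x D, (W x D U).1))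
    (hflat : ((Ideal.Quotient.mk I).comp (c x D U)).Flat) (hI : I.map (rho x D U) = I₀.ideal U)
    (a : κ →₀ D) (ha : comb D U v a ∈ I) : a = 0 := by
  classical
  letI : Algebra D (Γ(XA x D, (W x D U).1) ⧸ I) := ((Ideal.Quotient.mk I).comp (c x D U)).toAlgebra
  haveI : Module.Flat D (Γ(XA x D, (W x D U).1) ⧸ I) := hflat
  let M := Γ(XA x D, (W x D U).1) ⧸ I
  let w : κ → M := fun i => Ideal.Quotient.mk I (fstPull x D U (v i))
  let K := IsLocalRing.ResidueField D
  have hΦ : ∀ a : κ →₀ D, Finsupp.linearCombination D w a = Ideal.Quotient.mk I (comb D U v a) := fun a => by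
    rw [Finsupp.linearCombination_apply, comb, map_finsuppSum]
    exact Finset.sum_congr rfl fun i _ => by beta_reduce; rw [map_mul]; rfl
  have hli : LinearIndependent D w := by
    refine Module.IsLocalRing.linearIndependent_of_flat w (linearIndependent_iff.2 fun l hl => ?_)
    obtain ⟨b, rfl⟩ := Finsupp.mapRange_surjective (α := κ) _ (map_zero _) IsLocalRing.residue_surjective l
    have h1 : TensorProduct.mk D K M 1 (Finsupp.linearCombination D w b) = 0 := by
      rw [← hl, Finsupp.linearCombination_apply, Finsupp.linearCombination_apply,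
        Finsupp.sum_mapRange_index, map_finsuppSum]
      rotate_left
      · exact fun i => zero_smul K _
      refine Finset.sum_congr rfl fun i _ => ?_
      beta_reduce
      rw [map_smul]
      exact (algebraMap_smul K (b i) _).symm
    have h2 : Finsupp.linearCombination D w b ∈
        LinearMap.ker (TensorProduct.mk D (D ⧸ IsLocalRing.maximalIdeal D) M 1) := h1
    rw [LinearMap.ker_tensorProductMk, Ideal.smul_top_eq_map] at h2
    replace h2 : Finsupp.linearCombination D w b ∈
        ((IsLocalRing.maximalIdeal D).map (c x D U)).map (Ideal.Quotient.mk I) := by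
      rw [Ideal.map_map]
      exact h2
    rw [hΦ] at h2
    obtain ⟨m, hm, hm'⟩ := (Ideal.mem_map_iff_of_surjective _ Ideal.Quotient.mk_surjective).1 h2
    have h3 : rho x D U (comb D U v b) ∈ I₀.ideal U := by
      rw [← hI, show comb D U v b = m + (comb D U v b - m) by ring, map_add,
        RingHom.mem_ker.1 ((rho_spec x D U).2.ge hm), zero_add]
      exact Ideal.mem_map_of_mem _ (Ideal.Quotient.eq.1 hm'.symm)
    rw [rho_comb] at h3
    refine Finsupp.ext fun i => ?_
    have h4 := DFunLike.congr_fun (hv.2 _ h3) i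
    rw [Finsupp.mapRange_apply, Finsupp.zero_apply] at h4
    rw [Finsupp.mapRange_apply, Finsupp.zero_apply, IsLocalRing.residue_eq_zero_iff, Art.mem_maximalIdeal_iff]
    exact h4
  refine hli (a₂ := 0) ?_
  rw [map_zero, hΦ, Ideal.Quotient.eq_zero_iff_mem]
  exact ha

/-- A flat lift contained in another equals it. -/
theorem eq_of_le (hv : IsModBasis x U v I₀) {D : Art k k} {I J : Ideal Γ(XA x D, (W x D U).1)} (hIJ : I ≤ J)
    (hflat : ((Ideal.Quotient.mk J).comp (c x D U)).Flat) (hI : I.map (rho x D U) = I₀.ideal U)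
    (hJ : J.map (rho x D U) = I₀.ideal U) : I = J := by
  refine le_antisymm hIJ fun z hz => ?_
  obtain ⟨a, ha⟩ := exists_comb hv I hI z
  have h0 : comb D U v a ∈ J := by
    rw [show comb D U v a = z - (z - comb D U v a) by ring]
    exact sub_mem hz (hIJ ha)
  rw [comb_eq_zero hv J hflat hJ a h0, comb, Finsupp.sum_zero_index, sub_zero] at ha
  exact ha

variable (I₀) in
/-- The local Hilbert functor turns fibre products into fibre products. -/
theorem bijective_cmp {B A A' A'' : Art k k} (p' : B ⟶ A') (p'' : B ⟶ A'') (f' : A' ⟶ A) (f'' : A'' ⟶ A)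
    (h : IsFibreProd p' p'' f' f'') : Function.Bijective (cmp (localHilb X x I₀) h) := by
  classical
  haveI := isAffineHom_XAmap x p'
  haveI := isAffineHom_XAmap x p''
  have hρ : ∀ {D : Art k k} (I : (localHilb X x I₀).obj D) (U : X.affineOpens),
      (I.1.ideal (W x D U)).map (rho x D U) = I₀.ideal U := fun I U => by
    rw [← comap_incl_ideal, I.2.2]
  constructor
  · intro I J hIJ
    have e1 : I.1.comap (XAmap x p') = J.1.comap (XAmap x p') := congrArg (fun z => z.1.1.1) hIJ
    have e2 : I.1.comap (XAmap x p'') = J.1.comap (XAmap x p'') := congrArg (fun z => z.1.2.1) hIJ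
    suffices ∀ I J : (localHilb X x I₀).obj B, I.1.comap (XAmap x p') = J.1.comap (XAmap x p') →
        I.1.comap (XAmap x p'') = J.1.comap (XAmap x p'') → ∀ U, I.1.ideal (W x B U) ≤ J.1.ideal (W x B U) from
      Subtype.ext (HilbAffine.ext_ideal x fun U => le_antisymm (this I J e1 e2 U) (this J I e1.symm e2.symm U))
    intro I J e1 e2 U z hz
    obtain ⟨κ, v, hv⟩ := exists_isModBasis x U I₀
    obtain ⟨a, ha⟩ := exists_comb hv _ (hρ J U) z
    have hleg : ∀ {D : Art k k} (p : B ⟶ D), I.1.comap (XAmap x p) = J.1.comap (XAmap x p) →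
        ∀ i, p (a i) = 0 := by
      intro D p e i
      let J' : (localHilb X x I₀).obj D := (localHilb X x I₀).map p J
      have hm : pi x p U (comb B U v a) ∈ J'.1.ideal (W x D U) := by
        show _ ∈ (J.1.comap (XAmap x p)).ideal (W x D U)
        rw [show comb B U v a = z - (z - comb B U v a) by ring, map_sub]
        refine sub_mem ?_ ?_
        · rw [← e, comap_map_ideal]
          exact Ideal.mem_map_of_mem _ hz
        · rw [comap_map_ideal]
          exact Ideal.mem_map_of_mem _ ha
      rw [pi_comb] at hm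
      exact DFunLike.congr_fun (comb_eq_zero hv _ (flat_quotient x J'.1 J'.2.1 U) (hρ J' U) _ hm) i
    have ha0 : a = 0 := Finsupp.ext fun i =>
      h.inj _ _ ((hleg p' e1 i).trans (map_zero p'.toAlgHom).symm) ((hleg p'' e2 i).trans (map_zero p''.toAlgHom).symm)
    rw [ha0, comb, Finsupp.sum_zero_index, sub_zero] at ha
    exact ha
  · rintro ⟨⟨I', I''⟩, hc⟩
    have hA : ∀ U, (I'.1.ideal (W x A' U)).map (pi x f' U) = (I''.1.ideal (W x A'' U)).map (pi x f'' U) := fun U => by
      rw [← comap_map_ideal, ← comap_map_ideal]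
      exact congrArg (fun z => z.1.ideal (W x A U)) hc
    let IA : (localHilb X x I₀).obj A := (localHilb X x I₀).map f' I'
    let I : (XA x B).IdealSheafData := I'.1.map (XAmap x p') ⊓ I''.1.map (XAmap x p'')
    have hI : ∀ U z, z ∈ I.ideal (W x B U) ↔
        pi x p' U z ∈ I'.1.ideal (W x A' U) ∧ pi x p'' U z ∈ I''.1.ideal (W x A'' U) := fun U z => by
      rw [show I.ideal (W x B U) = (I'.1.map (XAmap x p')).ideal (W x B U) ⊓ (I''.1.map (XAmap x p'')).ideal (W x B U)
        from congrFun Scheme.IdealSheafData.ideal_inf _, Ideal.mem_inf,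
        mem_map_iff _ _ _ (W x A' U) (pi_le x p' U) (pi_le x p' U).le,
        mem_map_iff _ _ _ (W x A'' U) (pi_le x p'' U) (pi_le x p'' U).le]
      rfl
    -- coordinates
    have hco : ∀ (U : X.affineOpens) {κ : Type u} {v : κ → Γ(X, U.1)}, IsModBasis x U v I₀ →
        ∀ z, ∃ a : κ →₀ B, z - comb B U v a ∈ I.ideal (W x B U) := by
      intro U κ v hv z
      obtain ⟨a', ha'⟩ := exists_comb hv _ (hρ I' U) (pi x p' U z)
      obtain ⟨a'', ha''⟩ := exists_comb hv _ (hρ I'' U) (pi x p'' U z)
      have hIA : IA.1.ideal (W x A U) = (I'.1.ideal (W x A' U)).map (pi x f' U) := comap_map_ideal x f' I'.1 U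
      have hz : pi x f' U (pi x p' U z) = pi x f'' U (pi x p'' U z) := by
        have key : ∀ {D : Art k k} (p : B ⟶ D) (q : D ⟶ A), pi x q U (pi x p U z) = pi x (p ≫ q) U z := by
          intro D p q
          have h1 : (XAmap x p).appLE (W x B U).1 (W x D U).1 (pi_le x p U).le ≫
              (XAmap x q).appLE (W x D U).1 (W x A U).1 (pi_le x q U).le =
              (XAmap x (p ≫ q)).appLE (W x B U).1 (W x A U).1 (pi_le x (p ≫ q) U).le := by
            rw [Scheme.Hom.appLE_comp_appLE]
            exact appLE_congr (XAmap_comp x p q).symm _ _ _ _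
          exact congr($h1 z)
        rw [key, key]
        congr 2
        exact h.w
      have hd : comb (x := x) A U v (a'.mapRange f'.toAlgHom (map_zero _) - a''.mapRange f''.toAlgHom (map_zero _)) ∈
          IA.1.ideal (W x A U) := by
        rw [comb_sub, ← pi_comb, ← pi_comb, hIA,
          show pi x f' U (comb A' U v a') - pi x f'' U (comb A'' U v a'') =
            (pi x f'' U (pi x p'' U z - comb A'' U v a'')) - pi x f' U (pi x p' U z - comb A' U v a') by
            rw [map_sub, map_sub, hz]; ring]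
        exact sub_mem (hA U ▸ Ideal.mem_map_of_mem _ ha'') (Ideal.mem_map_of_mem _ ha')
      have hd0 := comb_eq_zero hv _ (flat_quotient x IA.1 IA.2.1 U) (hρ IA U) _ hd
      rw [sub_eq_zero] at hd0
      choose b hb' hb'' using fun i => h.surj (a' i) (a'' i) (DFunLike.congr_fun hd0 i)
      let a : κ →₀ B := Finsupp.onFinset (a'.support ∪ a''.support) b fun i hi => by
        by_contra hn
        rw [Finset.mem_union, not_or, Finsupp.notMem_support_iff, Finsupp.notMem_support_iff] at hn
        exact hi (h.inj _ _ ((hb' i).trans (hn.1.trans (map_zero p'.toAlgHom).symm))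
          ((hb'' i).trans (hn.2.trans (map_zero p''.toAlgHom).symm)))
      refine ⟨a, (hI U _).2 ⟨?_, ?_⟩⟩
      · rw [map_sub, pi_comb, show a.mapRange p'.toAlgHom (map_zero _) = a' from Finsupp.ext hb']
        exact ha'
      · rw [map_sub, pi_comb, show a.mapRange p''.toAlgHom (map_zero _) = a'' from Finsupp.ext hb'']
        exact ha''
    have hle' : ∀ U, (I.ideal (W x B U)).map (pi x p' U) ≤ I'.1.ideal (W x A' U) := fun U =>
      Ideal.map_le_iff_le_comap.2 fun z hz => ((hI U z).1 hz).1
    have hle'' : ∀ U, (I.ideal (W x B U)).map (pi x p'' U) ≤ I''.1.ideal (W x A'' U) := fun U =>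
      Ideal.map_le_iff_le_comap.2 fun z hz => ((hI U z).1 hz).2
    have hI0 : ∀ U, (I.ideal (W x B U)).map (rho x B U) = I₀.ideal U := by
      intro U
      refine le_antisymm (Ideal.map_le_iff_le_comap.2 fun z hz => ?_) fun r hr => ?_
      · rw [Ideal.mem_comap, ← rho_pi x p' U, ← hρ I' U]
        exact Ideal.mem_map_of_mem _ ((hI U z).1 hz).1
      · obtain ⟨κ, v, hv⟩ := exists_isModBasis x U I₀
        obtain ⟨a, ha⟩ := hco U hv (fstPull x B U r)
        have h1 := Ideal.mem_map_of_mem (rho x B U) ha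
        rw [map_sub, rho_fst, rho_comb] at h1
        have h2 : r - (a.mapRange B.res (map_zero _)).sum (fun i l => k₀ x U l * v i) ∈ I₀.ideal U := by
          rw [← hρ I' U, ← rho_fst x A' U r, ← rho_comb v a, ← rho_pi x p' U (comb B U v a), ← map_sub]
          refine Ideal.mem_map_of_mem _ ?_
          rw [← pi_fst x p' U r, ← map_sub]
          exact ((hI U _).1 ha).1
        have h3 : a.mapRange B.res (map_zero _) = 0 := hv.2 _ (by simpa using sub_mem hr h2)
        rwa [h3, Finsupp.sum_zero_index, sub_zero] at h1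
    have hflat : FlatOver X x B I := flat_of_ideals I fun U => by
      obtain ⟨κ, v, hv⟩ := exists_isModBasis x U I₀
      letI : Algebra B (Γ(XA x B, (W x B U).1) ⧸ I.ideal (W x B U)) :=
        ((Ideal.Quotient.mk (I.ideal (W x B U))).comp (c x B U)).toAlgebra
      show Module.Flat B (Γ(XA x B, (W x B U).1) ⧸ I.ideal (W x B U))
      let Φ : (κ →₀ B) →ₗ[B] Γ(XA x B, (W x B U).1) ⧸ I.ideal (W x B U) :=
        Finsupp.linearCombination B fun i => Ideal.Quotient.mk _ (fstPull x B U (v i))
      have hΦ : ∀ a, Φ a = Ideal.Quotient.mk (I.ideal (W x B U)) (comb B U v a) := fun a => by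
        rw [Finsupp.linearCombination_apply, comb, map_finsuppSum]
        exact Finset.sum_congr rfl fun i _ => by beta_reduce; rw [map_mul]; rfl
      refine Module.Flat.of_linearEquiv (LinearEquiv.ofBijective Φ ⟨?_, fun y => ?_⟩).symm
      · rw [injective_iff_map_eq_zero]
        intro a ha
        rw [hΦ, Ideal.Quotient.eq_zero_iff_mem, hI, pi_comb, pi_comb] at ha
        have h1 := comb_eq_zero hv _ (flat_quotient x I'.1 I'.2.1 U) (hρ I' U) _ ha.1
        have h2 := comb_eq_zero hv _ (flat_quotient x I''.1 I''.2.1 U) (hρ I'' U) _ ha.2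
        exact Finsupp.ext fun i => h.inj _ _ ((DFunLike.congr_fun h1 i).trans (map_zero p'.toAlgHom).symm)
          ((DFunLike.congr_fun h2 i).trans (map_zero p''.toAlgHom).symm)
      · obtain ⟨z, rfl⟩ := Ideal.Quotient.mk_surjective y
        obtain ⟨a, ha⟩ := hco U hv z
        exact ⟨a, (hΦ a).trans (Ideal.Quotient.eq.2 ha).symm⟩
    have hincl : I.comap (XAincl x B) = I₀ := Scheme.IdealSheafData.ext (funext fun U => by
      rw [comap_incl_ideal, hI0])
    let IB : (localHilb X x I₀).obj B := ⟨I, hflat, hincl⟩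
    refine ⟨IB, FibProd.ext (Subtype.ext (HilbAffine.ext_ideal x fun U => ?_))
      (Subtype.ext (HilbAffine.ext_ideal x fun U => ?_))⟩
    · obtain ⟨κ, v, hv⟩ := exists_isModBasis x U I₀
      show (I.comap (XAmap x p')).ideal (W x A' U) = _
      rw [comap_map_ideal]
      refine eq_of_le hv (hle' U) (flat_quotient x I'.1 I'.2.1 U) ?_ (hρ I' U)
      rw [← comap_map_ideal, ← comap_incl_ideal, ← Scheme.IdealSheafData.comap_comp, XAincl_XAmap, hincl]
    · obtain ⟨κ, v, hv⟩ := exists_isModBasis x U I₀
      show (I.comap (XAmap x p'')).ideal (W x A'' U) = _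
      rw [comap_map_ideal]
      refine eq_of_le hv (hle'' U) (flat_quotient x I''.1 I''.2.1 U) ?_ (hρ I'' U)
      rw [← comap_map_ideal, ← comap_incl_ideal, ← Scheme.IdealSheafData.comap_comp, XAincl_XAmap, hincl]

variable (x) in
theorem h0 (I₀ : X.IdealSheafData) : H0 (localHilb X x I₀) := by
  have hbij : ∀ U, Function.Bijective (rho x (base k k) U) := fun U => by
    refine ⟨(RingHom.injective_iff_ker_eq_bot _).2 ?_, (rho_spec x _ U).1⟩
    rw [(rho_spec x (base k k) U).2, show IsLocalRing.maximalIdeal (base k k) = ⊥ from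
      eq_bot_iff.2 fun a ha => (Art.mem_maximalIdeal_iff _ a).1 ha, Ideal.map_bot]
  haveI := isAffineHom_incl x (base k k)
  have hI : ∀ U, (I₀.map (XAincl x (base k k))).ideal (W x (base k k) U) =
      (I₀.ideal U).comap (rho x (base k k) U) := fun U => by
    ext z
    exact mem_map_iff _ _ _ U (rho_le x _ U) (rho_le x _ U).le z
  refine ⟨⟨⟨I₀.map (XAincl x (base k k)), flat_of_ideals _ fun U => ?_, ?_⟩⟩, ⟨fun I J => ?_⟩⟩
  · exact flat_field (K := k) _
  · refine Scheme.IdealSheafData.ext (funext fun U => ?_)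
    rw [comap_incl_ideal, hI, Ideal.map_comap_of_surjective _ (hbij U).2]
  · refine Subtype.ext (HilbAffine.ext_ideal x fun U => ?_)
    have e := (comap_incl_ideal x I.1 U).symm.trans ((congrArg (fun z => z.ideal U) (I.2.2.trans J.2.2.symm)).trans
      (comap_incl_ideal x J.1 U))
    have h1 := congrArg (Ideal.comap (rho x (base k k) U)) e
    rwa [Ideal.comap_map_of_bijective _ (hbij U), Ideal.comap_map_of_bijective _ (hbij U)] at h1

end Groth.Agent.ArtFunLib.HilbLeftExact
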