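import Groth.Prelude.Def_ArtFun6
import Groth.Prelude.Def_FGA
import Groth.Prelude.Def_ArtFun5
import Mathlib

/-!
# The local ring of the Hilbert scheme carries a universal family of the local Hilbert functor

If `(H, Z)` represents the Hilbert functor of a proper `k`-scheme `X` and the rational point `h` of `H`
corresponds to the closed subscheme cut out by `I₀`, then maps `O_{H,h} → A` to local Artinian algebras
correspond to embedded deformations of `I₀` over `A`.
-/

set_option autoImplicit false
set_option linter.style.haveILetI false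
universe u

open CategoryTheory CategoryTheory.Limits AlgebraicGeometry ArtFun ArtFun.Art

namespace Groth.Agent.ArtFunLib.HilbLink

section Pull

variable {X S : Scheme.{u}} (f : X ⟶ S)

theorem hilbPull_eq_comap {T T' : Over S} (g : T' ⟶ T) (I : (PicF.XT f T).IdealSheafData) :
    FGA.hilbPull f g I = I.comap (PicF.XTmap f g) := by
  rw [FGA.hilbPull, Scheme.IdealSheafData.comap,
    ← pullbackSymmetry_hom_comp_snd (PicF.XTmap f g) I.subschemeι, Scheme.Hom.ker_comp_of_isIso]

theorem XTmap_snd {T T' : Over S} (g : T' ⟶ T) :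
    PicF.XTmap f g ≫ PicF.XTproj f T = PicF.XTproj f T' ≫ g.left :=
  pullback.lift_snd _ _ _

theorem XTmap_comp {T T' T'' : Over S} (g : T' ⟶ T) (g' : T'' ⟶ T') :
    PicF.XTmap f (g' ≫ g) = PicF.XTmap f g' ≫ PicF.XTmap f g := by
  apply pullback.hom_ext
  · rw [FGA.XTmap_fst, Category.assoc, FGA.XTmap_fst, FGA.XTmap_fst]
  · show _ ≫ PicF.XTproj f T = _ ≫ PicF.XTproj f T
    rw [XTmap_snd, Category.assoc, XTmap_snd, ← Category.assoc, XTmap_snd, Category.assoc, Over.comp_left]

theorem isPullback_XTmap {T T' : Over S} (g : T' ⟶ T) :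
    IsPullback (PicF.XTmap f g) (PicF.XTproj f T') (PicF.XTproj f T) g.left := by
  refine IsPullback.of_right ?_ (XTmap_snd f g) (IsPullback.of_hasPullback f T.hom)
  rw [FGA.XTmap_fst, Over.w]
  exact IsPullback.of_hasPullback f T'.hom

theorem flat_hilbPull {T T' : Over S} (g : T' ⟶ T) (I : (PicF.XT f T).IdealSheafData)
    (hI : Flat (I.subschemeι ≫ PicF.XTproj f T)) :
    Flat ((FGA.hilbPull f g I).subschemeι ≫ PicF.XTproj f T') := by
  rw [hilbPull_eq_comap]
  have sq : IsPullback (pullback.snd (PicF.XTmap f g) I.subschemeι)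
      (pullback.fst (PicF.XTmap f g) I.subschemeι ≫ PicF.XTproj f T') (I.subschemeι ≫ PicF.XTproj f T) g.left :=
    IsPullback.paste_vert (IsPullback.of_hasPullback (PicF.XTmap f g) I.subschemeι).flip (isPullback_XTmap f g)
  have hflat : Flat (pullback.fst (PicF.XTmap f g) I.subschemeι ≫ PicF.XTproj f T') :=
    MorphismProperty.of_isPullback (P := @Flat) sq hI
  rw [← Scheme.IdealSheafData.comapIso_hom_fst, Category.assoc]
  haveI := hflat
  infer_instance

theorem hilbPull_comp {T T' T'' : Over S} (g : T' ⟶ T) (g' : T'' ⟶ T') (I : (PicF.XT f T).IdealSheafData) :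
    FGA.hilbPull f (g' ≫ g) I = FGA.hilbPull f g' (FGA.hilbPull f g I) := by
  rw [hilbPull_eq_comap, hilbPull_eq_comap, hilbPull_eq_comap, XTmap_comp, Scheme.IdealSheafData.comap_comp]

theorem proper_hilbPull [IsProper f] {T T' : Over S} (g : T' ⟶ T) (I : (PicF.XT f T).IdealSheafData) :
    IsProper ((FGA.hilbPull f g I).subschemeι ≫ PicF.XTproj f T') := by
  haveI : IsProper (PicF.XTproj f T') := inferInstanceAs (IsProper (pullback.snd f T'.hom))
  infer_instance

end Pull

variable {k : Type u} [Field k]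

/-- The `k`-rational point. -/
noncomputable abbrev pt : Over (specPt k) := Over.mk (𝟙 (specPt k))

/-- `Spec A` over `k`. -/
noncomputable abbrev T (A : Art k k) : Over (specPt k) := Over.mk (specOver A)

/-- The closed point of `Spec A`. -/
noncomputable def resPt (A : Art k k) : pt (k := k) ⟶ T A :=
  Over.homMk (specRes A) (by
    show specRes A ≫ specMap (ofBase A) = 𝟙 _
    rw [specRes_comp, ← Category.id_comp (specRes (base k k)), comp_specRes_base])

/-- `Spec` of a morphism, over `k`. -/
noncomputable def mapPt {A B : Art k k} (g : A ⟶ B) : T B ⟶ T A :=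
  Over.homMk (specMap g) (specOver_comp g)

theorem resPt_mapPt {A B : Art k k} (g : A ⟶ B) : resPt B ≫ mapPt g = resPt A :=
  Over.OverMorphism.ext (specRes_comp g)

variable {X : Scheme.{u}} (x : X ⟶ specPt k)

instance : IsIso (pullback.fst x (pt (k := k)).hom) := by
  show IsIso (pullback.fst x (𝟙 (specPt k)))
  infer_instance

theorem XTmap_mapPt {A B : Art k k} (g : A ⟶ B) : PicF.XTmap x (mapPt g) = XAmap x g := rfl

theorem XTmap_resPt (A : Art k k) :
    PicF.XTmap x (resPt A) = pullback.fst x (pt (k := k)).hom ≫ XAincl x A := by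
  apply pullback.hom_ext
  · rw [FGA.XTmap_fst]
    show _ = (_ ≫ XAincl x A) ≫ pullback.fst x (specOver A)
    rw [Category.assoc, XAincl_fst, Category.comp_id]
  · show _ ≫ PicF.XTproj x (T A) = _
    rw [XTmap_snd]
    show pullback.snd x (𝟙 (specPt k)) ≫ specRes A = (_ ≫ XAincl x A) ≫ XApr x A
    rw [Category.assoc, XAincl_snd, ← Category.assoc]
    congr 1
    exact (pullback.condition.trans (Category.comp_id _)).symm

theorem comap_injective_of_isIso {Y Y' : Scheme.{u}} (e : Y' ⟶ Y) [IsIso e] {I J : Y.IdealSheafData}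
    (h : I.comap e = J.comap e) : I = J := by
  rw [← Scheme.IdealSheafData.comap_id I, ← Scheme.IdealSheafData.comap_id J, ← IsIso.inv_hom_id e,
    Scheme.IdealSheafData.comap_comp, Scheme.IdealSheafData.comap_comp, h]

variable (H : Over (specPt k)) (Z : FGA.HilbSet x H) (h : pt (k := k) ⟶ H)

/-- The point of `H`. -/
noncomputable abbrev p₀ : H.left := h.left (IsLocalRing.closedPoint k)

/-- The local ring at the point. -/
noncomputable abbrev R₀ : CommRingCat.{u} := H.left.presheaf.stalk (p₀ H h)

/-- The structure map of the local ring. -/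
noncomputable def α : CommRingCat.of k ⟶ R₀ H h :=
  Spec.preimage (H.left.fromSpecStalk (p₀ H h) ≫ H.hom)

/-- The local ring as a `k`-algebra. -/
@[reducible] noncomputable def alg : Algebra k (R₀ H h) := (α H h).hom.toAlgebra

theorem map_α : Spec.map (α H h) = H.left.fromSpecStalk (p₀ H h) ≫ H.hom := Spec.map_preimage _

/-- The value at the point. -/
noncomputable def ρ : R₀ H h ⟶ CommRingCat.of k := Scheme.stalkClosedPointTo h.left

theorem map_ρ : Spec.map (ρ H h) ≫ H.left.fromSpecStalk (p₀ H h) = h.left :=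
  Scheme.Spec_stalkClosedPointTo_fromSpecStalk _

theorem α_ρ : α H h ≫ ρ H h = 𝟙 _ := by
  apply Spec.map_injective
  rw [Spec.map_comp, map_α, ← Category.assoc, map_ρ, Spec.map_id]
  exact Over.w h

/-- The value at the point, as an algebra map. -/
noncomputable def res : letI := alg H h; R₀ H h →ₐ[k] k :=
  letI := alg H h
  { (ρ H h).hom with commutes' := fun c => congr($(α_ρ H h) c) }

theorem exists_hom {A : Art k k} (g : T A ⟶ H) (hg : resPt A ≫ g = h) :
    ∃ φ : R₀ H h ⟶ CommRingCat.of A, Spec.map φ ≫ H.left.fromSpecStalk (p₀ H h) = g.left := by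
  have hq : g.left (IsLocalRing.closedPoint A.carrier) = p₀ H h := by
    rw [← hg]
    show _ = g.left ((specRes A) (IsLocalRing.closedPoint k))
    congr 1
    exact (@IsLocalRing.comap_closedPoint _ _ _ _ _ _ A.res.toRingHom (.of_surjective _ A.res_surjective)).symm
  suffices key : ∀ q, q = p₀ H h → ∀ ψ : H.left.presheaf.stalk q ⟶ CommRingCat.of A,
      Spec.map ψ ≫ H.left.fromSpecStalk q = g.left →
        ∃ φ : R₀ H h ⟶ CommRingCat.of A, Spec.map φ ≫ H.left.fromSpecStalk (p₀ H h) = g.left from
    key _ hq _ (Scheme.Spec_stalkClosedPointTo_fromSpecStalk g.left)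
  rintro q rfl ψ hψ
  exact ⟨ψ, hψ⟩

/-- The morphism `Spec A ⟶ H` attached to a map of the local ring. -/
noncomputable def toH {A : Art k k} (φ : letI := alg H h; HomSet (R₀ H h) (res H h) A) : T A ⟶ H :=
  letI := alg H h
  Over.homMk (Spec.map (CommRingCat.ofHom φ.1.toRingHom) ≫ H.left.fromSpecStalk (p₀ H h)) (by
    rw [Category.assoc, ← map_α, ← Spec.map_comp]
    show _ = Spec.map _
    congr 1
    ext c
    exact φ.1.commutes c)

theorem toH_left {A : Art k k} (φ : letI := alg H h; HomSet (R₀ H h) (res H h) A) :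
    (toH H h φ).left = Spec.map (CommRingCat.ofHom (letI := alg H h; φ.1.toRingHom)) ≫
      H.left.fromSpecStalk (p₀ H h) := rfl

theorem resPt_toH {A : Art k k} (φ : letI := alg H h; HomSet (R₀ H h) (res H h) A) :
    resPt A ≫ toH H h φ = h := by
  letI := alg H h
  refine Over.OverMorphism.ext ?_
  show Spec.map _ ≫ Spec.map _ ≫ H.left.fromSpecStalk (p₀ H h) = _
  rw [← map_ρ H h, ← Category.assoc, ← Spec.map_comp]
  congr 2
  ext r
  exact congr($(φ.2) r)

theorem toH_natural {A B : Art k k} (f : A ⟶ B) (φ : letI := alg H h; HomSet (R₀ H h) (res H h) A) :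
    toH H h (letI := alg H h; HomSet.map f φ) = mapPt f ≫ toH H h φ := by
  letI := alg H h
  refine Over.OverMorphism.ext ?_
  show _ = Spec.map _ ≫ Spec.map _ ≫ _
  rw [toH_left, ← Category.assoc, ← Spec.map_comp]
  rfl

variable (I₀ : X.IdealSheafData)

/-- Maps of the local ring give embedded deformations of `I₀`. -/
noncomputable def universalFamily (hh : FGA.hilbPull x h Z.1 = I₀.comap (pullback.fst x (pt (k := k)).hom)) :
    letI := alg H h; Family (R₀ H h) (res H h) (localHilb X x I₀) :=
  letI := alg H h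
  { app := fun A φ => ⟨FGA.hilbPull x (toH H h φ) Z.1, flat_hilbPull x _ _ Z.2.2, by
      apply comap_injective_of_isIso (pullback.fst x (pt (k := k)).hom)
      rw [← Scheme.IdealSheafData.comap_comp, ← XTmap_resPt, ← hilbPull_eq_comap, ← hilbPull_comp, resPt_toH, hh]⟩
    natural := fun {A B} f φ => Subtype.ext (by
      show FGA.hilbPull x (toH H h (HomSet.map f φ)) Z.1 = (FGA.hilbPull x (toH H h φ) Z.1).comap (XAmap x f)
      rw [toH_natural, hilbPull_comp, hilbPull_eq_comap x (mapPt f), XTmap_mapPt]) }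

/-- The family is universal. -/
theorem isUniversal [IsProper x] (hH : FGA.HilbRepresentedBy x H Z)
    (hh : FGA.hilbPull x h Z.1 = I₀.comap (pullback.fst x (pt (k := k)).hom)) :
    letI := alg H h; IsUniversal (universalFamily x H Z h I₀ hh) := by
  letI := alg H h
  intro A
  haveI : IsLocallyNoetherian (T A).left := inferInstanceAs (IsLocallyNoetherian (Spec (CommRingCat.of A.carrier)))
  haveI : IsLocallyNoetherian (pt (k := k)).left := inferInstanceAs (IsLocallyNoetherian (Spec (CommRingCat.of k)))
  have huniq : ∀ {T : Over (specPt k)} [IsLocallyNoetherian T.left] (g g' : T ⟶ H),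
      FGA.hilbPull x g Z.1 = FGA.hilbPull x g' Z.1 → g = g' := fun {T} _ g g' e =>
    (hH.2 T ⟨_, proper_hilbPull x g Z.1, flat_hilbPull x g _ Z.2.2⟩).unique rfl e.symm
  refine ⟨fun φ φ' e => ?_, fun I => ?_⟩
  · have e1 := congrArg (fun g : T A ⟶ H => g.left) (huniq (toH H h φ) (toH H h φ') (congrArg Subtype.val e))
    rw [toH_left, toH_left, cancel_mono] at e1
    exact Subtype.ext (AlgHom.coe_ringHom_injective (congrArg CommRingCat.Hom.hom (Spec.map_injective e1)))
  · haveI : IsProper (PicF.XTproj x (T A)) := inferInstanceAs (IsProper (pullback.snd x (T A).hom))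
    obtain ⟨g, hg, -⟩ := hH.2 (T A) ⟨I.1, inferInstance, I.2.1⟩
    have hg' : resPt A ≫ g = h := huniq _ _ (by
      rw [hilbPull_comp, hg, hh, hilbPull_eq_comap, XTmap_resPt, Scheme.IdealSheafData.comap_comp, I.2.2])
    obtain ⟨φ, hφ⟩ := exists_hom H h g hg'
    have hres : φ ≫ CommRingCat.ofHom A.res.toRingHom = ρ H h := by
      apply Spec.map_injective
      rw [Spec.map_comp, ← cancel_mono (H.left.fromSpecStalk (p₀ H h)), map_ρ, Category.assoc, hφ]
      exact congrArg (fun g : pt (k := k) ⟶ H => g.left) hg'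
    have hα : α H h ≫ φ = CommRingCat.ofHom (algebraMap k A.carrier) := by
      apply Spec.map_injective
      rw [Spec.map_comp, map_α, ← Category.assoc, hφ]
      exact Over.w g
    let ψ : HomSet (R₀ H h) (res H h) A :=
      ⟨{ φ.hom with commutes' := fun c => congr($hα c) }, AlgHom.ext fun r => congr($hres r)⟩
    refine ⟨ψ, Subtype.ext ?_⟩
    show FGA.hilbPull x (toH H h ψ) Z.1 = I.1
    rw [show toH H h ψ = g from Over.OverMorphism.ext hφ]
    exact hg

end Groth.Agent.ArtFunLib.HilbLink
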