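import Groth.Agent.ArtFunLib.HilbObsMain
import Groth.Agent.NormalLib.Imm
import Groth.Agent.KRegLib.Kinds
import Groth.Prelude.Def_Mor2

/-!
# Locally complete intersections are locally cut out by `H₁`-regular sequences
-/

set_option autoImplicit false
set_option backward.isDefEq.respectTransparency false
universe u

open CategoryTheory CategoryTheory.Limits AlgebraicGeometry ArtFun ArtFun.Art Opposite

namespace Groth.Agent.ArtFunLib.HilbObs

variable {X : Scheme.{u}}

theorem exists_away (I : X.IdealSheafData) (y : X) (hy : y ∉ I.support) :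
    ∃ U : X.affineOpens, y ∈ U.1 ∧ ∃ (r : ℕ) (f : Fin r → Γ(X, U.1)),
      CAlgX.IsH1Regular f ∧ Ideal.span (Set.range f) = I.ideal U := by
  obtain ⟨_, ⟨U, hU, rfl⟩, hyU, hle⟩ := X.isBasis_affineOpens.exists_subset_of_mem_open
    (show y ∈ ((I.support : Set X)ᶜ) from hy) I.support.isClosed.isOpen_compl
  refine ⟨⟨U, hU⟩, hyU, 1, fun _ => 1, fun a ha => ?_, ?_⟩
  · rw [Fin.sum_univ_one, mul_one] at ha
    rw [show a = 0 from funext fun i => by rw [Subsingleton.elim i 0, ha]; rfl]
    exact zero_mem _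
  · rw [Set.range_const, Ideal.span_singleton_one, eq_comm]
    have h := Scheme.IdealSheafData.coe_support_inter I ⟨U, hU⟩
    have h0 : (I.support : Set X) ∩ (U : Set X) = ∅ :=
      Set.eq_empty_iff_forall_notMem.2 fun z hz => hle hz.2 hz.1
    rw [h0] at h
    by_contra hne
    obtain ⟨M, hM, hle'⟩ := Ideal.exists_le_maximal _ hne
    have hp : (⟨M, hM.isPrime⟩ : PrimeSpectrum Γ(X, U)) ∈ PrimeSpectrum.zeroLocus (I.ideal ⟨U, hU⟩ : Set Γ(X, U)) := hle'
    have hmem : hU.fromSpec (⟨M, hM.isPrime⟩ : PrimeSpectrum Γ(X, U)) ∈ (∅ : Set X) := by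
      rw [h]
      refine ⟨?_, ?_⟩
      · rw [← hU.fromSpec_image_zeroLocus] at *
        exact ((hU.fromSpec_image_zeroLocus _).le ⟨_, hp, rfl⟩).1
      · exact hU.range_fromSpec.le ⟨_, rfl⟩
    exact hmem

theorem locReg_of_koszul {I : X.IdealSheafData} (h : RegImm.IsRegularIdeal RegImm.Kind.koszul I) : LocReg I := fun y => by
  by_cases hy : y ∈ I.support
  · obtain ⟨U, hU, rs, hrs, hI⟩ := h y hy
    refine ⟨U, hU, rs.length, rs.get, KRegLib.h1_of_koszul rs hrs, ?_⟩
    rw [hI, Ideal.ofList, Set.range_list_get]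
  · exact exists_away I y hy

theorem locReg_of_regular {Z : Scheme.{u}} (i : Z ⟶ X) (h : Mor2.IsRegularClosedImmersion i) : LocReg i.ker := fun y => by
  haveI := h.1
  by_cases hy : y ∈ i.ker.support
  · have hy' : y ∈ (i.ker.support : Set X) := hy
    rw [i.support_ker] at hy'
    rw [i.isClosedEmbedding.isClosed_range.closure_eq] at hy'
    obtain ⟨z, rfl⟩ := hy'
    obtain ⟨U, hU, hzU, rs, hrs, hI⟩ := h.2 z
    refine ⟨⟨U, hU⟩, hzU, rs.length, rs.get,
      KRegLib.h1_of_koszul rs (KRegLib.seq_of_isRegular RegImm.Kind.koszul rs hrs), ?_⟩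
    rw [hI, Ideal.ofList, Set.range_list_get]
  · exact exists_away i.ker y hy

variable {k : Type u} [Field k] [X.Over (Spec (CommRingCat.of k))] {I₀ : X.IdealSheafData}

/-- If the obstruction space vanishes every semismall extension lifts. -/
theorem surjective_of_locUnob (hreg : LocUnob (X ↘ Spec (CommRingCat.of k)) I₀) [Subsingleton (ObSp I₀)]
    {B A : Art k k} (p : B ⟶ A) (hp : IsSemismallExt p) :
    Function.Surjective ((localHilb X (X ↘ Spec (CommRingCat.of k)) I₀).map p) := fun u => by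
  obtain ⟨T⟩ := hasObsTheory_of_locUnob (k := k) hreg
  refine (T.obs_eq_zero_iff p hp u).1 ?_
  induction T.obs p hp u using TensorProduct.induction_on with
  | zero => rfl
  | tmul a b => rw [Subsingleton.elim a 0, TensorProduct.zero_tmul]
  | add a b ha hb => rw [ha, hb, add_zero]

/-- If the obstruction space vanishes every semismall extension lifts. -/
theorem surjective_of_subsingleton (hreg : LocReg I₀) [Subsingleton (ObSp I₀)]
    {B A : Art k k} (p : B ⟶ A) (hp : IsSemismallExt p) :
    Function.Surjective ((localHilb X (X ↘ Spec (CommRingCat.of k)) I₀).map p) :=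
  surjective_of_locUnob (locUnob_of_locReg (X ↘ Spec (CommRingCat.of k)) hreg) p hp

/-- The local Hilbert functor is smooth when the obstruction space vanishes. -/
theorem isSmoothFunctor_of_subsingleton (hreg : LocReg I₀) [Subsingleton (ObSp I₀)] :
    IsSmoothFunctor (localHilb X (X ↘ Spec (CommRingCat.of k)) I₀) := by
  intro B A p hp
  refine ArtFunLib.surjective_induction
    (P := fun _ _ q => Function.Surjective ((localHilb X (X ↘ Spec (CommRingCat.of k)) I₀).map q)) ?_ ?_ ?_ p hp
  · intro A B e he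
    haveI := he
    exact ((isIso_iff_bijective _).1 (inferInstance : IsIso ((localHilb X (X ↘ Spec (CommRingCat.of k)) I₀).map e))).2
  · exact fun A B q hq => surjective_of_subsingleton hreg q hq.isSemismallExt
  · intro A B C q r _ _ h1 h2
    rw [Functor.map_comp]
    exact h2.comp h1

/-- `H¹(hom(I₀, O/I₀))` is `H¹` of the normal sheaf of a closed immersion. -/
theorem nonempty_ObSp_equiv_imm [IsLocallyNoetherian X] {Z : Scheme.{u}} [Z.Over (Spec (CommRingCat.of k))]
    (i : Z ⟶ X) [IsClosedImmersion i] (hi : i ≫ (X ↘ Spec (CommRingCat.of k)) = Z ↘ Spec (CommRingCat.of k))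
    [DCoh.HasSheafHom (Omega.conormal i)] :
    Nonempty (ObSp i.ker ≃ₗ[k] Coh.HH Z ((DCoh.sheafHom (Omega.conormal i)).obj
      (Coh.structureModule Z)) 1) := by
  haveI : IsLocallyNoetherian Z := LocallyOfFiniteType.isLocallyNoetherian i
  let N := (SheafHomX.hom (Omega.conormal i)).obj (Coh.structureModule Z)
  obtain ⟨e⟩ := DivisorExt.nonempty_quotMod_iso i
  let e₁ : (Scheme.Modules.pushforward i).obj N ≅ (SheafHomX.hom (ClSub.idealMod i.ker)).obj (ClSub.quotMod i.ker) :=
    (AmpleVan.pushHomIso i (ClSub.idealMod i.ker)).app (Coh.structureModule Z) ≪≫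
      (SheafHomX.hom (ClSub.idealMod i.ker)).mapIso e.symm
  have hN : Coh.IsCoh N := SheafHomX.isCoh_hom (NormalLib.isCoh_conormal i) QCoh.isCoh_structureModule'
  obtain ⟨a⟩ := PnCoh.exists_linearEquiv_push k i hi hN.1 1
  exact ⟨(NormalLib.hhIso e₁ 1).symm ≪≫ₗ a.symm ≪≫ₗ
    NormalLib.hhIso ((AmpleVan.sheafHomIso (Omega.conormal i)).app _).symm 1⟩

end Groth.Agent.ArtFunLib.HilbObs
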