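import Groth.Agent.ArtFunLib.HilbLeftExact
import Groth.Agent.AffDefLib.Dual
import Groth.Prelude.Def_KLin

/-!
# First order embedded deformations are maps from the ideal to the quotient
-/

set_option autoImplicit false
universe u

open CategoryTheory CategoryTheory.Limits AlgebraicGeometry ArtFun ArtFun.Art

namespace Groth.Agent.ArtFunLib.HilbTangent

open HilbAffine HilbSit HilbLeftExact AffDefLib

theorem hom_ext_affine {X : Scheme.{u}} {M N : X.Modules} {f g : M ⟶ N}
    (h : ∀ (U : X.affineOpens) s, f.app U.1 s = g.app U.1 s) : f = g := by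
  refine Scheme.Modules.hom_ext _ _ fun V => ?_
  ext s
  refine FamilyHom.ext_affine N V _ _ fun W hW => ?_
  rw [← HilbMod.app_map, ← HilbMod.app_map]
  exact h W _

/-- The reduction of a function, as a section of the quotient. -/
noncomputable def ι' {X : Scheme.{u}} (I₀ : X.IdealSheafData) (U : X.Opens) :
    Γ(X, U) →+ Γ(ClSub.quotMod I₀, U) :=
  (I₀.subschemeι.app U).hom.toAddMonoidHom

theorem ι'_mul {X : Scheme.{u}} (I₀ : X.IdealSheafData) (U : X.Opens) (r a : Γ(X, U)) :
    ι' I₀ U (r * a) = r • ι' I₀ U a :=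
  map_mul (I₀.subschemeι.app U).hom r a

theorem ι'_map {X : Scheme.{u}} (I₀ : X.IdealSheafData) {U V : X.Opens} (h : V ≤ U) (a : Γ(X, U)) :
    (ClSub.quotMod I₀).presheaf.map (homOfLE h).op (ι' I₀ U a) = ι' I₀ V (X.presheaf.map (homOfLE h).op a) :=
  (congr($(I₀.subschemeι.naturality (homOfLE h).op) a)).symm

variable {k : Type u} [Field k]

theorem deps_ne_zero : deps (k := k) ≠ 0 := fun he => by
  have key : ∀ e : DualNumber k, e = DualNumber.eps → e ≠ 0 := fun e h h0 => by
    have := congrArg TrivSqZeroExt.snd (h0 ▸ h : (0 : DualNumber k) = DualNumber.eps)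
    rw [DualNumber.snd_eps, TrivSqZeroExt.snd_zero] at this
    exact one_ne_zero this.symm
  exact key deps rfl he

variable {X : Scheme.{u}} (x : X ⟶ specPt k)

/-- The infinitesimal on an affine open. -/
noncomputable def ce (U : X.affineOpens) : Γ(XA x (Art.dual k k), (W x (Art.dual k k) U).1) :=
  c x (Art.dual k k) U deps

theorem fst_map (B : Art k k) {U V : X.affineOpens} (h : V.1 ≤ U.1) (r : Γ(X, U.1)) :
    (XA x B).presheaf.map (homOfLE (W_mono x B h)).op (fstPull x B U r) =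
      fstPull x B V (X.presheaf.map (homOfLE h).op r) :=
  (congr($((pullback.fst x (specOver B)).naturality (homOfLE h).op) r)).symm

theorem ce_map {U V : X.affineOpens} (h : V.1 ≤ U.1) :
    (XA x (Art.dual k k)).presheaf.map (homOfLE (W_mono x _ h)).op (ce x U) = ce x V :=
  c_map x _ h _

theorem ker_rho_dual (U : X.affineOpens) :
    RingHom.ker (rho x (Art.dual k k) U) = Ideal.span {ce x U} := by
  rw [(rho_spec x _ U).2, dual_maximalIdeal, Ideal.map_span, Set.image_singleton]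
  rfl

theorem ce_mul_ker (U : X.affineOpens) {w : Γ(XA x (Art.dual k k), (W x (Art.dual k k) U).1)}
    (hw : rho x (Art.dual k k) U w = 0) : ce x U * w = 0 := by
  rw [← RingHom.mem_ker, ker_rho_dual] at hw
  obtain ⟨t, rfl⟩ := Ideal.mem_span_singleton'.1 hw
  rw [mul_left_comm]
  have : ce x U * ce x U = 0 := by rw [ce, ← map_mul, deps_mul_deps, map_zero]
  rw [this, mul_zero]

theorem ce_mul_congr (U : X.affineOpens) {w w' : Γ(XA x (Art.dual k k), (W x (Art.dual k k) U).1)}
    (h : rho x (Art.dual k k) U w = rho x (Art.dual k k) U w') : ce x U * w = ce x U * w' := by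
  rw [← sub_eq_zero, ← mul_sub]
  exact ce_mul_ker x U (by rw [map_sub, h, sub_self])

theorem rho_ce (U : X.affineOpens) : rho x (Art.dual k k) U (ce x U) = 0 := by
  rw [← RingHom.mem_ker, ker_rho_dual]
  exact Ideal.mem_span_singleton_self _

/-- The element with coordinates `a + ε b`. -/
noncomputable def pair (U : X.affineOpens) (a b : Γ(X, U.1)) : Γ(XA x (Art.dual k k), (W x (Art.dual k k) U).1) :=
  fstPull x _ U a + ce x U * fstPull x _ U b

theorem rho_pair (U : X.affineOpens) (a b : Γ(X, U.1)) : rho x (Art.dual k k) U (pair x U a b) = a := by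
  rw [pair, map_add, map_mul, rho_ce, zero_mul, add_zero, rho_fst]

theorem exists_pair (U : X.affineOpens) (z : Γ(XA x (Art.dual k k), (W x (Art.dual k k) U).1)) :
    ∃ b, z = pair x U (rho x _ U z) b := by
  have hk : z - fstPull x _ U (rho x (Art.dual k k) U z) ∈ RingHom.ker (rho x (Art.dual k k) U) := by
    rw [RingHom.mem_ker, map_sub, rho_fst, sub_self]
  rw [ker_rho_dual] at hk
  obtain ⟨t, ht⟩ := Ideal.mem_span_singleton'.1 hk
  refine ⟨rho x _ U t, ?_⟩
  rw [pair, ← ce_mul_congr x U (rho_fst x _ U _).symm, mul_comm, ht, add_sub_cancel]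

theorem pair_map {U V : X.affineOpens} (h : V.1 ≤ U.1) (a b : Γ(X, U.1)) :
    (XA x (Art.dual k k)).presheaf.map (homOfLE (W_mono x _ h)).op (pair x U a b) =
      pair x V (X.presheaf.map (homOfLE h).op a) (X.presheaf.map (homOfLE h).op b) := by
  rw [pair, pair, map_add, map_mul, ce_map x h, fst_map x _ h, fst_map x _ h]

theorem mul_pair (U : X.affineOpens) (r q a b : Γ(X, U.1)) :
    pair x U r q * pair x U a b = pair x U (r * a) (r * b + q * a) := by
  have h0 : ce x U * ce x U = 0 := ce_mul_ker x U (rho_ce x U)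
  simp only [pair, map_add, map_mul]
  linear_combination (fstPull x (Art.dual k k) U q * fstPull x (Art.dual k k) U b) * h0

theorem pair_eq_zero (U : X.affineOpens) {a b : Γ(X, U.1)} (h : pair x U a b = 0) : a = 0 ∧ b = 0 := by
  have ha : a = 0 := by rw [← rho_pair x U a b, h, map_zero]
  refine ⟨ha, ?_⟩
  subst ha
  rw [pair, map_zero, zero_add] at h
  have h1 : rho x (Art.dual k k) U (fstPull x _ U b) ∈ (⊥ : Ideal _).map (rho x (Art.dual k k) U) := by
    refine HilbRing.rho_mem (c x (Art.dual k k) U) (rho x _ U) (IsLocalRing.maximalIdeal (Art.dual k k)) deps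
      (rho_spec x _ U).2 (fun d hd => ?_) ?_ _ (by rw [Ideal.mem_bot]; exact h)
    · by_contra hn
      exact deps_ne_zero ((IsLocalRing.notMem_maximalIdeal.1 hn).mul_left_eq_zero.1 hd)
    · exact (RingHom.Flat.of_bijective ⟨fun u v huv => by simpa [sub_eq_zero] using Ideal.Quotient.eq.1 huv,
        Ideal.Quotient.mk_surjective⟩ |> (flat_c x _ U).comp)
  rwa [Ideal.map_bot, Ideal.mem_bot, rho_fst] at h1

theorem pair_inj (U : X.affineOpens) {a b a' b' : Γ(X, U.1)} (h : pair x U a b = pair x U a' b') :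
    a = a' ∧ b = b' := by
  have := pair_eq_zero x U (a := a - a') (b := b - b') (by
    simp only [pair, map_sub] at h ⊢
    linear_combination h)
  exact ⟨sub_eq_zero.1 this.1, sub_eq_zero.1 this.2⟩

variable {x} {I₀ : X.IdealSheafData}

/-- `φ` is the map attached to the first order deformation `I`. -/
def Rel (I : (localHilb X x I₀).obj (Art.dual k k)) (φ : ClSub.idealMod I₀ ⟶ ClSub.quotMod I₀) : Prop :=
  ∀ (U : X.affineOpens) (s : Γ(ClSub.idealMod I₀, U.1)) (b : Γ(X, U.1)),
    pair x U (OmegaSh.idealSect I₀ U.1 s) b ∈ I.1.ideal (W x _ U) → φ.app U.1 s = ι' I₀ U.1 b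

theorem map_rho (I : (localHilb X x I₀).obj (Art.dual k k)) (U : X.affineOpens) :
    (I.1.ideal (W x _ U)).map (rho x _ U) = I₀.ideal U := by
  rw [← comap_incl_ideal, I.2.2]

theorem exists_rep (I : (localHilb X x I₀).obj (Art.dual k k)) (U : X.affineOpens)
    (s : Γ(ClSub.idealMod I₀, U.1)) : ∃ b, pair x U (OmegaSh.idealSect I₀ U.1 s) b ∈ I.1.ideal (W x _ U) := by
  obtain ⟨z, hz, hρ⟩ := (Ideal.mem_map_iff_of_surjective _ (rho_spec x _ U).1).1
    ((map_rho I U).ge (OmegaLib.idealSect_mem I₀ U s))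
  obtain ⟨b, hb⟩ := exists_pair x U z
  refine ⟨b, ?_⟩
  rw [← hρ, ← hb]
  exact hz

theorem app_eq_iff (U : X.affineOpens) (b b' : Γ(X, U.1)) :
    ι' I₀ U.1 b = ι' I₀ U.1 b' ↔ b - b' ∈ I₀.ideal U := by
  rw [← I₀.ker_subschemeι_app, RingHom.mem_ker, map_sub, sub_eq_zero]
  rfl

theorem rep_unique (I : (localHilb X x I₀).obj (Art.dual k k)) (U : X.affineOpens) {a b b' : Γ(X, U.1)}
    (h : pair x U a b ∈ I.1.ideal (W x _ U)) (h' : pair x U a b' ∈ I.1.ideal (W x _ U)) :
    ι' I₀ U.1 b = ι' I₀ U.1 b' := by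
  rw [app_eq_iff, ← rho_fst x (Art.dual k k) U (b - b'), ← map_rho I U]
  refine HilbRing.rho_mem (c x (Art.dual k k) U) (rho x _ U) (IsLocalRing.maximalIdeal (Art.dual k k)) deps
    (rho_spec x _ U).2 (fun d hd => ?_) (flat_quotient x I.1 I.2.1 U) _ ?_
  · by_contra hn
    exact deps_ne_zero ((IsLocalRing.notMem_maximalIdeal.1 hn).mul_left_eq_zero.1 hd)
  · have := sub_mem h h'
    rw [pair, pair, add_sub_add_left_eq_sub, ← mul_sub, ← map_sub] at this
    exact this

/-- Every first order deformation has an attached map. -/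
theorem exists_rel (I : (localHilb X x I₀).obj (Art.dual k k)) : ∃ φ, Rel I φ := by
  classical
  choose fb hfb using exists_rep I
  let f : ∀ U : X.affineOpens, Γ(ClSub.idealMod I₀, U.1) → Γ(ClSub.quotMod I₀, U.1) := fun U s =>
    ι' I₀ U.1 (fb U s)
  have hval : ∀ (U : X.affineOpens) s b, pair x U (OmegaSh.idealSect I₀ U.1 s) b ∈ I.1.ideal (W x _ U) →
      f U s = ι' I₀ U.1 b := fun U s b h => rep_unique I U (hfb U s) h
  have hadd : ∀ U s s', f U (s + s') = f U s + f U s' := fun U s s' => by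
    rw [hval U (s + s') (fb U s + fb U s') (by
      have h1 := add_mem (hfb U s) (hfb U s')
      simp only [pair, map_add] at h1 ⊢
      convert h1 using 1
      ring)]
    exact map_add (ι' I₀ U.1) _ _
  obtain ⟨φ, hφ⟩ := FamilyHom.exists_hom_of_family (fun U => AddMonoidHom.mk' (f U) (hadd U))
    (fun U V hV s => by
      show (ClSub.quotMod I₀).presheaf.map (homOfLE hV).op (f U s) =
        f V ((ClSub.idealMod I₀).presheaf.map (homOfLE hV).op s)
      rw [hval V _ (X.presheaf.map (homOfLE hV).op (fb U s)) (by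
        rw [OmegaLib.idealSect_map I₀ hV, ← pair_map x hV]
        exact I.1.ideal_le_comap_ideal (W_mono x _ hV) (hfb U s))]
      exact ι'_map I₀ hV _)
    (fun U r s => by
      show f U (r • s) = r • f U s
      rw [hval U _ (r * fb U s) (by
        rw [OmegaLib.idealSect_smul]
        have h1 := Ideal.mul_mem_left _ (fstPull x _ U r) (hfb U s)
        simp only [pair, map_mul] at h1 ⊢
        convert h1 using 1
        ring)]
      exact ι'_mul I₀ _ _ _)
  exact ⟨φ, fun U s b h => (hφ U s).trans (hval U s b h)⟩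

theorem rel_unique (I : (localHilb X x I₀).obj (Art.dual k k)) {φ φ' : ClSub.idealMod I₀ ⟶ ClSub.quotMod I₀}
    (h : Rel I φ) (h' : Rel I φ') : φ = φ' := by
  refine hom_ext_affine fun U s => ?_
  obtain ⟨b, hb⟩ := exists_rep I U s
  rw [h U s b hb, h' U s b hb]

theorem le_of_rel (I J : (localHilb X x I₀).obj (Art.dual k k)) {φ : ClSub.idealMod I₀ ⟶ ClSub.quotMod I₀}
    (h : Rel I φ) (h' : Rel J φ) (U : X.affineOpens) : I.1.ideal (W x _ U) ≤ J.1.ideal (W x _ U) := by
  intro z hz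
  have ha : rho x (Art.dual k k) U z ∈ I₀.ideal U := map_rho I U ▸ Ideal.mem_map_of_mem _ hz
  obtain ⟨s, hs⟩ := OmegaLib.exists_of_mem I₀ U _ ha
  obtain ⟨b, hb⟩ := exists_pair x U z
  rw [← hs] at hb
  obtain ⟨b', hb'⟩ := exists_rep J U s
  have hd : b - b' ∈ I₀.ideal U := by
    rw [← app_eq_iff, ← h U s b (hb ▸ hz), ← h' U s b' hb']
  obtain ⟨w, hw, hρw⟩ := (Ideal.mem_map_iff_of_surjective _ (rho_spec x _ U).1).1 ((map_rho J U).ge hd)
  have e : z = pair x U (OmegaSh.idealSect I₀ U.1 s) b' + ce x U * w := by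
    rw [hb, ce_mul_congr x U (hρw.trans (rho_fst x _ U _).symm)]
    simp only [pair, map_sub]
    ring
  rw [e]
  exact add_mem hb' (Ideal.mul_mem_left _ _ hw)

/-- Every map is attached to a first order deformation. -/
theorem exists_of_hom (φ : ClSub.idealMod I₀ ⟶ ClSub.quotMod I₀) :
    ∃ I : (localHilb X x I₀).obj (Art.dual k k), Rel I φ := by
  classical
  haveI := isAffineHom_incl x (Art.dual k k)
  let P := I₀.map (XAincl x (Art.dual k k))
  have hP : ∀ U z, z ∈ P.ideal (W x _ U) ↔ rho x (Art.dual k k) U z ∈ I₀.ideal U := fun U z =>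
    mem_map_iff _ _ _ U (rho_le x _ U) (rho_le x _ U).le z
  have hrep : ∀ (U : X.affineOpens) (t : Γ(HilbMod.G P, U.1)), ∃ (s : Γ(ClSub.idealMod I₀, U.1)) (b : Γ(X, U.1)),
      HilbMod.el P U t = pair x U (OmegaSh.idealSect I₀ U.1 s) b := fun U t => by
    obtain ⟨s, hs⟩ := OmegaLib.exists_of_mem I₀ U _ ((hP U _).1 (HilbMod.el_mem P U t))
    obtain ⟨b, hb⟩ := exists_pair x U (HilbMod.el P U t)
    exact ⟨s, b, by rw [hs]; exact hb⟩
  choose fs fb hf using hrep
  let f : ∀ U : X.affineOpens, Γ(HilbMod.G P, U.1) → Γ(ClSub.quotMod I₀, U.1) := fun U t =>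
    φ.app U.1 (fs U t) - ι' I₀ U.1 (fb U t)
  have hval : ∀ (U : X.affineOpens) t s b, HilbMod.el P U t = pair x U (OmegaSh.idealSect I₀ U.1 s) b →
      f U t = φ.app U.1 s - ι' I₀ U.1 b := fun U t s b h => by
    obtain ⟨h1, h2⟩ := pair_inj x U ((hf U t).symm.trans h)
    show φ.app U.1 (fs U t) - ι' I₀ U.1 (fb U t) = _
    rw [OmegaLib.idealSect_injective I₀ U.1 h1, h2]
  have hadd : ∀ U t t', f U (t + t') = f U t + f U t' := fun U t t' => by
    rw [hval U (t + t') (fs U t + fs U t') (fb U t + fb U t') (by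
      rw [map_add, hf, hf, map_add]
      simp only [pair, map_add]
      ring)]
    show φ.app U.1 (fs U t + fs U t') - ι' I₀ U.1 (fb U t + fb U t') = _
    rw [map_add, map_add]
    show _ = (φ.app U.1 (fs U t) - ι' I₀ U.1 (fb U t)) + (φ.app U.1 (fs U t') - ι' I₀ U.1 (fb U t'))
    exact add_sub_add_comm _ _ _ _
  have hlin : ∀ (U : X.affineOpens) t (R : Γ(XA x (Art.dual k k), (W x _ U).1)) t',
      HilbMod.el P U t' = R * HilbMod.el P U t → f U t' = rho x _ U R • f U t := by
    intro U t R t' h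
    obtain ⟨q, hq⟩ := exists_pair x U R
    let r := rho x (Art.dual k k) U R
    let a := OmegaSh.idealSect I₀ U.1 (fs U t)
    rw [hval U t' (r • fs U t) (r * fb U t + q * a) (by
      rw [h, hf, OmegaLib.idealSect_smul, ← mul_pair x U, ← hq])]
    show _ = r • (φ.app U.1 (fs U t) - ι' I₀ U.1 (fb U t))
    rw [smul_sub, Scheme.Modules.Hom.app_smul]
    congr 1
    have h0 : ι' I₀ U.1 (q * a) = 0 := by
      rw [← map_zero (ι' I₀ U.1), app_eq_iff, sub_zero]
      exact Ideal.mul_mem_left _ _ (OmegaLib.idealSect_mem I₀ U _)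
    rw [map_add, h0, add_zero]
    exact ι'_mul I₀ _ _ _
  obtain ⟨θ, hθ⟩ := FamilyHom.exists_hom_of_family (fun U => AddMonoidHom.mk' (f U) (hadd U))
    (fun U V hV t => by
      show (ClSub.quotMod I₀).presheaf.map (homOfLE hV).op (f U t) = f V ((HilbMod.G P).presheaf.map (homOfLE hV).op t)
      rw [hval V _ ((ClSub.idealMod I₀).presheaf.map (homOfLE hV).op (fs U t)) (X.presheaf.map (homOfLE hV).op (fb U t))
        (by rw [HilbMod.el_map, hf, pair_map, OmegaLib.idealSect_map I₀ hV]), HilbMod.app_map]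
      show (ClSub.quotMod I₀).presheaf.map (homOfLE hV).op (φ.app U.1 (fs U t) - ι' I₀ U.1 (fb U t)) = _
      rw [map_sub]
      congr 1
      exact ι'_map I₀ hV _)
    (fun U r t => by
      show f U (r • t) = r • f U t
      rw [hlin U t (fstPull x _ U r) (r • t) (HilbMod.el_smul P U r t), rho_fst])
  obtain ⟨I, hI⟩ := HilbIdeal.exists_ideal P I₀ θ fun U s R s' h => by
    rw [hθ, hθ]
    exact hlin U s R s' h
  have hI' : ∀ (U : X.affineOpens) s b, pair x U (OmegaSh.idealSect I₀ U.1 s) b ∈ I.ideal (W x _ U) ↔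
      φ.app U.1 s = ι' I₀ U.1 b := by
    intro U s b
    rw [hI]
    obtain ⟨t, ht⟩ := HilbMod.exists_el P U (pair x U (OmegaSh.idealSect I₀ U.1 s) b)
      ((hP U _).2 (by rw [rho_pair]; exact OmegaLib.idealSect_mem I₀ U s))
    constructor
    · rintro ⟨t', ht', h0⟩
      rw [hθ] at h0
      exact sub_eq_zero.1 ((hval U t' s b ht').symm.trans h0)
    · intro h
      exact ⟨t, ht, by rw [hθ]; exact (hval U t s b ht).trans (sub_eq_zero.2 h)⟩
  have hlift : ∀ (U : X.affineOpens) s, ∃ b, pair x U (OmegaSh.idealSect I₀ U.1 s) b ∈ I.ideal (W x _ U) := by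
    intro U s
    obtain ⟨b, hb⟩ := I₀.subschemeι.app_surjective U.1 U.2 (φ.app U.1 s)
    exact ⟨b, (hI' U s b).2 hb.symm⟩
  have hρ : ∀ U, (I.ideal (W x _ U)).map (rho x _ U) = I₀.ideal U := by
    intro U
    refine le_antisymm (Ideal.map_le_iff_le_comap.2 fun z hz => ?_) fun a ha => ?_
    · obtain ⟨t, rfl, -⟩ := (hI U z).1 hz
      exact (hP U _).1 (HilbMod.el_mem P U t)
    · obtain ⟨s, rfl⟩ := OmegaLib.exists_of_mem I₀ U a ha
      obtain ⟨b, hb⟩ := hlift U s
      have := Ideal.mem_map_of_mem (rho x (Art.dual k k) U) hb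
      rwa [rho_pair] at this
  refine ⟨⟨I, HilbIdeal.flat_of_ideals I fun U => ?_, Scheme.IdealSheafData.ext (funext fun U => by
    rw [comap_incl_ideal, hρ])⟩, fun U s b h => (hI' U s b).1 h⟩
  letI : Algebra (Art.dual k k) (Γ(XA x (Art.dual k k), (W x _ U).1) ⧸ I.ideal (W x _ U)) :=
    ((Ideal.Quotient.mk _).comp (c x (Art.dual k k) U)).toAlgebra
  show Module.Flat (Art.dual k k) _
  refine AffDefLib.flat_of_principal deps deps_mul_deps (dual_maximalIdeal (k := k) ▸
    IsLocalRing.maximalIdeal.isMaximal _) fun m hm => ?_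
  obtain ⟨z, rfl⟩ := Ideal.Quotient.mk_surjective m
  replace hm : ce x U * z ∈ I.ideal (W x _ U) := Ideal.Quotient.eq_zero_iff_mem.1 hm
  rw [ce_mul_congr x U (rho_fst x _ U (rho x _ U z)).symm] at hm
  have h0 : pair x U (OmegaSh.idealSect I₀ U.1 0) (rho x _ U z) ∈ I.ideal (W x _ U) := by
    rw [map_zero, pair, map_zero, zero_add]
    exact hm
  have h1 := (hI' U 0 _).1 h0
  rw [map_zero, eq_comm, ← map_zero (ι' I₀ U.1), app_eq_iff, sub_zero] at h1
  obtain ⟨w, hw, hρw⟩ := (Ideal.mem_map_iff_of_surjective _ (rho_spec x _ U).1).1 ((hρ U).ge h1)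
  have hk : z - w ∈ RingHom.ker (rho x (Art.dual k k) U) := by rw [RingHom.mem_ker, map_sub, hρw, sub_self]
  rw [ker_rho_dual] at hk
  obtain ⟨t, ht⟩ := Ideal.mem_span_singleton'.1 hk
  refine ⟨Ideal.Quotient.mk _ t, ?_⟩
  show Ideal.Quotient.mk _ z = Ideal.Quotient.mk _ (ce x U) * Ideal.Quotient.mk _ t
  rw [← map_mul, Ideal.Quotient.eq, mul_comm, ht, sub_sub_cancel]
  exact hw

/-- Tangent vectors are maps from the ideal to the quotient. -/
theorem exists_equiv : ∃ e : (localHilb X x I₀).obj (Art.dual k k) ≃ (ClSub.idealMod I₀ ⟶ ClSub.quotMod I₀),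
    ∀ I, Rel I (e I) := by
  choose T hT using fun I : (localHilb X x I₀).obj (Art.dual k k) => exists_rel I
  refine ⟨Equiv.ofBijective T ⟨fun I J h => ?_, fun φ => ?_⟩, hT⟩
  · exact Subtype.ext (HilbAffine.ext_ideal x fun U =>
      le_antisymm (le_of_rel I J (hT I) (h ▸ hT J) U) (le_of_rel J I (h ▸ hT J) (hT I) U))
  · obtain ⟨I, hI⟩ := exists_of_hom (x := x) φ
    exact ⟨I, rel_unique I (hT I) hI⟩

variable (x) in
/-- The action of a scalar multiple of `ε`. -/
theorem c_smul_deps (U : X.affineOpens) (a : k) (w : Γ(XA x (Art.dual k k), (W x _ U).1)) :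
    c x (Art.dual k k) U (algebraMap k (Art.dual k k) a * deps) * w =
      ce x U * fstPull x _ U (k₀ x U a * rho x _ U w) := by
  rw [map_mul, mul_comm (c x (Art.dual k k) U (algebraMap k (Art.dual k k) a)), mul_assoc]
  refine ce_mul_congr x U ?_
  rw [map_mul, rho_fst, rho_c, AlgHom.commutes]
  rfl

theorem pi_mem {B A : Art k k} (p : B ⟶ A) (I : (localHilb X x I₀).obj B) (U : X.affineOpens)
    {z : Γ(XA x B, (W x B U).1)} (hz : z ∈ I.1.ideal (W x B U)) :
    pi x p U z ∈ ((localHilb X x I₀).map p I).1.ideal (W x A U) := by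
  show _ ∈ (I.1.comap (XAmap x p)).ideal (W x A U)
  rw [comap_map_ideal]
  exact Ideal.mem_map_of_mem _ hz

theorem rel_scale (a : k) {I : (localHilb X x I₀).obj (Art.dual k k)} {φ φ' : ClSub.idealMod I₀ ⟶ ClSub.quotMod I₀}
    (h : Rel I φ) (h' : Rel ((localHilb X x I₀).map (Art.scale a) I) φ') (U : X.affineOpens)
    (s : Γ(ClSub.idealMod I₀, U.1)) : φ'.app U.1 s = k₀ x U a • φ.app U.1 s := by
  obtain ⟨b, hb⟩ := exists_rep I U s
  have hd : (Art.scale a : Art.dual k k ⟶ Art.dual k k) deps = algebraMap k (Art.dual k k) a * deps := by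
    have key : ∀ x : k, (TrivSqZeroExt.inr x : DualNumber k) = TrivSqZeroExt.inl x * TrivSqZeroExt.inr 1 :=
      fun x => by rw [TrivSqZeroExt.inl_mul_inr, smul_eq_mul, mul_one]
    refine Eq.trans ?_ (key a)
    exact TrivSqZeroExt.ext rfl (by
      change a • TrivSqZeroExt.snd (DualNumber.eps : DualNumber k) = _
      simp)
  have h1 := pi_mem (Art.scale a) I U hb
  rw [pair, map_add, map_mul, pi_fst, pi_fst, ce, pi_c, hd, c_smul_deps, rho_fst] at h1
  rw [h' U s (k₀ x U a * b) h1, h U s b hb]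
  exact ι'_mul I₀ _ _ _

theorem rel_plus {E : (localHilb X x I₀).obj (Art.dual2 k k)} {φ₁ φ₂ φ : ClSub.idealMod I₀ ⟶ ClSub.quotMod I₀}
    (h₁ : Rel ((localHilb X x I₀).map Art.pr₁ E) φ₁) (h₂ : Rel ((localHilb X x I₀).map Art.pr₂ E) φ₂)
    (h : Rel ((localHilb X x I₀).map Art.plus E) φ) : φ = φ₁ + φ₂ := by
  refine hom_ext_affine fun U s => ?_
  let e₁ : Art.dual2 k k := (TrivSqZeroExt.inr ((1, 0) : k × k) : TrivSqZeroExt k (k × k))
  let e₂ : Art.dual2 k k := (TrivSqZeroExt.inr ((0, 1) : k × k) : TrivSqZeroExt k (k × k))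
  obtain ⟨z, hz, hρ⟩ := (Ideal.mem_map_iff_of_surjective _ (rho_spec x (Art.dual2 k k) U).1).1
    ((show (E.1.ideal (W x _ U)).map (rho x (Art.dual2 k k) U) = I₀.ideal U by
      rw [← comap_incl_ideal, E.2.2]).ge (OmegaLib.idealSect_mem I₀ U s))
  have hk : z - fstPull x _ U (OmegaSh.idealSect I₀ U.1 s) ∈ RingHom.ker (rho x (Art.dual2 k k) U) := by
    rw [RingHom.mem_ker, map_sub, rho_fst, hρ, sub_self]
  have hmax : IsLocalRing.maximalIdeal (Art.dual2 k k) ≤ Ideal.span {e₁, e₂} := by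
    intro d hd
    rw [Art.mem_maximalIdeal_iff] at hd
    have key : ∀ d : TrivSqZeroExt k (k × k), TrivSqZeroExt.fst d = 0 →
        TrivSqZeroExt.inl (TrivSqZeroExt.snd d).1 * TrivSqZeroExt.inr ((1, 0) : k × k) +
          TrivSqZeroExt.inl (TrivSqZeroExt.snd d).2 * TrivSqZeroExt.inr ((0, 1) : k × k) = d := fun d hd => by
      refine TrivSqZeroExt.ext ?_ ?_
      · simp [hd]
      · simp
    exact Ideal.mem_span_pair.2 ⟨_, _, key d hd⟩
  rw [(rho_spec x _ U).2] at hk
  replace hk := Ideal.map_mono hmax hk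
  rw [Ideal.map_span, Set.image_pair, Ideal.mem_span_pair] at hk
  obtain ⟨p, q, hpq⟩ := hk
  have hg : ∀ (L : k × k →ₗ[k] k) (g : Art.dual2 k k ⟶ Art.dual k k), g.toAlgHom = Art.tszeMap (Λ := k) L →
      ∀ ψ, Rel ((localHilb X x I₀).map g E) ψ → ψ.app U.1 s =
        ι' I₀ U.1 (k₀ x U (L (1, 0)) * rho x _ U p + k₀ x U (L (0, 1)) * rho x _ U q) := by
    intro L g hgL ψ hψ
    have he : ∀ v : k × k, g (TrivSqZeroExt.inr v : TrivSqZeroExt k (k × k)) =
        algebraMap k (Art.dual k k) (L v) * deps := fun v => by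
      rw [show g (TrivSqZeroExt.inr v : TrivSqZeroExt k (k × k)) = (TrivSqZeroExt.inr (L v) : DualNumber k) from
        (DFunLike.congr_fun hgL _).trans (TrivSqZeroExt.ext rfl rfl)]
      have key : ∀ a : k, (TrivSqZeroExt.inr a : DualNumber k) = TrivSqZeroExt.inl a * TrivSqZeroExt.inr 1 :=
        fun a => by rw [TrivSqZeroExt.inl_mul_inr, smul_eq_mul, mul_one]
      exact key (L v)
    refine hψ U s _ ?_
    have h1 := pi_mem g E U hz
    rw [show z = fstPull x _ U (OmegaSh.idealSect I₀ U.1 s) + (p * c x _ U e₁ + q * c x _ U e₂) by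
      rw [hpq]; ring, map_add, map_add, map_mul, map_mul, pi_fst, pi_c, pi_c, he, he, mul_comm (pi x g U p),
      mul_comm (pi x g U q), c_smul_deps, c_smul_deps, rho_pi, rho_pi] at h1
    rw [pair, map_add, mul_add]
    exact h1
  show φ.app U.1 s = φ₁.app U.1 s + φ₂.app U.1 s
  rw [hg (LinearMap.fst k k k) Art.pr₁ rfl φ₁ h₁, hg (LinearMap.snd k k k) Art.pr₂ rfl φ₂ h₂,
    hg (LinearMap.fst k k k + LinearMap.snd k k k) Art.plus rfl φ h]
  refine Eq.trans ?_ (map_add (ι' I₀ U.1) _ _)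
  refine congrArg _ ?_
  simp only [LinearMap.fst_apply, LinearMap.snd_apply, LinearMap.add_apply, add_zero, zero_add, map_one, map_zero,
    one_mul, zero_mul]

variable [X.Over (Spec (CommRingCat.of k))]

/-- The tangent space of the local Hilbert functor. -/
theorem nonempty_tangentSpace_linearEquiv (I₀ : X.IdealSheafData)
    [TangentStr (localHilb X (X ↘ Spec (CommRingCat.of k)) I₀)] :
    Nonempty (TangentSpace (localHilb X (X ↘ Spec (CommRingCat.of k)) I₀) ≃ₗ[k]
      (ClSub.idealMod I₀ ⟶ ClSub.quotMod I₀)) := by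
  obtain ⟨e, he⟩ := exists_equiv (x := X ↘ Spec (CommRingCat.of k)) (I₀ := I₀)
  let F := localHilb X (X ↘ Spec (CommRingCat.of k)) I₀
  let f : TangentSpace F → (ClSub.idealMod I₀ ⟶ ClSub.quotMod I₀) := fun v => e v.val
  refine ⟨LinearEquiv.ofBijective { toFun := f, map_add' := fun v w => ?_, map_smul' := fun a v => ?_ } e.bijective⟩
  · obtain ⟨z, hz⟩ := (HilbLeftExact.bijective_cmp I₀ Art.pr₁ Art.pr₂ (Art.toBase (Art.dual k k))
      (Art.toBase (Art.dual k k)) Art.isFibreProd_dual2).2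
      ⟨(v.val, w.val), (HilbLeftExact.h0 (X ↘ Spec (CommRingCat.of k)) I₀).2.elim _ _⟩
    have e1 : F.map Art.pr₁ z = v.val := congrArg (fun q => q.1.1) hz
    have e2 : F.map Art.pr₂ z = w.val := congrArg (fun q => q.1.2) hz
    have hadd : (v + w).val = F.map Art.plus z := by
      rw [← TangentStr.add_eq (F := F) z, e1, e2]
      rfl
    show e (v + w).val = e v.val + e w.val
    rw [hadd, ← e1, ← e2]
    exact rel_plus (he _) (he _) (he _)
  · have hsm : (a • v).val = F.map (Art.scale a) v.val := TangentStr.smul_eq (F := F) a v.val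
    show e (a • v).val = a • e v.val
    rw [hsm]
    refine hom_ext_affine fun U s => ?_
    rw [rel_scale a (he v.val) (he _) U s, KLin.smul_app_apply]
    rfl

end Groth.Agent.ArtFunLib.HilbTangent
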