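import Groth.Agent.ArtFunLib.Tangent

/-! Smoothness criteria for natural maps between functors of Artin rings. -/

universe u v w

open CategoryTheory ArtFun ArtFun.Art

namespace Groth.Agent.ArtFunLib

variable {Λ : Type u} {k : Type u} [CommRing Λ] [Field k] [Algebra Λ k]

section HomFunctor

variable {R : Type u} [CommRing R] [Algebra Λ R] {resR : R →ₐ[Λ] k}

/-- Pair two augmented maps into a fibre product. -/
noncomputable def homPair {B A A' A'' : Art Λ k} {p' : B ⟶ A'} {p'' : B ⟶ A''} {f' : A' ⟶ A}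
    {f'' : A'' ⟶ A} (h : IsFibreProd p' p'' f' f'') (φ' : HomSet R resR A') (φ'' : HomSet R resR A'')
    (e : HomSet.map f' φ' = HomSet.map f'' φ'') : HomSet R resR B :=
  ⟨fibLiftAlg h φ'.1 φ''.1 (fun c => congrArg (fun φ : HomSet R resR A => φ.1 c) e), by
    refine AlgHom.ext fun c => ?_
    rw [AlgHom.comp_apply, ← res_app p',
      fibLiftAlg_fst h φ'.1 φ''.1 (fun c => congrArg (fun φ : HomSet R resR A => φ.1 c) e) c]
    exact congrArg (fun φ : R →ₐ[Λ] k => φ c) φ'.2⟩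

theorem homPair_fst {B A A' A'' : Art Λ k} {p' : B ⟶ A'} {p'' : B ⟶ A''} {f' : A' ⟶ A}
    {f'' : A'' ⟶ A} (h : IsFibreProd p' p'' f' f'') (φ' : HomSet R resR A') (φ'' : HomSet R resR A'')
    (e : HomSet.map f' φ' = HomSet.map f'' φ'') : HomSet.map p' (homPair h φ' φ'' e) = φ' :=
  Subtype.ext (AlgHom.ext fun c =>
    fibLiftAlg_fst h φ'.1 φ''.1 (fun c => congrArg (fun φ : HomSet R resR A => φ.1 c) e) c)

theorem homPair_snd {B A A' A'' : Art Λ k} {p' : B ⟶ A'} {p'' : B ⟶ A''} {f' : A' ⟶ A}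
    {f'' : A'' ⟶ A} (h : IsFibreProd p' p'' f' f'') (φ' : HomSet R resR A') (φ'' : HomSet R resR A'')
    (e : HomSet.map f' φ' = HomSet.map f'' φ'') : HomSet.map p'' (homPair h φ' φ'' e) = φ'' :=
  Subtype.ext (AlgHom.ext fun c =>
    fibLiftAlg_snd h φ'.1 φ''.1 (fun c => congrArg (fun φ : HomSet R resR A => φ.1 c) e) c)

/-- The point of `h_R(k)`. -/
def baseHom (resR : R →ₐ[Λ] k) : HomSet R resR (base Λ k) := ⟨resR, AlgHom.id_comp _⟩

theorem eq_baseHom (φ : HomSet R resR (base Λ k)) : φ = baseHom resR :=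
  Subtype.ext ((AlgHom.id_comp φ.1).symm.trans φ.2)

variable (R resR)

theorem hR_h0 : H0 (hR R resR) :=
  ⟨⟨baseHom resR⟩, ⟨fun a b => (eq_baseHom a).trans (eq_baseHom b).symm⟩⟩

theorem hR_isLeftExact : IsLeftExact (hR R resR) := by
  intro B A A' A'' p' p'' f' f'' h
  constructor
  · intro z₁ z₂ e
    refine Subtype.ext (AlgHom.ext fun c => h.inj _ _ ?_ ?_)
    · exact congrArg (fun φ : HomSet R resR A' => φ.1 c) (congrArg (fun t => t.1.1) e)
    · exact congrArg (fun φ : HomSet R resR A'' => φ.1 c) (congrArg (fun t => t.1.2) e)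
  · rintro ⟨⟨φ', φ''⟩, e⟩
    exact ⟨homPair h φ' φ'' e, FibProd.ext (homPair_fst h φ' φ'' e) (homPair_snd h φ' φ'' e)⟩

theorem hR_heps : Heps (hR R resR) := fun _ _ p' p'' h => hR_isLeftExact R resR p' p'' _ _ h

theorem hR_hbar : Hbar (hR R resR) :=
  fun _ _ _ _ p' p'' f' f'' h _ => (hR_isLeftExact R resR p' p'' f' f'' h).2

end HomFunctor

section NatMap

variable {F : Art Λ k ⥤ Type w} {G : Art Λ k ⥤ Type v} (η : ∀ A, F.obj A → G.obj A)

/-- The lifting property defining smoothness, for one morphism. -/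
def LiftsAt {B A : Art Λ k} (μ : B ⟶ A) : Prop :=
  ∀ (x : F.obj A) (y : G.obj B), η A x = G.map μ y → ∃ z, F.map μ z = x ∧ η B z = y

/-- Weak lifting: the source lifts as soon as its image does. -/
def WeakLiftsAt {B A : Art Λ k} (μ : B ⟶ A) : Prop :=
  ∀ (x : F.obj A) (y : G.obj B), η A x = G.map μ y → ∃ z, F.map μ z = x

variable {η} (hη : ∀ ⦃A B : Art Λ k⦄ (f : A ⟶ B) (x : F.obj A), η B (F.map f x) = G.map f (η A x))

include hη in
theorem liftsAt_of_isIso {B A : Art Λ k} (μ : B ⟶ A) [IsIso μ] : LiftsAt η μ := by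
  intro x y e
  obtain ⟨z, hz⟩ := (map_bijective_of_isIso F μ).2 x
  exact ⟨z, hz, (map_bijective_of_isIso G μ).1 (by rw [← hη, hz, e])⟩

theorem liftsAt_comp {C B A : Art Λ k} (p : C ⟶ B) (q : B ⟶ A) (h₁ : LiftsAt η p) (h₂ : LiftsAt η q) :
    LiftsAt η (p ≫ q) := by
  intro x y e
  rw [map_comp'] at e
  obtain ⟨z, hz, hz'⟩ := h₂ x (G.map p y) e
  obtain ⟨w, hw, hw'⟩ := h₁ z y hz'
  exact ⟨w, by rw [map_comp', hw, hz], hw'⟩

variable [IsNoetherianRing Λ] [Module.Finite Λ k]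

include hη in
theorem liftsAt_of_small (h : ∀ ⦃A B : Art Λ k⦄ (μ : B ⟶ A), IsSmallExt μ → LiftsAt η μ)
    ⦃A B : Art Λ k⦄ (μ : B ⟶ A) (hμ : Function.Surjective μ) : LiftsAt η μ :=
  surjective_induction (fun _ _ μ => LiftsAt η μ) (fun _ _ μ _ => liftsAt_of_isIso hη μ) h
    (fun _ _ _ p q _ _ => liftsAt_comp p q) μ hμ

include hη in
/-- Surjectivity on tangent spaces promotes weak lifting to lifting. -/
theorem liftsAt_small_of_weak (hF0 : H0 F) (hF2 : Heps F) (hG1 : Hbar G) (hG2 : Heps G)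
    (hd : Function.Surjective (η (dual Λ k))) {B A : Art Λ k} (μ : B ⟶ A) (hμ : IsSmallExt μ)
    (hw : WeakLiftsAt η μ) : LiftsAt η μ := by
  intro x y e
  obtain ⟨z₀, hz₀⟩ := hw x y e
  have ey : G.map μ (η B z₀) = G.map μ y := by rw [← hη, hz₀, e]
  obtain ⟨t, ht⟩ := hμ.2.2.1
  rw [Ideal.submodule_span_eq] at ht
  obtain ⟨P, p₁, p₂, hP⟩ := exists_isFibreProd μ μ hμ.1
  obtain ⟨g, -, -, hg⟩ := exists_diff μ hμ t ht p₁ p₂ hP
  obtain ⟨w, hw₁, hw₂⟩ := exists_of_cmp_surjective (hG1 p₁ p₂ μ μ hP hμ) (η B z₀) y ey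
  obtain ⟨τ, hτ⟩ := hd (G.map g w)
  obtain ⟨v, hv₁, hv₂⟩ := exists_of_cmp_surjective (hF2 p₁ g hg).2 z₀ τ (map_toBase_eq hF0 z₀ τ)
  have hvw : η P v = w := by
    refine cmp_ext (hG2 p₁ g hg).1 ?_ ?_
    · rw [← hη, hv₁, hw₁]
    · rw [← hη, hv₂, hτ]
  refine ⟨F.map p₂ v, ?_, ?_⟩
  · rw [← map_comp', ← hP.w, map_comp', hv₁, hz₀]
  · rw [hη, hvw, hw₂]

/-- Fibres of `η` over a fixed element are singletons, for one morphism. -/
def SepAt (η : ∀ A, F.obj A → G.obj A) {B A : Art Λ k} (μ : B ⟶ A) : Prop :=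
  ∀ y₁ y₂ : F.obj B, F.map μ y₁ = F.map μ y₂ → η B y₁ = η B y₂ → y₁ = y₂

include hη in
theorem sepAt_small (hF1 : Hbar F) (hF2 : Heps F) (hG4 : HSq G)
    (hd : Function.Injective (η (dual Λ k))) {B A : Art Λ k} (μ : B ⟶ A) (hμ : IsSmallExt μ) :
    SepAt η μ := by
  intro y₁ y₂ e e'
  obtain ⟨t, ht⟩ := hμ.2.2.1
  rw [Ideal.submodule_span_eq] at ht
  obtain ⟨P, p₁, p₂, hP⟩ := exists_isFibreProd μ μ hμ.1
  obtain ⟨g, -, -, hg⟩ := exists_diff μ hμ t ht p₁ p₂ hP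
  obtain ⟨w, hw₁, hw₂⟩ := exists_of_cmp_surjective (hF1 p₁ p₂ μ μ hP hμ) y₁ y₂ e
  let Δ : B ⟶ P := fibLift hP (𝟙 B) (𝟙 B) rfl
  have h : η P w = η P (F.map Δ y₁) := by
    refine cmp_ext (hG4 p₁ p₂ μ hP hμ).1 ?_ ?_
    · rw [← hη, ← hη, hw₁, ← map_comp', fibLift_fst, map_id']
    · rw [← hη, ← hη, hw₂, ← map_comp', fibLift_snd, map_id', e']
  have hwΔ : w = F.map Δ y₁ := by
    refine cmp_ext (hF2 p₁ g hg).1 ?_ (hd ?_)
    · rw [hw₁, ← map_comp', fibLift_fst, map_id']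
    · rw [hη, hη, h]
  rw [← hw₂, hwΔ, ← map_comp', fibLift_snd, map_id']

include hη in
theorem sepAt_of_small (h : ∀ ⦃A B : Art Λ k⦄ (μ : B ⟶ A), IsSmallExt μ → SepAt η μ)
    ⦃A B : Art Λ k⦄ (μ : B ⟶ A) (hμ : Function.Surjective μ) : SepAt η μ := by
  refine surjective_induction (fun _ _ μ => SepAt η μ)
    (fun _ _ μ _ _ _ e _ => (map_bijective_of_isIso F μ).1 e) h ?_ μ hμ
  intro A B C p q _ _ hp hq y₁ y₂ e e'
  rw [map_comp', map_comp'] at e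
  exact hp _ _ (hq _ _ e (by rw [hη, hη, e'])) e'

end NatMap

section Rel

variable {F G : Art Λ k ⥤ Type v}

theorem isSmooth_iff_liftsAt (η : F ⟶ G) : IsSmooth η ↔
    ∀ ⦃B A : Art Λ k⦄ (μ : B ⟶ A), Function.Surjective μ → LiftsAt (fun A => η.app A) μ := by
  constructor
  · intro h B A μ hμ x y e
    obtain ⟨z, hz⟩ := h μ hμ ⟨(x, y), e⟩
    exact ⟨z, congrArg (fun t => t.1.1) hz, congrArg (fun t => t.1.2) hz⟩
  · intro h B A μ hμ
    rintro ⟨⟨x, y⟩, e⟩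
    obtain ⟨z, hz, hz'⟩ := h μ hμ x y e
    exact ⟨z, Subtype.ext (Prod.ext hz hz')⟩

theorem natural_app (η : F ⟶ G) ⦃A B : Art Λ k⦄ (f : A ⟶ B) (x : F.obj A) :
    η.app B (F.map f x) = G.map f (η.app A x) := NatTrans.naturality_apply η f x

theorem surjective_app_of_isSmooth (η : F ⟶ G) (h : IsSmooth η)
    (h0 : Function.Surjective (η.app (base Λ k))) (A : Art Λ k) : Function.Surjective (η.app A) := by
  intro y
  obtain ⟨x, hx⟩ := h0 (G.map (toBase A) y)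
  obtain ⟨z, -, hz⟩ := (isSmooth_iff_liftsAt η).1 h (toBase A) A.res_surjective x y hx
  exact ⟨z, hz⟩

end Rel

section Versal

variable {R : Type u} [CommRing R] [Algebra Λ R] {resR : R →ₐ[Λ] k} {F : Art Λ k ⥤ Type v}

theorem family_natural (ξ : Family R resR F) ⦃A B : Art Λ k⦄ (f : A ⟶ B) (φ : (hR R resR).obj A) :
    ξ.app B ((hR R resR).map f φ) = F.map f (ξ.app A φ) := ξ.natural f φ

theorem isVersal_iff_liftsAt (ξ : Family R resR F) : IsVersal ξ ↔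
    ∀ ⦃B A : Art Λ k⦄ (μ : B ⟶ A), Function.Surjective μ → LiftsAt (F := hR R resR) ξ.app μ :=
  ⟨fun h _ _ μ hμ φ y e => h μ hμ φ y e.symm, fun h _ _ μ hμ φ y e => h μ hμ φ y e.symm⟩

theorem surjective_app_of_isVersal {ξ : Family R resR F} (hξ : IsVersal ξ) (h0 : H0 F)
    (A : Art Λ k) : Function.Surjective (ξ.app A) := by
  intro y
  obtain ⟨ψ, -, hψ⟩ := hξ (toBase A) A.res_surjective (baseHom resR) y (@Subsingleton.elim _ h0.2 _ _)
  exact ⟨ψ, hψ⟩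

theorem h0_of_surjective (ξ : Family R resR F) (hs : Function.Surjective (ξ.app (base Λ k))) :
    H0 F := by
  refine ⟨⟨ξ.app _ (baseHom resR)⟩, ⟨fun a b => ?_⟩⟩
  obtain ⟨φ, rfl⟩ := hs a
  obtain ⟨ψ, rfl⟩ := hs b
  rw [eq_baseHom φ, eq_baseHom ψ]

theorem s1_of_versal {ξ : Family R resR F} (hξ : IsVersal ξ) (hs : ∀ A, Function.Surjective (ξ.app A)) :
    S1 F := by
  intro B A A' A'' p' p'' f' f'' h hf
  rintro ⟨⟨x', x''⟩, e⟩
  obtain ⟨φ', rfl⟩ := hs A' x'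
  obtain ⟨φ'', h1, h2⟩ := hξ f'' hf (HomSet.map f' φ') x'' (by rw [ξ.natural]; exact e.symm)
  refine ⟨ξ.app B (homPair h φ' φ'' h1.symm), FibProd.ext ?_ ?_⟩
  · change F.map p' _ = _
    rw [← ξ.natural, homPair_fst]
  · change F.map p'' _ = _
    rw [← ξ.natural, homPair_snd, h2]

theorem heps_of_miniversal {ξ : Family R resR F} (hξ : IsMiniversal ξ)
    (hs : ∀ A, Function.Surjective (ξ.app A)) : Heps F := by
  intro B A' p' p'' h
  refine ⟨fun z₁ z₂ e => ?_, s1_of_versal hξ.1 hs p' p'' _ _ h (toBase_surjective _)⟩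
  have e' : F.map p' z₁ = F.map p' z₂ := congrArg (fun t => t.1.1) e
  have e'' : F.map p'' z₁ = F.map p'' z₂ := congrArg (fun t => t.1.2) e
  have hp' := fst_surjective h (toBase_surjective _)
  obtain ⟨φ, hφ⟩ := hs A' (F.map p' z₁)
  obtain ⟨ψ₁, h11, h12⟩ := hξ.1 p' hp' φ z₁ hφ.symm
  obtain ⟨ψ₂, h21, h22⟩ := hξ.1 p' hp' φ z₂ (e'.symm.trans hφ.symm)
  have hψ : ψ₁ = ψ₂ := by
    refine Subtype.ext (AlgHom.ext fun c => h.inj _ _ ?_ ?_)
    · exact congrArg (fun φ : HomSet R resR A' => φ.1 c) (h11.trans h21.symm)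
    · refine congrArg (fun φ : HomSet R resR (dual Λ k) => φ.1 c)
        (hξ.2.1 (a₁ := HomSet.map p'' ψ₁) (a₂ := HomSet.map p'' ψ₂) ?_)
      rw [ξ.natural, ξ.natural, h12, h22, e'']
  rw [← h12, ← h22, hψ]

theorem isVersal_iff_tangent [IsNoetherianRing Λ] [Module.Finite Λ k] (ξ : Family R resR F)
    (h0 : H0 F) (h1 : Hbar F) (h2 : Heps F) :
    IsVersal ξ ↔ (Function.Surjective (ξ.app (dual Λ k)) ∧
      ∀ ⦃B A : Art Λ k⦄ (μ : B ⟶ A), IsSmallExt μ →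
        ∀ (φ : HomSet R resR A) (y : F.obj B), F.map μ y = ξ.app A φ →
          ∃ ψ : HomSet R resR B, HomSet.map μ ψ = φ) := by
  constructor
  · intro h
    exact ⟨surjective_app_of_isVersal h h0 _, fun B A μ hμ φ y e =>
      (h μ hμ.1 φ y e).imp fun ψ hψ => hψ.1⟩
  · rintro ⟨hd, hw⟩
    rw [isVersal_iff_liftsAt]
    intro B A μ hμ
    refine liftsAt_of_small (family_natural ξ) (fun A B μ hμ => ?_) μ hμ
    exact liftsAt_small_of_weak (family_natural ξ) (hR_h0 R resR) (hR_heps R resR) h1 h2 hd μ hμ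
      fun φ y e => hw μ hμ φ y e.symm

end Versal

end Groth.Agent.ArtFunLib
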