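import Groth.Agent.ArtFunLib.Essential
import Groth.Agent.ArtFunLib.Smooth
import Groth.Agent.PSLib.Regular
import Groth.Prelude.Def_ArtFun3
import Mathlib.LinearAlgebra.Contraction

/-!
# The obstruction theory of `h_R` from a presentation by a smooth algebra
-/

set_option autoImplicit false

universe u v

open CategoryTheory ArtFun IsLocalRing TensorProduct

namespace Groth.Agent.ArtFunLib.ObsHR

variable {k : Type u} [Field k] {B : Type u} [CommRing B] [IsLocalRing B] [Algebra k B]
variable {R : Type u} [CommRing R] [Algebra k R] {resR : R →ₐ[k] k} {resB : B →ₐ[k] k}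

theorem res_eq_zero_iff (x : B) : resB x = 0 ↔ x ∈ maximalIdeal B := by
  have hsurj : Function.Surjective resB := fun c => ⟨algebraMap k B c, resB.commutes c⟩
  rw [← IsLocalRing.eq_maximalIdeal (RingHom.ker_isMaximal_of_surjective (resB : B →+* k) hsurj)]
  exact Iff.rfl

/-- Two lifts agree on the square of the maximal ideal. -/
theorem lifts_eq_on_sq {C' C : Art k k} {p : C' ⟶ C} (hp : Art.IsSemismallExt p) (ψ ψ' : HomSet B resB C')
    (h : ∀ b, p (ψ.1 b) = p (ψ'.1 b)) : ∀ x ∈ maximalIdeal B ^ 2, ψ.1 x = ψ'.1 x := by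
  intro x hx
  rw [sq] at hx
  refine Submodule.mul_induction_on hx (fun a ha b hb => ?_) fun a b ha hb => by rw [map_add, map_add, ha, hb]
  have hm : ∀ (χ : HomSet B resB C') (y : B), y ∈ maximalIdeal B → χ.1 y ∈ maximalIdeal C' := fun χ y hy => by
    rw [Art.mem_maximalIdeal_iff]
    exact (congr($(χ.2) y)).trans ((res_eq_zero_iff y).2 hy)
  have hk : ∀ y, ψ.1 y - ψ'.1 y ∈ RingHom.ker p.toAlgHom := fun y => by
    rw [RingHom.mem_ker, map_sub, sub_eq_zero]; exact h y
  have e1 : ψ.1 a * (ψ.1 b - ψ'.1 b) = 0 := by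
    rw [← Ideal.mem_bot, ← hp.2]
    exact Ideal.mul_mem_mul (hm ψ a ha) (hk b)
  have e2 : ψ'.1 b * (ψ.1 a - ψ'.1 a) = 0 := by
    rw [← Ideal.mem_bot, ← hp.2]
    exact Ideal.mul_mem_mul (hm ψ' b hb) (hk a)
  rw [map_mul, map_mul, ← sub_eq_zero]
  linear_combination e1 + e2

variable (π : B →ₐ[k] R) (hπ : resR.comp π = resB)

/-- The space `J/mJ` of relations. -/
abbrev Rel := ↥(RingHom.ker π) ⧸ (maximalIdeal B • (⊤ : Submodule B ↥(RingHom.ker π)))

theorem finite_rel [IsNoetherianRing B] (resB : B →ₐ[k] k) : Module.Finite k (Rel π) := by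
  haveI : Module.Finite B ↥(RingHom.ker π) := Module.Finite.iff_fg.2 (IsNoetherian.noetherian _)
  obtain ⟨s, hs⟩ := (Module.Finite.fg_top : (⊤ : Submodule B (Rel π)).FG)
  refine ⟨⟨s, top_le_iff.1 fun y h => ?_⟩⟩
  clear h
  have hy : y ∈ Submodule.span B (s : Set (Rel π)) := hs ▸ Submodule.mem_top
  induction hy using Submodule.span_induction with
  | mem z hz => exact Submodule.subset_span hz
  | zero => exact Submodule.zero_mem _
  | add a b _ _ ha hb => exact Submodule.add_mem _ ha hb
  | smul b z _ hz =>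
    have e : b • z = resB b • z := by
      obtain ⟨z, rfl⟩ := Submodule.Quotient.mk_surjective _ z
      rw [← Submodule.Quotient.mk_smul, ← Submodule.Quotient.mk_smul, Submodule.Quotient.eq]
      have e2 : b • z - resB b • z = (b - algebraMap k B (resB b)) • z := by
        rw [sub_smul, IsScalarTower.algebraMap_smul]
      rw [e2]
      refine Submodule.smul_mem_smul ((res_eq_zero_iff (resB := resB) _).1 ?_) trivial
      rw [map_sub, AlgHom.commutes]
      exact sub_self _
    rw [e]
    exact Submodule.smul_mem _ _ hz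

/-- The obstruction map `J/mJ → ker p` of a lift. -/
noncomputable def obsMap {C' C : Art k k} (p : C' ⟶ C) (hp : Art.IsSemismallExt p) (φ : HomSet R resR C)
    (ψ : HomSet B resB C') (hψ : ∀ b, p (ψ.1 b) = φ.1 (π b)) : Rel π →ₗ[k] ↥(RingHom.ker p.toAlgHom) where
  toFun := QuotientAddGroup.lift (maximalIdeal B • (⊤ : Submodule B ↥(RingHom.ker π))).toAddSubgroup
    { toFun := fun x => (⟨ψ.1 x.1, by
        rw [RingHom.mem_ker]; exact (hψ x.1).trans ((congrArg φ.1 (RingHom.mem_ker.1 x.2)).trans (map_zero _))⟩ :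
          ↥(RingHom.ker p.toAlgHom))
      map_zero' := Subtype.ext (map_zero _)
      map_add' := fun x y => Subtype.ext (map_add ψ.1 x.1 y.1) } (fun x hx => by
      refine Submodule.smul_induction_on hx (fun b hb z _ => Subtype.ext ?_)
        fun a b ha hb => by rw [AddMonoidHom.mem_ker] at ha hb ⊢; rw [map_add, ha, hb, add_zero]
      show ψ.1 (b * z.1) = 0
      rw [map_mul, ← Ideal.mem_bot, ← hp.2]
      refine Ideal.mul_mem_mul ?_ ?_
      · rw [Art.mem_maximalIdeal_iff]
        exact (congr($(ψ.2) b)).trans ((res_eq_zero_iff b).2 hb)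
      · rw [RingHom.mem_ker]
        exact (hψ z.1).trans ((congrArg φ.1 (RingHom.mem_ker.1 z.2)).trans (map_zero _)))
  map_add' := map_add _
  map_smul' c z := by
    obtain ⟨z, rfl⟩ := Submodule.Quotient.mk_surjective _ z
    exact Subtype.ext (map_smul ψ.1 c z.1)

theorem obsMap_mk {C' C : Art k k} (p : C' ⟶ C) (hp : Art.IsSemismallExt p) (φ : HomSet R resR C)
    (ψ : HomSet B resB C') (hψ : ∀ b, p (ψ.1 b) = φ.1 (π b)) (z : ↥(RingHom.ker π)) :
    (obsMap π p hp φ ψ hψ (Submodule.Quotient.mk z)).1 = ψ.1 z.1 := rfl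

theorem obsMap_congr {C' C : Art k k} (p : C' ⟶ C) (hp : Art.IsSemismallExt p) (φ : HomSet R resR C)
    (ψ ψ' : HomSet B resB C') (hψ : ∀ b, p (ψ.1 b) = φ.1 (π b)) (hψ' : ∀ b, p (ψ'.1 b) = φ.1 (π b))
    (hJ : RingHom.ker π ≤ maximalIdeal B ^ 2) :
    obsMap π p hp φ ψ hψ = obsMap π p hp φ ψ' hψ' := by
  refine LinearMap.ext fun z => ?_
  obtain ⟨z, rfl⟩ := Submodule.Quotient.mk_surjective _ z
  exact Subtype.ext (lifts_eq_on_sq hp ψ ψ' (fun b => (hψ b).trans (hψ' b).symm) z.1 (hJ z.2))

include hπ in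
/-- The obstruction theory. -/
theorem hasObsTheory [IsNoetherianRing B] (hs : IsSmoothFunctor (hR B resB)) (hsurj : Function.Surjective π)
    (hJ : RingHom.ker π ≤ maximalIdeal B ^ 2) :
    HasObsTheory (hR R resR) (Module.Dual k (Rel π)) := by
  haveI := finite_rel π resB
  have hlift : ∀ {C' C : Art k k} (p : C' ⟶ C), Art.IsSemismallExt p → ∀ φ : HomSet R resR C,
      ∃ ψ : HomSet B resB C', ∀ b, p (ψ.1 b) = φ.1 (π b) := fun {C' C} p hp φ => by
    obtain ⟨ψ, hψ⟩ := hs p hp.1 (⟨φ.1.comp π, by rw [← AlgHom.comp_assoc, φ.2, hπ]⟩ : HomSet B resB C)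
    exact ⟨ψ, fun b => congr($(congrArg Subtype.val hψ) b)⟩
  choose lift hlift' using fun (C' C : Art k k) (p : C' ⟶ C) (hp : Art.IsSemismallExt p) (φ : HomSet R resR C) =>
    hlift p hp φ
  refine ⟨{ obs := fun {C' C} p hp φ =>
              (dualTensorHomEquiv k (Rel π) ↥(RingHom.ker p.toAlgHom)).symm
                (obsMap π p hp φ (lift C' C p hp φ) (hlift' C' C p hp φ))
            obs_eq_zero_iff := fun {C' C} p hp φ => ?_
            obs_quot := fun {C' C} p hp K hK hKJ hq φ => ?_ }⟩
  · rw [LinearEquiv.map_eq_zero_iff]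
    constructor
    · intro h0
      let φ' : HomSet R resR C := φ
      let ψ := lift C' C p hp φ
      have hker : RingHom.ker π ≤ RingHom.ker ψ.1 := fun x hx => by
        rw [RingHom.mem_ker, ← obsMap_mk π p hp φ ψ (hlift' C' C p hp φ) ⟨x, hx⟩]
        exact congrArg Subtype.val (congr($h0 (Submodule.Quotient.mk ⟨x, hx⟩)))
      let u' := AlgHom.liftOfSurjective π hsurj ψ.1 hker
      have hu : ∀ b, u' (π b) = ψ.1 b := AlgHom.liftOfSurjective_apply π hsurj ψ.1 hker
      refine ⟨(⟨u', ?_⟩ : HomSet R resR C'), Subtype.ext (AlgHom.ext fun r => ?_)⟩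
      · refine AlgHom.ext fun r => ?_
        obtain ⟨b, rfl⟩ := hsurj r
        rw [AlgHom.comp_apply, hu]
        exact (congr($(ψ.2) b)).trans (congr($hπ b)).symm
      · obtain ⟨b, rfl⟩ := hsurj r
        show p (u' (π b)) = φ'.1 (π b)
        rw [hu]
        exact hlift' C' C p hp φ b
    · rintro ⟨u', hu'⟩
      let v : HomSet R resR C' := u'
      let ψ' : HomSet B resB C' := ⟨v.1.comp π, by rw [← AlgHom.comp_assoc, v.2, hπ]⟩
      rw [obsMap_congr π p hp φ _ ψ' _ (fun b => congr($(congrArg Subtype.val hu') (π b))) hJ]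
      refine LinearMap.ext fun z => ?_
      obtain ⟨z, rfl⟩ := Submodule.Quotient.mk_surjective _ z
      exact Subtype.ext ((congrArg v.1 (RingHom.mem_ker.1 z.2)).trans (map_zero _))
  · let ψ := lift C' C p hp φ
    let ψq : HomSet B resB (Art.quot C' K hK) := HomSet.map (Art.quotMk C' K hK) ψ
    have hψq : ∀ b, Art.quotFactor hK p hKJ (ψq.1 b) = φ.1 (π b) := fun b => hlift' C' C p hp φ b
    apply (dualTensorHomEquiv k (Rel π) ↥(RingHom.ker (Art.quotFactor hK p hKJ).toAlgHom)).injective
    rw [LinearEquiv.apply_symm_apply, obsMap_congr π (Art.quotFactor hK p hKJ) hq φ _ ψq _ hψq hJ]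
    show _ = (dualTensorHom k (Rel π) _ ∘ₗ LinearMap.lTensor _ ((Art.kerToQuot hK p hKJ).restrictScalars k)) _
    rw [dualTensorHom_comp_lTensor, LinearMap.comp_apply]
    show _ = LinearMap.compRight k ((Art.kerToQuot hK p hKJ).restrictScalars k)
      (dualTensorHomEquiv k (Rel π) ↥(RingHom.ker p.toAlgHom) _)
    rw [LinearEquiv.apply_symm_apply]
    refine LinearMap.ext fun z => ?_
    obtain ⟨z, rfl⟩ := Submodule.Quotient.mk_surjective _ z
    exact Subtype.ext rfl

omit [IsLocalRing B] in
/-- Transport along an isomorphism of coefficient spaces and of functors. -/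
theorem hasObsTheory_congr {F : Art k k ⥤ Type v} {V W : Type u} [AddCommGroup V] [Module k V]
    [AddCommGroup W] [Module k W] (e : V ≃ₗ[k] W) (h : HasObsTheory F V) : HasObsTheory F W := by
  obtain ⟨T⟩ := h
  exact ⟨{ obs := fun {C' C} p hp u => LinearMap.rTensor _ e.toLinearMap (T.obs p hp u)
           obs_eq_zero_iff := fun {C' C} p hp u => by
             rw [← T.obs_eq_zero_iff p hp u]
             refine ⟨fun h0 => ?_, fun h0 => by rw [h0, map_zero]⟩
             exact (TensorProduct.congr e (LinearEquiv.refl k ↥(RingHom.ker p.toAlgHom))).map_eq_zero_iff.1 h0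
           obs_quot := fun {C' C} p hp K hK hKJ hq u => by
             rw [T.obs_quot p hp K hK hKJ hq u]
             rw [← LinearMap.comp_apply, ← LinearMap.comp_apply, LinearMap.rTensor_comp_lTensor,
               ← LinearMap.lTensor_comp_rTensor] }⟩

/-- Obstruction theories pull back along objectwise bijections. -/
theorem hasObsTheory_of_family {F : Art k k ⥤ Type v} {R : Type u} [CommRing R] [Algebra k R] {resR : R →ₐ[k] k}
    (ξ : Family R resR F) (hξ : IsUniversal ξ) {V : Type u} [AddCommGroup V] [Module k V]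
    (h : HasObsTheory (hR R resR) V) : HasObsTheory F V := by
  obtain ⟨T⟩ := h
  let inv : ∀ A : Art k k, F.obj A → HomSet R resR A := fun A y => ((hξ A).2 y).choose
  have hinv : ∀ A y, ξ.app A (inv A y) = y := fun A y => ((hξ A).2 y).choose_spec
  exact ⟨{ obs := fun {C' C} p hp u => T.obs p hp (inv C u)
           obs_eq_zero_iff := fun {C' C} p hp u => by
             rw [T.obs_eq_zero_iff]
             constructor
             · rintro ⟨w, hw⟩
               exact ⟨ξ.app C' w, by rw [← ξ.natural]; exact (congrArg (ξ.app C) hw).trans (hinv C u)⟩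
             · rintro ⟨y, hy⟩
               exact ⟨inv C' y, (hξ C).1 ((ξ.natural p (inv C' y)).trans ((congrArg (F.map p) (hinv C' y)).trans
                 (hy.trans (hinv C u).symm)))⟩
           obs_quot := fun {C' C} p hp K hK hKJ hq u => T.obs_quot p hp K hK hKJ hq (inv C u) }⟩

section PowerSeries

variable {d : ℕ}

theorem maximalIdeal_eq_vars : maximalIdeal (MvPowerSeries (Fin d) k) = PSLib.vars d k := by
  ext f
  rw [IsLocalRing.mem_maximalIdeal, mem_nonunits_iff, MvPowerSeries.isUnit_iff_constantCoeff, PSLib.mem_vars_iff,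
    isUnit_iff_ne_zero, not_not]

theorem res_X (res : MvPowerSeries (Fin d) k →ₐ[k] k) (i : Fin d) : res (MvPowerSeries.X i) = 0 :=
  (res_eq_zero_iff (resB := res) _).2 ((maximalIdeal_eq_vars (k := k) (d := d)).symm ▸ Ideal.subset_span ⟨i, rfl⟩)

/-- Power series pro-represent a smooth functor. -/
theorem isSmoothFunctor_powerSeries (res : MvPowerSeries (Fin d) k →ₐ[k] k) :
    IsSmoothFunctor (hR (MvPowerSeries (Fin d) k) res) := by
  intro B A μ hμ φ
  let φ' : HomSet (MvPowerSeries (Fin d) k) res A := φ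
  haveI := isAdicComplete_maximalIdeal B
  haveI := isAdicComplete_maximalIdeal A
  choose b hb using fun i => hμ (φ'.1 (MvPowerSeries.X i))
  have hbm : ∀ i, b i ∈ maximalIdeal B := fun i => by
    rw [Art.mem_maximalIdeal_iff, ← Art.res_app μ, hb]
    exact (congr($(φ'.2) _)).trans (res_X res i)
  obtain ⟨ψ, hψ⟩ := PSLib.exists_algHom (R := k) (A := B) (maximalIdeal B) b hbm
  have hres : B.res.comp ψ = res := by
    refine PSLib.algHom_ext (I := (⊥ : Ideal k)) _ _ (fun i => ?_) fun i => ?_
    · rw [Ideal.mem_bot, AlgHom.comp_apply, hψ]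
      exact (Art.mem_maximalIdeal_iff B _).1 (hbm i)
    · rw [AlgHom.comp_apply, hψ, (Art.mem_maximalIdeal_iff B _).1 (hbm i), res_X res i]
  refine ⟨(⟨ψ, hres⟩ : HomSet (MvPowerSeries (Fin d) k) res B), Subtype.ext ?_⟩
  refine PSLib.algHom_ext (I := maximalIdeal A) _ _ (fun i => ?_) fun i => ?_
  · show μ (ψ (MvPowerSeries.X i)) ∈ _
    rw [hψ, hb, Art.mem_maximalIdeal_iff]
    exact (congr($(φ'.2) _)).trans (res_X res i)
  · show μ (ψ (MvPowerSeries.X i)) = φ'.1 _
    rw [hψ, hb]

/-- A coefficient ring over a field is a minimal quotient of a power series ring. -/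
theorem exists_minimal_presentation (R : CRing k k) :
    ∃ (n : ℕ) (π : MvPowerSeries (Fin n) k →ₐ[k] R.carrier), Function.Surjective π ∧
      RingHom.ker π ≤ maximalIdeal (MvPowerSeries (Fin n) k) ^ 2 := by
  haveI := R.isAdicComplete
  let bs := Module.finBasis (ResidueField R.carrier) (CotangentSpace R.carrier)
  choose b hb using fun i => (maximalIdeal R.carrier).toCotangent_surjective (bs i)
  obtain ⟨π, hπ⟩ := PSLib.exists_algHom (R := k) (maximalIdeal R.carrier) (fun i => (b i).1) fun i => (b i).2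
  have hres : Function.Surjective ((residue R.carrier).comp (algebraMap k R.carrier)) := fun y => by
    obtain ⟨y, rfl⟩ := residue_surjective y
    refine ⟨R.res y, Ideal.Quotient.eq.2 ?_⟩
    rw [← ker_eq_maximalIdeal R.res.toRingHom R.res_surjective, RingHom.mem_ker]
    show R.res (algebraMap k R.carrier (R.res y) - y) = 0
    rw [map_sub, AlgHom.commutes]
    exact sub_self _
  have hgen := PSLib.le_span_sup_sq (b := fun i => (b i).1) (fun i => (b i).2) (by
    rw [show (fun i => (maximalIdeal R.carrier).toCotangent ⟨(b i).1, (b i).2⟩) = bs from funext hb]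
    exact bs.span_eq)
  have hsurj := PSLib.surjective_of_span hres π (fun i => by rw [hπ]; exact (b i).2) (by simpa only [hπ] using hgen)
  refine ⟨_, π, hsurj, fun j hj => ?_⟩
  have hjm : j ∈ maximalIdeal (MvPowerSeries _ k) := fun hu => not_isUnit_zero (RingHom.mem_ker.1 hj ▸ hu.map π)
  rw [maximalIdeal_eq_vars, PSLib.vars] at hjm
  obtain ⟨c, hc⟩ := Ideal.mem_span_range_iff_exists_fun.1 hjm
  have h0 : ∑ i, residue R.carrier (π (c i)) • bs i = 0 := by
    have h1 : (maximalIdeal R.carrier).toCotangent (∑ i, π (c i) • b i) = 0 := by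
      rw [Ideal.toCotangent_eq_zero]
      have : ((∑ i, π (c i) • b i : ↥(maximalIdeal R.carrier)) : R.carrier) = π j := by
        rw [← hc, map_sum, AddSubmonoidClass.coe_finsetSum]
        exact Finset.sum_congr rfl fun i _ => by rw [map_mul, hπ]; rfl
      rw [this, RingHom.mem_ker.1 hj]
      exact zero_mem _
    rw [map_sum] at h1
    rw [← h1]
    exact Finset.sum_congr rfl fun i _ => by rw [map_smul, hb]; rfl
  rw [← hc, sq]
  refine Ideal.sum_mem _ fun i _ => Ideal.mul_mem_mul ?_ ((maximalIdeal_eq_vars (k := k) (d := _)).symm ▸ Ideal.subset_span ⟨i, rfl⟩)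
  intro hu
  exact (residue_ne_zero_iff_isUnit _).2 (hu.map π) (Fintype.linearIndependent_iff.1 bs.linearIndependent _ h0 i)

end PowerSeries

end Groth.Agent.ArtFunLib.ObsHR
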