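import Groth.Agent.ArtFunLib.HilbLink
import Groth.Agent.ArtFunLib.StalkProRep
import Groth.Agent.ArtFunLib.HilbObsApply
import Groth.Agent.ArtFunLib.HilbTangent
import Groth.Agent.NormalLib.Finite

/-!
# The Hilbert scheme at a point: tangent space and dimension bounds
-/

set_option autoImplicit false
set_option linter.style.haveILetI false
universe u

open CategoryTheory CategoryTheory.Limits AlgebraicGeometry ArtFun ArtFun.Art

namespace Groth.Agent.ArtFunLib.HilbLink

variable {k : Type u} [Field k] {P : Scheme.{u}} [P.Over (specPt k)] [IsProper (P ↘ specPt k)]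
  {H : Over (specPt k)} {Z : FGA.HilbSet (P ↘ specPt k) H}
  {Y : Scheme.{u}} [Y.Over (specPt k)] (i : Y ⟶ P) [IsClosedImmersion i]
  [DCoh.HasSheafHom (Omega.conormal i)]

/-- The tangent space of the Hilbert scheme is `H⁰` of the normal sheaf. -/
theorem finrank_cotangentSpace_stalk (hi : i ≫ (P ↘ specPt k) = Y ↘ specPt k)
    (hH : FGA.HilbRepresentedBy (P ↘ specPt k) H Z) (h : pt (k := k) ⟶ H)
    (hh : FGA.hilbPull (P ↘ specPt k) h Z.1 = i.ker.comap (pullback.fst (P ↘ specPt k) (pt (k := k)).hom)) :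
    Module.finrank (IsLocalRing.ResidueField (R₀ H h)) (IsLocalRing.CotangentSpace (R₀ H h)) =
      Module.finrank k (Coh.HH Y ((DCoh.sheafHom (Omega.conormal i)).obj (Coh.structureModule Y)) 0) := by
  haveI := hH.1
  letI := alg H h
  obtain ⟨T⟩ := Groth.Agent.ArtFunLib.nonempty_tangentStr (HilbLeftExact.h0 (P ↘ specPt k) i.ker)
    (fun _ _ p' p'' hfp => HilbLeftExact.bijective_cmp i.ker p' p'' _ _ hfp)
  letI := T
  obtain ⟨e⟩ := HilbTangent.nonempty_tangentSpace_linearEquiv (k := k) (X := P) i.ker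
  obtain ⟨e'⟩ := NormalLib.nonempty_normal_linearEquiv_imm (A := k) i hi
  rw [StalkProRep.finrank_cotangentSpace (universalFamily (P ↘ specPt k) H Z h i.ker hh)
    (isUniversal (P ↘ specPt k) H Z h i.ker hH hh)]
  exact (e.trans e').finrank_eq

/-- Dimension bounds for the Hilbert scheme at a locally unobstructed subscheme. -/
theorem bounds_stalk_unob (hi : i ≫ (P ↘ specPt k) = Y ↘ specPt k) (hreg : HilbObs.LocUnob (P ↘ specPt k) i.ker)
    (hH : FGA.HilbRepresentedBy (P ↘ specPt k) H Z) (h : pt (k := k) ⟶ H)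
    (hh : FGA.hilbPull (P ↘ specPt k) h Z.1 = i.ker.comap (pullback.fst (P ↘ specPt k) (pt (k := k)).hom)) :
    ringKrullDim (R₀ H h) ≤
        (Module.finrank k (Coh.HH Y ((DCoh.sheafHom (Omega.conormal i)).obj (Coh.structureModule Y)) 0) : WithBot ℕ∞) ∧
      (Module.finrank k (Coh.HH Y ((DCoh.sheafHom (Omega.conormal i)).obj (Coh.structureModule Y)) 0) : WithBot ℕ∞) ≤
        ringKrullDim (R₀ H h) +
          (Module.finrank k (Coh.HH Y ((DCoh.sheafHom (Omega.conormal i)).obj (Coh.structureModule Y)) 1) : WithBot ℕ∞) ∧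
      (Module.finrank k (Coh.HH Y ((DCoh.sheafHom (Omega.conormal i)).obj (Coh.structureModule Y)) 1) = 0 →
        IsRegularLocalRing (R₀ H h)) ∧
      (ringKrullDim (R₀ H h) +
          (Module.finrank k (Coh.HH Y ((DCoh.sheafHom (Omega.conormal i)).obj (Coh.structureModule Y)) 1) : WithBot ℕ∞) =
          (Module.finrank k (Coh.HH Y ((DCoh.sheafHom (Omega.conormal i)).obj (Coh.structureModule Y)) 0) : WithBot ℕ∞) →
        Pi1.IsCompleteIntersection (R₀ H h)) := by
  haveI := hH.1
  haveI : IsLocallyNoetherian P := LocallyOfFiniteType.isLocallyNoetherian (P ↘ specPt k)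
  haveI : IsProper (Y ↘ specPt k) := hi ▸ inferInstance
  letI := alg H h
  obtain ⟨T⟩ := Groth.Agent.ArtFunLib.nonempty_tangentStr (HilbLeftExact.h0 (P ↘ specPt k) i.ker)
    (fun _ _ p' p'' hfp => HilbLeftExact.bijective_cmp i.ker p' p'' _ _ hfp)
  letI := T
  obtain ⟨e⟩ := HilbTangent.nonempty_tangentSpace_linearEquiv (k := k) (X := P) i.ker
  obtain ⟨e'⟩ := NormalLib.nonempty_normal_linearEquiv_imm (A := k) i hi
  obtain ⟨e₁⟩ := HilbObs.nonempty_ObSp_equiv_imm (k := k) i hi
  haveI := NormalLib.finite_normal_HH (k := k) i 1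
  have hobs := HilbObs.hasObsTheory_congr e₁
    (HilbObs.hasObsTheory_of_locUnob (k := k) hreg)
  have hb := StalkProRep.bounds (universalFamily (P ↘ specPt k) H Z h i.ker hh)
    (isUniversal (P ↘ specPt k) H Z h i.ker hH hh) hobs
  rw [(e.trans e').finrank_eq] at hb
  exact hb

/-- Dimension bounds for the Hilbert scheme at a locally complete intersection. -/
theorem bounds_stalk (hi : i ≫ (P ↘ specPt k) = Y ↘ specPt k) (hreg : Mor2.IsRegularClosedImmersion i)
    (hH : FGA.HilbRepresentedBy (P ↘ specPt k) H Z) (h : pt (k := k) ⟶ H)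
    (hh : FGA.hilbPull (P ↘ specPt k) h Z.1 = i.ker.comap (pullback.fst (P ↘ specPt k) (pt (k := k)).hom)) :
    ringKrullDim (R₀ H h) ≤
        (Module.finrank k (Coh.HH Y ((DCoh.sheafHom (Omega.conormal i)).obj (Coh.structureModule Y)) 0) : WithBot ℕ∞) ∧
      (Module.finrank k (Coh.HH Y ((DCoh.sheafHom (Omega.conormal i)).obj (Coh.structureModule Y)) 0) : WithBot ℕ∞) ≤
        ringKrullDim (R₀ H h) +
          (Module.finrank k (Coh.HH Y ((DCoh.sheafHom (Omega.conormal i)).obj (Coh.structureModule Y)) 1) : WithBot ℕ∞) ∧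
      (Module.finrank k (Coh.HH Y ((DCoh.sheafHom (Omega.conormal i)).obj (Coh.structureModule Y)) 1) = 0 →
        IsRegularLocalRing (R₀ H h)) ∧
      (ringKrullDim (R₀ H h) +
          (Module.finrank k (Coh.HH Y ((DCoh.sheafHom (Omega.conormal i)).obj (Coh.structureModule Y)) 1) : WithBot ℕ∞) =
          (Module.finrank k (Coh.HH Y ((DCoh.sheafHom (Omega.conormal i)).obj (Coh.structureModule Y)) 0) : WithBot ℕ∞) →
        Pi1.IsCompleteIntersection (R₀ H h)) :=
  bounds_stalk_unob i hi (HilbObs.locUnob_of_locReg (P ↘ specPt k) (HilbObs.locReg_of_regular i hreg)) hH h hh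

end Groth.Agent.ArtFunLib.HilbLink
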