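import Groth.Agent.ArtFunLib.HilbSit
import Groth.Agent.ArtFunLib.FamilyHom
import Groth.Agent.OmegaLib.IdealMod
import Groth.Prelude.Def_Omega4
import Mathlib.Algebra.Homology.DerivedCategory.Ext.ExactSequences
import Mathlib.Algebra.Homology.ShortComplex.ShortExact

/-! The module of an ideal sheaf of `X ×_k Spec B` on `X`. -/

set_option autoImplicit false
set_option backward.isDefEq.respectTransparency false
universe u

open CategoryTheory CategoryTheory.Limits AlgebraicGeometry ArtFun ArtFun.Art Opposite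

namespace Groth.Agent.ArtFunLib.HilbMod

open HilbAffine HilbSit

variable {k : Type u} [Field k] {X : Scheme.{u}} {x : X ⟶ specPt k}

/-- An ideal sheaf of `X ×_k Spec B` as a module on `X`. -/
noncomputable def G {B : Art k k} (P : (XA x B).IdealSheafData) : X.Modules :=
  (Scheme.Modules.pushforward (pullback.fst x (specOver B))).obj (ClSub.idealMod P)

/-- The underlying function. -/
noncomputable def el {B : Art k k} (P : (XA x B).IdealSheafData) (U : X.affineOpens) :
    Γ(G P, U.1) →+ Γ(XA x B, (W x B U).1) :=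
  AddMonoidHom.mk' (fun s => OmegaSh.idealSect P (W x B U).1 s) fun _ _ =>
    map_add (OmegaSh.idealSect P (W x B U).1) _ _

variable {B : Art k k} (P : (XA x B).IdealSheafData)

theorem el_mem (U : X.affineOpens) (s : Γ(G P, U.1)) : el P U s ∈ P.ideal (W x B U) :=
  OmegaLib.idealSect_mem P (W x B U) s

theorem el_injective (U : X.affineOpens) : Function.Injective (el P U) :=
  OmegaLib.idealSect_injective P (W x B U).1

theorem exists_el (U : X.affineOpens) (e : Γ(XA x B, (W x B U).1)) (he : e ∈ P.ideal (W x B U)) :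
    ∃ s, el P U s = e :=
  OmegaLib.exists_of_mem P (W x B U) e he

theorem el_smul (U : X.affineOpens) (r : Γ(X, U.1)) (s : Γ(G P, U.1)) :
    el P U (r • s) = fstPull x B U r * el P U s :=
  OmegaLib.idealSect_smul P (W x B U).1 (fstPull x B U r) s

theorem el_map (U V : X.affineOpens) (hV : V.1 ≤ U.1) (s : Γ(G P, U.1)) :
    el P V ((G P).presheaf.map (homOfLE hV).op s) =
      (XA x B).presheaf.map (homOfLE (W_mono x B hV)).op (el P U s) :=
  OmegaLib.idealSect_map P (W_mono x B hV) s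

theorem app_map {M N : X.Modules} (f : M ⟶ N) {U V : X.Opens} (h : V ≤ U) (s : Γ(M, U)) :
    f.app V (M.presheaf.map (homOfLE h).op s) = N.presheaf.map (homOfLE h).op (f.app U s) :=
  congr($(f.mapPresheaf.naturality (homOfLE h).op) s)

/-- Restriction to the closed fibre, as a morphism of modules. -/
theorem exists_phi (I₀ : X.IdealSheafData) (h0 : ∀ U, (P.ideal (W x B U)).map (rho x B U) = I₀.ideal U) :
    ∃ φ : G P ⟶ ClSub.idealMod I₀, Epi φ ∧
      ∀ (U : X.affineOpens) s, OmegaSh.idealSect I₀ U.1 (φ.app U.1 s) = rho x B U (el P U s) := by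
  have hex : ∀ (U : X.affineOpens) (s : Γ(G P, U.1)),
      ∃ k₀ : Γ(ClSub.idealMod I₀, U.1), OmegaSh.idealSect I₀ U.1 k₀ = rho x B U (el P U s) := fun U s => by
    refine OmegaLib.exists_of_mem I₀ U _ ?_
    rw [← h0 U]
    exact Ideal.mem_map_of_mem _ (el_mem P U s)
  choose f hf using hex
  obtain ⟨φ, hφ⟩ := FamilyHom.exists_hom_of_family (fun U => AddMonoidHom.mk' (f U) (fun s s' =>
      OmegaLib.idealSect_injective I₀ U.1 (by rw [map_add, hf, hf, hf, map_add, map_add])))
    (fun U V hV s => by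
      apply OmegaLib.idealSect_injective I₀ V.1
      show OmegaSh.idealSect I₀ V.1 ((ClSub.idealMod I₀).presheaf.map (homOfLE hV).op (f U s)) =
        OmegaSh.idealSect I₀ V.1 (f V _)
      rw [OmegaLib.idealSect_map I₀ hV, hf, hf, el_map P U V hV, rho_map x B hV])
    (fun U r s => OmegaLib.idealSect_injective I₀ U.1 (by
      show OmegaSh.idealSect I₀ U.1 (f U (r • s)) = OmegaSh.idealSect I₀ U.1 (r • f U s)
      rw [OmegaLib.idealSect_smul, hf, hf, el_smul, map_mul, rho_fst]))
  have hval : ∀ (U : X.affineOpens) s, OmegaSh.idealSect I₀ U.1 (φ.app U.1 s) = rho x B U (el P U s) :=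
    fun U s => (congrArg _ (hφ U s)).trans (hf U s)
  refine ⟨φ, ⟨fun {N} g g' hg => Scheme.Modules.hom_ext _ _ fun V => ?_⟩, hval⟩
  ext v
  refine FamilyHom.ext_affine N V _ _ fun U hU => ?_
  refine (app_map g hU v).symm.trans (Eq.trans ?_ (app_map g' hU v))
  have hv := OmegaLib.idealSect_mem I₀ U ((ClSub.idealMod I₀).presheaf.map (homOfLE hU).op v)
  rw [← h0 U] at hv
  obtain ⟨a, ha, hav⟩ := (Ideal.mem_map_iff_of_surjective _ (rho_spec x B U).1).1 hv
  obtain ⟨s, rfl⟩ := exists_el P U a ha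
  have e : φ.app U.1 s = (ClSub.idealMod I₀).presheaf.map (homOfLE hU).op v :=
    OmegaLib.idealSect_injective I₀ U.1 ((hval U s).trans hav)
  refine (congrArg (g.app U.1) e).symm.trans (Eq.trans ?_ (congrArg (g'.app U.1) e))
  exact congr(($hg).app U.1 s)

variable [HasExt.{u} X.Modules]

/-- Extending a morphism defined on a kernel. -/
theorem exists_extend {G M N : X.Modules} (φ : G ⟶ M) [Epi φ] (κ : kernel φ ⟶ N)
    (h : Subsingleton (Abelian.Ext.{u} M N 1)) : ∃ θ : G ⟶ N, kernel.ι φ ≫ θ = κ := by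
  let S : ShortComplex X.Modules := ShortComplex.mk (kernel.ι φ) φ (kernel.condition φ)
  have hS : S.ShortExact :=
    { exact := ShortComplex.exact_of_f_is_kernel S (kernelIsKernel φ)
      mono_f := inferInstanceAs (Mono (kernel.ι φ))
      epi_g := ‹Epi φ› }
  obtain ⟨x₂, hx₂⟩ := Abelian.Ext.contravariant_sequence_exact₁ hS N (Abelian.Ext.mk₀ κ) (add_zero 1)
    (h.elim _ _)
  obtain ⟨θ, rfl⟩ := (Abelian.Ext.mk₀_bijective _ _).2 x₂
  rw [Abelian.Ext.mk₀_comp_mk₀] at hx₂
  exact ⟨θ, (Abelian.Ext.mk₀_bijective _ _).1 hx₂⟩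

/-- A morphism with prescribed values on `m P + t R`. -/
theorem exists_theta (I₀ : X.IdealSheafData)
    (h : Subsingleton (Abelian.Ext.{u} (ClSub.idealMod I₀) (ClSub.quotMod I₀) 1))
    (φ : G P ⟶ ClSub.idealMod I₀) [Epi φ]
    (hφ : ∀ (U : X.affineOpens) s, OmegaSh.idealSect I₀ U.1 (φ.app U.1 s) = rho x B U (el P U s))
    (t : B) (htm : t ∈ IsLocalRing.maximalIdeal B)
    (mP : ∀ U : X.affineOpens, Ideal Γ(XA x B, (W x B U).1))
    (hmP : mP = fun U => (IsLocalRing.maximalIdeal B).map (c x B U) * P.ideal (W x B U))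
    (hrep : ∀ U e, e ∈ P.ideal (W x B U) → rho x B U e = 0 → ∃ μ z, μ ∈ mP U ∧ e = μ + c x B U t * z)
    (hzero : ∀ U z, c x B U t * z ∈ mP U → I₀.subschemeι.app U.1 (rho x B U z) = 0) :
    ∃ θ : G P ⟶ ClSub.quotMod I₀, ∀ (U : X.affineOpens) s μ z, μ ∈ mP U → el P U s = μ + c x B U t * z →
      θ.app U.1 s = I₀.subschemeι.app U.1 (rho x B U z) := by
  have hkρ : ∀ (U : X.affineOpens) (kk : Γ(kernel φ, U.1)), rho x B U (el P U ((kernel.ι φ).app U.1 kk)) = 0 := fun U kk => by
    have e0 : φ.app U.1 ((kernel.ι φ).app U.1 kk) = 0 := congr(($(kernel.condition φ)).app U.1 kk)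
    rw [← hφ, e0, map_zero]
  have hex := fun U kk => hrep U _ (el_mem P U _) (hkρ U kk)
  choose fμ fz hfμ hfe using hex
  let κf : ∀ U : X.affineOpens, Γ(kernel φ, U.1) → Γ(ClSub.quotMod I₀, U.1) := fun U kk =>
    I₀.subschemeι.app U.1 (rho x B U (fz U kk))
  have hval : ∀ U kk μ z, μ ∈ mP U → el P U ((kernel.ι φ).app U.1 kk) = μ + c x B U t * z →
      κf U kk = I₀.subschemeι.app U.1 (rho x B U z) := fun U kk μ z hμ he => by
    rw [← sub_eq_zero]
    show I₀.subschemeι.app U.1 (rho x B U (fz U kk)) - I₀.subschemeι.app U.1 (rho x B U z) = 0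
    rw [← map_sub, ← map_sub]
    refine hzero U _ ?_
    rw [show c x B U t * (fz U kk - z) = μ - fμ U kk by linear_combination (hfe U kk).symm.trans he]
    exact sub_mem hμ (hfμ U kk)
  have hadd : ∀ U a b, κf U (a + b) = κf U a + κf U b := fun U a b => by
    rw [hval U (a + b) (fμ U a + fμ U b) (fz U a + fz U b) (add_mem (hfμ U a) (hfμ U b)) (by
      rw [map_add, map_add, hfe U a, hfe U b]; ring), map_add]
    exact map_add (I₀.subschemeι.app U.1).hom _ _
  obtain ⟨κ, hκ⟩ := FamilyHom.exists_hom_of_family (fun U => AddMonoidHom.mk' (κf U) (hadd U))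
    (fun U V hV kk => by
      have hμ' : (XA x B).presheaf.map (homOfLE (W_mono x B hV)).op (fμ U kk) ∈ mP V := by
        have h1 := Ideal.mem_map_of_mem ((XA x B).presheaf.map (homOfLE (W_mono x B hV)).op).hom (hfμ U kk)
        rw [hmP] at h1 ⊢
        rw [Ideal.map_mul, Ideal.map_map, show (((XA x B).presheaf.map (homOfLE (W_mono x B hV)).op).hom).comp (c x B U) = c x B V
          from RingHom.ext (c_map x B hV)] at h1
        exact Ideal.mul_mono le_rfl (le_of_eq (P.map_ideal (U := W x B V) (V := W x B U) (W_mono x B hV))) h1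
      show (ClSub.quotMod I₀).presheaf.map (homOfLE hV).op (κf U kk) =
        κf V ((kernel φ).presheaf.map (homOfLE hV).op kk)
      rw [hval V _ _ _ hμ' (by
        rw [app_map, el_map P U V hV, hfe U kk, map_add, map_mul, c_map x B hV]), rho_map x B hV]
      exact (congr($(I₀.subschemeι.naturality (homOfLE hV).op) (rho x B U (fz U kk)))).symm)
    (fun U r kk => by
      show κf U (r • kk) = r • κf U kk
      rw [hval U _ (fstPull x B U r * fμ U kk) (fstPull x B U r * fz U kk) (Ideal.mul_mem_left _ _ (hfμ U kk)) (by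
        rw [Scheme.Modules.Hom.app_smul, el_smul, hfe U kk]; ring), map_mul, rho_fst]
      exact map_mul (I₀.subschemeι.app U.1).hom _ _)
  obtain ⟨θ, hθ⟩ := exists_extend φ κ h
  refine ⟨θ, fun U s μ z hμ he => ?_⟩
  have hρ0 : rho x B U (el P U s) = 0 := by
    have e1 : ∀ a ∈ (IsLocalRing.maximalIdeal B).map (c x B U), rho x B U a = 0 := fun a ha =>
      RingHom.mem_ker.1 ((rho_spec x B U).2.ge ha)
    have hμ2 : μ ∈ (IsLocalRing.maximalIdeal B).map (c x B U) := by
      rw [hmP] at hμ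
      exact (Ideal.mul_le_left : (IsLocalRing.maximalIdeal B).map (c x B U) * P.ideal (W x B U) ≤ _) hμ
    rw [he, map_add, map_mul, e1 μ hμ2,
      e1 (c x B U t) (Ideal.mem_map_of_mem _ htm), zero_mul, add_zero]
  have hs0 : φ.app U.1 s = 0 := OmegaLib.idealSect_injective I₀ U.1 (by rw [hφ, hρ0, map_zero])
  have hk := OmegaSh.ι_kerLift φ U.1 s hs0
  have e2 : θ.app U.1 ((kernel.ι φ).app U.1 (OmegaSh.kerLift φ U.1 s hs0)) =
      κ.app U.1 (OmegaSh.kerLift φ U.1 s hs0) := congr(($hθ).app U.1 _)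
  rw [hk] at e2
  exact (e2.trans (hκ U _)).trans (hval U _ μ z hμ (by rw [hk, he]))

end Groth.Agent.ArtFunLib.HilbMod
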