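import Groth.Agent.ArtFunLib.HilbRing
import Groth.Agent.ArtFlat.Basic
import Groth.Prelude.Def_CAlgX

/-!
# Lifting of relations of regular sequences to flat deformations
-/

set_option autoImplicit false
universe u v w

namespace Groth.Agent.ArtFunLib.HilbObsKoszul

open IsLocalRing

/-- The trivial relations. -/
abbrev Kosz {R : Type v} [CommRing R] {r : ℕ} (F : Fin r → R) : Submodule R (Fin r → R) :=
  Submodule.span R {v : Fin r → R | ∃ i j : Fin r, v = Pi.single i (F j) - Pi.single j (F i)}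

theorem sum_eq_zero_of_mem {R : Type v} [CommRing R] {r : ℕ} {F : Fin r → R} {a : Fin r → R}
    (ha : a ∈ Kosz F) : ∑ i, a i * F i = 0 := by
  classical
  induction ha using Submodule.span_induction with
  | mem v hv =>
    obtain ⟨i, j, rfl⟩ := hv
    simp only [Pi.sub_apply, sub_mul, Finset.sum_sub_distrib]
    simp [Pi.single_apply, mul_comm]
  | zero => simp
  | add v w _ _ hv hw => simp [add_mul, Finset.sum_add_distrib, hv, hw]
  | smul c v _ hv => simp [mul_assoc, ← Finset.mul_sum, hv]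

theorem exists_lift_kosz {R : Type v} {S : Type w} [CommRing R] [CommRing S] {r : ℕ} (φ : R →+* S)
    (hφ : Function.Surjective φ) (F : Fin r → R) {a : Fin r → S} (ha : a ∈ Kosz (fun i => φ (F i))) :
    ∃ K ∈ Kosz F, ∀ i, φ (K i) = a i := by
  classical
  induction ha using Submodule.span_induction with
  | mem v hv =>
    obtain ⟨i, j, rfl⟩ := hv
    exact ⟨_, Submodule.subset_span ⟨i, j, rfl⟩, fun l => by simp [Pi.single_apply, apply_ite φ]⟩
  | zero => exact ⟨0, zero_mem _, fun l => by simp⟩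
  | add v w _ _ hv hw =>
    obtain ⟨K, hK, hK'⟩ := hv
    obtain ⟨L, hL, hL'⟩ := hw
    exact ⟨K + L, add_mem hK hL, fun l => by simp [hK', hL']⟩
  | smul c v _ hv =>
    obtain ⟨K, hK, hK'⟩ := hv
    obtain ⟨c', rfl⟩ := hφ c
    exact ⟨c' • K, Submodule.smul_mem _ _ hK, fun l => by simp [hK']⟩

variable {A : Type u} [CommRing A] [IsLocalRing A] [IsArtinianRing A] {RA : Type v} [CommRing RA] (cA : A →+* RA)

/-- Multiples of an independent family vanish only trivially on a flat algebra. -/
theorem mem_map_of_sum_eq_zero (hflat : cA.Flat) {n : ℕ} (t : Fin n → A)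
    (ht : ∀ x : Fin n → A, ∑ j, t j * x j = 0 → ∀ j, x j ∈ maximalIdeal A) (x : Fin n → RA)
    (hx : ∑ j, cA (t j) * x j = 0) : ∀ j, x j ∈ (maximalIdeal A).map cA := by
  classical
  letI : Algebra A RA := cA.toAlgebra
  haveI : Module.Flat A RA := hflat
  haveI : Module.Free A RA := ArtFlat.free_of_flat ((isArtinianRing_iff_isNilpotent_maximalIdeal A).1 inferInstance)
  let bs := Module.Free.chooseBasis A RA
  intro j
  rw [← bs.linearCombination_repr (x j), Finsupp.linearCombination_apply, Finsupp.sum]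
  refine sum_mem fun i _ => ?_
  show cA (bs.repr (x j) i) * _ ∈ _
  refine Ideal.mul_mem_right _ _ (Ideal.mem_map_of_mem _ (ht (fun j => bs.repr (x j) i) ?_ j))
  have h := congrArg (fun v => bs.repr v i) hx
  simp only [map_sum, map_zero, Finsupp.finsetSum_apply, Finsupp.zero_apply] at h
  rw [← h]
  exact Finset.sum_congr rfl fun j _ => by
    show _ = bs.repr (t j • x j) i
    rw [map_smul, Finsupp.smul_apply, smul_eq_mul]

theorem mem_map_of_mul_mem (hflat : cA.Flat) (J : Ideal A) (t : A) (htJ : t ∉ J) (x : RA)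
    (hx : cA t * x ∈ J.map cA) : x ∈ (maximalIdeal A).map cA := by
  classical
  letI : Algebra A RA := cA.toAlgebra
  haveI : Module.Flat A RA := hflat
  haveI : Module.Free A RA := ArtFlat.free_of_flat ((isArtinianRing_iff_isNilpotent_maximalIdeal A).1 inferInstance)
  let bs := Module.Free.chooseBasis A RA
  have hJ : ∀ v ∈ J.map cA, ∀ (u : RA) i, bs.repr (v * u) i ∈ J := fun v hv => by
    induction hv using Submodule.span_induction with
    | mem v hv =>
      obtain ⟨a, ha, rfl⟩ := hv
      intro u i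
      show bs.repr (a • u) i ∈ _
      rw [map_smul, Finsupp.smul_apply, smul_eq_mul]
      exact Ideal.mul_mem_right _ _ ha
    | zero => intro u i; rw [zero_mul, map_zero]; exact zero_mem _
    | add v₁ v₂ _ _ ih₁ ih₂ => intro u i; rw [add_mul, map_add]; exact add_mem (ih₁ u i) (ih₂ u i)
    | smul s v _ ih => intro u i; rw [smul_eq_mul, mul_comm s, mul_assoc]; exact ih _ i
  rw [← bs.linearCombination_repr x, Finsupp.linearCombination_apply, Finsupp.sum]
  refine sum_mem fun i _ => ?_
  show cA (bs.repr x i) * _ ∈ _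
  refine Ideal.mul_mem_right _ _ (Ideal.mem_map_of_mem _ ?_)
  by_contra hn
  have h := hJ _ hx 1 i
  rw [mul_one, show cA t * x = t • x from rfl, map_smul, Finsupp.smul_apply, smul_eq_mul] at h
  rw [mul_comm] at h
  exact htJ ((Ideal.unit_mul_mem_iff_mem J (IsLocalRing.notMem_maximalIdeal.1 hn)).1 h)

variable {R₀ : Type w} [CommRing R₀] {ρA : RA →+* R₀}

/-- Relations of a lift of an `H₁`-regular sequence are trivial. -/
theorem mem_kosz (hflat : cA.Flat) (hρ : Function.Surjective ρA) (hker : RingHom.ker ρA = (maximalIdeal A).map cA)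
    {r : ℕ} (F : Fin r → RA) (hf : CAlgX.IsH1Regular fun i => ρA (F i)) (a : Fin r → RA)
    (ha : ∑ i, a i * F i = 0) : a ∈ Kosz F := by
  classical
  obtain ⟨J, hJ, hmax⟩ := wellFounded_gt.has_min
    {J : Ideal A | ∀ a : Fin r → RA, (∀ i, a i ∈ J.map cA) → ∑ i, a i * F i = 0 → a ∈ Kosz F}
    ⟨⊥, fun a ha _ => by
      rw [show a = 0 from funext fun i => by simpa using ha i]
      exact zero_mem _⟩
  by_cases hT : J = ⊤
  · exact hJ a (fun i => by rw [hT, Ideal.map_top]; trivial) ha
  obtain ⟨N, hN⟩ := (isArtinianRing_iff_isNilpotent_maximalIdeal A).1 inferInstance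
  have hex : ∃ n, maximalIdeal A ^ n ≤ J := ⟨N, by rw [hN]; exact bot_le⟩
  obtain ⟨t, ht, htJ⟩ : ∃ t, (∀ y ∈ maximalIdeal A, y * t ∈ J) ∧ t ∉ J := by
    have h0 : Nat.find hex ≠ 0 := fun h0 => hT (top_le_iff.1 (by
      have := Nat.find_spec hex
      rwa [h0, pow_zero, Ideal.one_eq_top] at this))
    obtain ⟨n, hn⟩ := Nat.exists_eq_succ_of_ne_zero h0
    obtain ⟨t, ht, htJ⟩ := SetLike.not_le_iff_exists.1 (Nat.find_min hex (show n < Nat.find hex by omega))
    refine ⟨t, fun y hy => Nat.find_spec hex ?_, htJ⟩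
    rw [hn, pow_succ']
    exact Ideal.mul_mem_mul hy ht
  refine absurd (fun a ha hsum => ?_) fun hP => hmax (J ⊔ Ideal.span {t}) hP
    (lt_of_le_of_ne le_sup_left fun h => htJ (by
      rw [h]; exact Ideal.mem_sup_right (Ideal.mem_span_singleton_self t)))
  have hdec : ∀ i, ∃ j ∈ J.map cA, ∃ s, a i = j + cA t * s := fun i => by
    have h := ha i
    rw [Ideal.map_sup, Ideal.map_span, Set.image_singleton, Submodule.mem_sup] at h
    obtain ⟨j, hj, y, hy, e⟩ := h
    obtain ⟨s, rfl⟩ := Ideal.mem_span_singleton'.1 hy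
    exact ⟨j, hj, s, by rw [← e, mul_comm s]⟩
  choose j hj s hs using hdec
  have h1 : cA t * ∑ i, s i * F i ∈ J.map cA := by
    have e : cA t * ∑ i, s i * F i = -∑ i, j i * F i := by
      rw [eq_neg_iff_add_eq_zero, Finset.mul_sum, ← Finset.sum_add_distrib, ← hsum]
      exact Finset.sum_congr rfl fun i _ => by rw [hs]; ring
    rw [e]
    exact neg_mem (sum_mem fun i _ => Ideal.mul_mem_right _ _ (hj i))
  have h2 := mem_map_of_mul_mem cA hflat J t htJ _ h1
  rw [← hker, RingHom.mem_ker, map_sum] at h2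
  obtain ⟨K, hK, hK'⟩ := exists_lift_kosz ρA hρ F (hf (fun i => ρA (s i)) (by
    rw [← h2]; exact Finset.sum_congr rfl fun i _ => (map_mul _ _ _).symm))
  rw [← sub_add_cancel a (cA t • K)]
  refine add_mem (hJ _ (fun i => ?_) ?_) (Submodule.smul_mem _ _ hK)
  · show a i - cA t * K i ∈ _
    rw [hs, add_sub_assoc, ← mul_sub]
    refine add_mem (hj i) ?_
    have h3 : s i - K i ∈ (maximalIdeal A).map cA := by
      rw [← hker, RingHom.mem_ker, map_sub, hK', sub_self]
    have h4 := Ideal.mul_mem_mul (Ideal.mem_map_of_mem cA (Ideal.mem_span_singleton_self t)) h3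
    rw [← Ideal.map_mul] at h4
    refine Ideal.map_mono ?_ h4
    refine Ideal.mul_le.2 fun y hy z hz => ?_
    obtain ⟨y', rfl⟩ := Ideal.mem_span_singleton'.1 hy
    rw [mul_comm, ← mul_assoc, mul_comm z, mul_assoc]
    exact J.mul_mem_left _ (ht z hz)
  · simp only [Pi.sub_apply, Pi.smul_apply, smul_eq_mul, sub_mul, Finset.sum_sub_distrib, hsum, mul_assoc,
      ← Finset.mul_sum, sum_eq_zero_of_mem hK, mul_zero, sub_zero]


/-- Lifts of generators of the reduction generate a flat quotient's ideal. -/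
theorem span_eq (IA : Ideal RA) (hI : ((Ideal.Quotient.mk IA).comp cA).Flat)
    (hρ : Function.Surjective ρA) (hker : RingHom.ker ρA = (maximalIdeal A).map cA) {r : ℕ} (F : Fin r → RA) (hF : ∀ i, F i ∈ IA)
    (hgen : IA.map ρA ≤ Ideal.span (Set.range fun i => ρA (F i))) : Ideal.span (Set.range F) = IA := by
  refine le_antisymm (Ideal.span_le.2 (Set.range_subset_iff.2 hF)) ?_
  have h1 : IA ≤ Ideal.span (Set.range F) ⊔ (maximalIdeal A).map cA * IA := fun a ha => by
    have h := hgen (Ideal.mem_map_of_mem ρA ha)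
    obtain ⟨c, hc⟩ := Ideal.mem_span_range_iff_exists_fun.1 h
    obtain ⟨d, hd, hd'⟩ : ∃ d ∈ Ideal.span (Set.range F), ρA d = ρA a := by
      rw [Set.range_comp' ρA F, ← Ideal.map_span] at h
      exact (Ideal.mem_map_iff_of_surjective _ hρ).1 h
    rw [← add_sub_cancel d a]
    refine Submodule.add_mem_sup hd (HilbRing.inf_map_le cA hI _ ⟨sub_mem ha ?_, ?_⟩)
    · exact Ideal.span_le.2 (Set.range_subset_iff.2 hF) hd
    · show a - d ∈ (maximalIdeal A).map cA
      rw [← hker, RingHom.mem_ker, map_sub, hd', sub_self]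
  have h2 : ∀ N, IA ≤ Ideal.span (Set.range F) ⊔ (maximalIdeal A).map cA ^ N * IA := fun N => by
    induction N with
    | zero => rw [pow_zero, one_mul]; exact le_sup_right
    | succ N ih =>
      refine ih.trans (sup_le le_sup_left ((Ideal.mul_mono le_rfl h1).trans ?_))
      rw [Ideal.mul_sup, pow_succ, mul_assoc]
      exact sup_le_sup_right Ideal.mul_le_right _
  obtain ⟨N, hN⟩ := (isArtinianRing_iff_isNilpotent_maximalIdeal A).1 inferInstance
  refine (h2 N).trans (sup_le le_rfl ?_)
  rw [← Ideal.map_pow, hN, Submodule.zero_eq_bot, Ideal.map_bot, Ideal.bot_mul]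
  exact bot_le

end Groth.Agent.ArtFunLib.HilbObsKoszul
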