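import Groth.Agent.ArtFunLib.HilbTangent
import Groth.Agent.ArtFunLib.HilbIdeal
import Groth.Agent.ArtFunLib.HilbObsKoszul
import Groth.Agent.ArtFunLib.Fibre
import Groth.Agent.NormalLib.Chart
import Groth.Agent.NormalLib.LocalExt
import Groth.Prelude.Def_ArtFun3

/-!
# Lifting embedded deformations of locally complete intersections
-/

set_option autoImplicit false
set_option backward.isDefEq.respectTransparency false
universe u

open CategoryTheory CategoryTheory.Limits AlgebraicGeometry ArtFun ArtFun.Art Opposite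

namespace Groth.Agent.ArtFunLib.HilbObs

open HilbAffine HilbSit HilbMod HilbTangent HilbLeftExact

variable {k : Type u} [Field k] {X : Scheme.{u}} {x : X ⟶ specPt k} {I₀ : X.IdealSheafData}

theorem pi_comp {B D A : Art k k} (p : B ⟶ D) (q : D ⟶ A) (U : X.affineOpens)
    (z : Γ(XA x B, (W x B U).1)) : pi x q U (pi x p U z) = pi x (p ≫ q) U z := by
  have h1 : (XAmap x p).appLE (W x B U).1 (W x D U).1 (pi_le x p U).le ≫
      (XAmap x q).appLE (W x D U).1 (W x A U).1 (pi_le x q U).le =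
      (XAmap x (p ≫ q)).appLE (W x B U).1 (W x A U).1 (pi_le x (p ≫ q) U).le := by
    rw [Scheme.Hom.appLE_comp_appLE]
    exact appLE_congr (XAmap_comp x p q).symm _ _ _ _
  exact congr($h1 z)

variable {B A : Art k k} (p : B ⟶ A) (IA : (localHilb X x I₀).obj A)

/-- The preimage of the deformation. -/
noncomputable def PI : (XA x B).IdealSheafData := IA.1.map (XAmap x p)

theorem mem_PI (hp : Function.Surjective p) (U : X.affineOpens) (a : Γ(XA x B, (W x B U).1)) :
    a ∈ (PI p IA).ideal (W x B U) ↔ pi x p U a ∈ IA.1.ideal (W x A U) := by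
  haveI := isClosedImmersion_map x p hp
  exact mem_map_iff (XAmap x p) IA.1 (W x B U) (W x A U) (pi_le x p U) (pi_le x p U).le a

/-- `φ` is the restriction to the closed fibre. -/
def IsPhi (φ : G (PI p IA) ⟶ ClSub.idealMod I₀) : Prop :=
  Epi φ ∧ ∀ (U : X.affineOpens) s, OmegaSh.idealSect I₀ U.1 (φ.app U.1 s) = rho x B U (el (PI p IA) U s)

theorem exists_isPhi (hp : Function.Surjective p) : ∃ φ, IsPhi p IA φ := by
  obtain ⟨φ, h1, h2⟩ := exists_phi (PI p IA) I₀ fun U => by
    have h : (PI p IA).ideal (W x B U) = (IA.1.ideal (W x A U)).comap (pi x p U) :=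
      Ideal.ext fun a => mem_PI p IA hp U a
    rw [h, show rho x B U = (rho x A U).comp (pi x p U) from RingHom.ext fun a => (rho_pi x p U a).symm,
      ← Ideal.map_map, Ideal.map_comap_of_surjective _ (pi_spec x p hp U).1, ← comap_incl_ideal, IA.2.2]
  exact ⟨φ, h1, h2⟩

/-- `m` times the preimage. -/
noncomputable def mP (U : X.affineOpens) : Ideal Γ(XA x B, (W x B U).1) :=
  (IsLocalRing.maximalIdeal B).map (c x B U) * (PI p IA).ideal (W x B U)

theorem rho_eq_zero_of_m {U : X.affineOpens} {a : Γ(XA x B, (W x B U).1)}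
    (ha : a ∈ (IsLocalRing.maximalIdeal B).map (c x B U)) : rho x B U a = 0 :=
  RingHom.mem_ker.1 ((rho_spec x B U).2.ge ha)

/-- `t` is a basis of the kernel of a semismall extension. -/
structure KerBasis {n : ℕ} (t : Fin n → B) : Prop where
  surj : Function.Surjective p
  span : RingHom.ker p.toAlgHom.toRingHom = Ideal.span (Set.range t)
  kill : ∀ y ∈ IsLocalRing.maximalIdeal B, ∀ j, y * t j = 0
  indep : ∀ v : Fin n → B, ∑ j, t j * v j = 0 → ∀ j, v j ∈ IsLocalRing.maximalIdeal B

variable {p IA} {n : ℕ} {t : Fin n → B} (ht : KerBasis p t)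

include ht in
theorem mem_m (j : Fin n) : t j ∈ IsLocalRing.maximalIdeal B :=
  ArtFunLib.ker_le_maximalIdeal p (ht.span.ge (Ideal.subset_span ⟨j, rfl⟩))

include ht in
theorem p_t (j : Fin n) : p (t j) = 0 := RingHom.mem_ker.1 (ht.span.ge (Ideal.subset_span ⟨j, rfl⟩))

include ht in
theorem mul_t_eq_zero {U : X.affineOpens} {a : Γ(XA x B, (W x B U).1)}
    (ha : a ∈ (IsLocalRing.maximalIdeal B).map (c x B U)) (j : Fin n) : a * c x B U (t j) = 0 := by
  induction ha using Submodule.span_induction with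
  | mem w hw => obtain ⟨b, hb, rfl⟩ := hw; rw [← map_mul, ht.kill b hb, map_zero]
  | zero => rw [zero_mul]
  | add p q _ _ hp hq => rw [add_mul, hp, hq, add_zero]
  | smul r p _ hp => rw [smul_eq_mul, mul_assoc, hp, mul_zero]

include ht in
theorem ker_pi (U : X.affineOpens) (a : Γ(XA x B, (W x B U).1)) (ha : pi x p U a = 0) :
    ∃ z : Fin n → Γ(XA x B, (W x B U).1), a = ∑ j, c x B U (t j) * z j := by
  have h := (pi_spec x p ht.surj U).2.le (RingHom.mem_ker.2 ha)
  rw [ht.span, Ideal.map_span, ← Set.range_comp] at h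
  obtain ⟨z, hz⟩ := Ideal.mem_span_range_iff_exists_fun.1 h
  exact ⟨z, by rw [← hz]; exact Finset.sum_congr rfl fun j _ => mul_comm _ _⟩

include ht in
theorem exists_rep (U : X.affineOpens) (e : Γ(XA x B, (W x B U).1)) (he : e ∈ (PI p IA).ideal (W x B U))
    (hρ : rho x B U e = 0) : ∃ (μ : Γ(XA x B, (W x B U).1)) (z : Fin n → Γ(XA x B, (W x B U).1)), μ ∈ mP p IA U ∧ e = μ + ∑ j, c x B U (t j) * z j := by
  have h1 : pi x p U e ∈ IA.1.ideal (W x A U) ⊓ (IsLocalRing.maximalIdeal A).map (c x A U) :=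
    ⟨(mem_PI p IA ht.surj U e).1 he, (rho_spec x A U).2.le (by rw [RingHom.mem_ker, rho_pi, hρ])⟩
  have h2 := HilbRing.inf_map_le (c x A U) (flat_quotient x IA.1 IA.2.1 U) _ h1
  have h3 : (IsLocalRing.maximalIdeal A).map (c x A U) * IA.1.ideal (W x A U) = (mP p IA U).map (pi x p U) := by
    rw [mP, Ideal.map_mul, Ideal.map_map, show (pi x p U).comp (c x B U) = (c x A U).comp p.toAlgHom.toRingHom from
      RingHom.ext fun b => pi_c x p U b, ← Ideal.map_map, IsLocalRing.map_maximalIdeal_of_surjective _ ht.surj,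
      show (PI p IA).ideal (W x B U) = (IA.1.ideal (W x A U)).comap (pi x p U) from
        Ideal.ext fun a => mem_PI p IA ht.surj U a, Ideal.map_comap_of_surjective _ (pi_spec x p ht.surj U).1]
  rw [h3] at h2
  obtain ⟨μ, hμ, hμ'⟩ := (Ideal.mem_map_iff_of_surjective _ (pi_spec x p ht.surj U).1).1 h2
  obtain ⟨z, hz⟩ := ker_pi ht U (e - μ) (by rw [map_sub, hμ', sub_self])
  exact ⟨μ, z, hμ, by rw [← hz, add_sub_cancel]⟩

include ht in
theorem rho_mem_of_mem_mP (U : X.affineOpens) (z : Fin n → Γ(XA x B, (W x B U).1))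
    (hz : ∑ j, c x B U (t j) * z j ∈ mP p IA U) (l : Fin n) : rho x B U (z l) ∈ I₀.ideal U := by
  classical
  let K : Ideal B := Ideal.span (Set.range fun j : {j : Fin n // j ≠ l} => t j.1)
  have hKm : K ≤ IsLocalRing.maximalIdeal B := Ideal.span_le.2 (Set.range_subset_iff.2 fun j => mem_m ht j.1)
  have hKp : K ≤ RingHom.ker p.toAlgHom := Ideal.span_le.2 (Set.range_subset_iff.2 fun j => p_t ht j.1)
  let q : B ⟶ quot B K hKm := quotMk B K hKm
  let p' : quot B K hKm ⟶ A := quotFactor hKm p hKp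
  have hqp : q ≫ p' = p := quotMk_quotFactor hKm p hKp
  have hq : Function.Surjective q := quotMk_surjective B K hKm
  have hp' : Function.Surjective p' := fun a => by
    obtain ⟨b, hb⟩ := ht.surj a
    exact ⟨q b, hb⟩
  have hker : RingHom.ker p'.toAlgHom.toRingHom = Ideal.span {q (t l)} := by
    refine le_antisymm (fun b hb => ?_) (Ideal.span_le.2 (Set.singleton_subset_iff.2 (p_t ht l)))
    obtain ⟨b, rfl⟩ := hq b
    have hb' : b ∈ RingHom.ker p.toAlgHom.toRingHom := hb
    rw [ht.span] at hb'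
    have hle : Ideal.span (Set.range t) ≤ (Ideal.span {q (t l)}).comap q.toAlgHom := by
      refine Ideal.span_le.2 (Set.range_subset_iff.2 fun j => ?_)
      by_cases hj : j = l
      · subst hj; exact Ideal.subset_span rfl
      · show q (t j) ∈ (Ideal.span {q (t l)} : Ideal (quot B K hKm))
        rw [show q (t j) = 0 from Ideal.Quotient.eq_zero_iff_mem.2 (Ideal.subset_span ⟨⟨j, hj⟩, rfl⟩)]
        exact zero_mem _
    exact hle hb'
  have ht0 : q (t l) ≠ 0 := fun h0 => by
    have h1 : t l ∈ K := Ideal.Quotient.eq_zero_iff_mem.1 h0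
    obtain ⟨v, hv⟩ := Ideal.mem_span_range_iff_exists_fun.1 h1
    have h2 := ht.indep (fun j => if h : j = l then -1 else v ⟨j, h⟩) (by
      rw [← Finset.add_sum_erase _ _ (Finset.mem_univ l), dif_pos rfl]
      have h3 : ∑ j ∈ Finset.univ.erase l, t j * (if h : j = l then -1 else v ⟨j, h⟩) = t l := by
        refine Eq.trans ?_ hv
        rw [Finset.sum_subtype (Finset.univ.erase l) (p := fun j => j ≠ l) (by simp)]
        exact Finset.sum_congr rfl fun j _ => by rw [dif_neg j.2, mul_comm]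
      rw [h3, mul_neg, mul_one, neg_add_cancel]) l
    rw [dif_pos rfl] at h2
    exact (IsLocalRing.maximalIdeal.isMaximal B).ne_top ((Ideal.eq_top_iff_one _).2 (neg_mem_iff.1 h2))
  have hm0 : IsLocalRing.maximalIdeal (quot B K hKm) * Ideal.span {q (t l)} = ⊥ := by
    refine le_bot_iff.1 (Ideal.mul_le.2 fun y hy w hw => ?_)
    obtain ⟨y, rfl⟩ := hq y
    obtain ⟨w', rfl⟩ := Ideal.mem_span_singleton'.1 hw
    have hy' : y ∈ IsLocalRing.maximalIdeal B := by
      rw [mem_maximalIdeal_iff] at hy ⊢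
      rwa [res_app] at hy
    rw [Ideal.mem_bot, mul_left_comm, ← map_mul q.toAlgHom, ht.kill y hy', map_zero, mul_zero]
  let σ := sit x p' hp' (q (t l)) hker ht0 hm0 U
  have h := HilbObsRing.rho_mem_of_mem_mul σ (flat_quotient x IA.1 IA.2.1 U) (pi x q U (z l)) (by
    show c x _ U (q (t l)) * pi x q U (z l) ∈
      (IsLocalRing.maximalIdeal (quot B K hKm)).map (c x _ U) * (IA.1.ideal (W x A U)).comap (pi x p' U)
    have h0 : ∀ j, j ≠ l → c x _ U (q (t j)) = 0 := fun j hj => by
      rw [show q (t j) = 0 from Ideal.Quotient.eq_zero_iff_mem.2 (Ideal.subset_span ⟨⟨j, hj⟩, rfl⟩), map_zero]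
    have h1 : pi x q U (∑ j, c x B U (t j) * z j) = c x _ U (q (t l)) * pi x q U (z l) := by
      rw [map_sum, Finset.sum_eq_single l (fun j _ hj => by rw [map_mul, pi_c, h0 j hj, zero_mul]) (by simp),
        map_mul, pi_c]
    rw [← h1]
    have h2 := Ideal.mem_map_of_mem (pi x q U) hz
    rw [mP, Ideal.map_mul, Ideal.map_map, show (pi x q U).comp (c x B U) = (c x _ U).comp q.toAlgHom.toRingHom from
      RingHom.ext fun b => pi_c x q U b, ← Ideal.map_map] at h2
    refine Ideal.mul_mono (Ideal.map_mono ?_) (Ideal.map_le_iff_le_comap.2 fun a ha => ?_) h2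
    · exact le_of_eq (IsLocalRing.map_maximalIdeal_of_surjective _ hq)
    · show pi x p' U (pi x q U a) ∈ IA.1.ideal (W x A U)
      rw [pi_comp, hqp]
      exact (mem_PI p IA ht.surj U a).1 ha)
  have h' : rho x B U (z l) ∈ (IA.1.ideal (W x A U)).map (rho x A U) := by
    rw [← rho_pi x q U (z l)]
    exact h
  rwa [← comap_incl_ideal, IA.2.2] at h'

variable {φ : G (PI p IA) ⟶ ClSub.idealMod I₀} (hφ : IsPhi p IA φ)

include hφ in
theorem rho_el_kernel (U : X.affineOpens) (kk : Γ(kernel φ, U.1)) :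
    rho x B U (el (PI p IA) U ((kernel.ι φ).app U.1 kk)) = 0 := by
  have e0 : φ.app U.1 ((kernel.ι φ).app U.1 kk) = 0 := congr(($(kernel.condition φ)).app U.1 kk)
  rw [← hφ.2, e0, map_zero]

/-- `κ` takes the `l`-th coefficient. -/
def IsKappa (t : Fin n → B) (l : Fin n) (κ : kernel φ ⟶ ClSub.quotMod I₀) : Prop :=
  ∀ (U : X.affineOpens) kk μ (z : Fin n → Γ(XA x B, (W x B U).1)), μ ∈ mP p IA U →
    el (PI p IA) U ((kernel.ι φ).app U.1 kk) = μ + ∑ j, c x B U (t j) * z j →
      κ.app U.1 kk = ι' I₀ U.1 (rho x B U (z l))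

theorem mP_map {U V : X.affineOpens} (hV : V.1 ≤ U.1) {μ : Γ(XA x B, (W x B U).1)} (hμ : μ ∈ mP p IA U) :
    (XA x B).presheaf.map (homOfLE (W_mono x B hV)).op μ ∈ mP p IA V := by
  have h1 := Ideal.mem_map_of_mem ((XA x B).presheaf.map (homOfLE (W_mono x B hV)).op).hom hμ
  rw [mP] at h1 ⊢
  rw [Ideal.map_mul, Ideal.map_map, show (((XA x B).presheaf.map (homOfLE (W_mono x B hV)).op).hom).comp (c x B U) = c x B V
    from RingHom.ext (c_map x B hV)] at h1
  exact Ideal.mul_mono le_rfl (le_of_eq ((PI p IA).map_ideal (U := W x B V) (V := W x B U) (W_mono x B hV))) h1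

include ht hφ in
theorem exists_kappa (l : Fin n) : ∃ κ, IsKappa (φ := φ) t l κ := by
  classical
  choose fμ fz hfμ hfe using fun U kk =>
    exists_rep (IA := IA) ht U _ (el_mem _ U _) (rho_el_kernel hφ U kk)
  let κf : ∀ U : X.affineOpens, Γ(kernel φ, U.1) → Γ(ClSub.quotMod I₀, U.1) := fun U kk =>
    ι' I₀ U.1 (rho x B U (fz U kk l))
  have hval : ∀ U kk μ (z : Fin n → Γ(XA x B, (W x B U).1)), μ ∈ mP p IA U →
      el (PI p IA) U ((kernel.ι φ).app U.1 kk) = μ + ∑ j, c x B U (t j) * z j →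
      κf U kk = ι' I₀ U.1 (rho x B U (z l)) := fun U kk μ z hμ he => by
    show I₀.subschemeι.app U.1 (rho x B U (fz U kk l)) = I₀.subschemeι.app U.1 (rho x B U (z l))
    have h := rho_mem_of_mem_mP (IA := IA) ht U (fun j => fz U kk j - z j) (by
      have e : ∑ j, c x B U (t j) * (fz U kk j - z j) = μ - fμ U kk := by
        simp only [mul_sub, Finset.sum_sub_distrib]
        linear_combination (hfe U kk).symm.trans he
      rw [e]
      exact sub_mem hμ (hfμ U kk)) l
    exact (app_eq_iff U _ _).2 (by rw [map_sub] at h; exact h)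
  have hadd : ∀ U a b, κf U (a + b) = κf U a + κf U b := fun U a b => by
    rw [hval U (a + b) (fμ U a + fμ U b) (fz U a + fz U b) (add_mem (hfμ U a) (hfμ U b)) (by
      rw [map_add, map_add, hfe U a, hfe U b]
      simp only [Pi.add_apply, mul_add, Finset.sum_add_distrib]
      ring), Pi.add_apply, map_add, map_add]
  obtain ⟨κ, hκ⟩ := FamilyHom.exists_hom_of_family (fun U => AddMonoidHom.mk' (κf U) (hadd U))
    (fun U V hV kk => by
      show (ClSub.quotMod I₀).presheaf.map (homOfLE hV).op (κf U kk) =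
        κf V ((kernel φ).presheaf.map (homOfLE hV).op kk)
      rw [hval V _ _ (fun j => (XA x B).presheaf.map (homOfLE (W_mono x B hV)).op (fz U kk j)) (mP_map hV (hfμ U kk)) (by
        rw [HilbMod.app_map, el_map _ U V hV, hfe U kk, map_add, map_sum]
        exact congrArg _ (Finset.sum_congr rfl fun j _ => by rw [map_mul, c_map x B hV])), rho_map x B hV]
      exact ι'_map I₀ hV _)
    (fun U r kk => by
      show κf U (r • kk) = r • κf U kk
      rw [hval U _ (fstPull x B U r * fμ U kk) (fun j => fstPull x B U r * fz U kk j) (Ideal.mul_mem_left _ _ (hfμ U kk))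
        (by rw [Scheme.Modules.Hom.app_smul, el_smul, hfe U kk, mul_add, Finset.mul_sum]
            exact congrArg _ (Finset.sum_congr rfl fun j _ => mul_left_comm _ _ _)), map_mul, rho_fst]
      exact ι'_mul I₀ _ _ _)
  exact ⟨κ, fun U kk μ z hμ he => (hκ U kk).trans (hval U kk μ z hμ he)⟩

/-- `I₀` is locally cut out by an `H₁`-regular sequence. -/
def LocReg (I₀ : X.IdealSheafData) : Prop :=
  ∀ y : X, ∃ U : X.affineOpens, y ∈ U.1 ∧ ∃ (r : ℕ) (f : Fin r → Γ(X, U.1)),
    CAlgX.IsH1Regular f ∧ Ideal.span (Set.range f) = I₀.ideal U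

/-- Locally on `X`, lifts of generators of a deformation have no new relations. -/
def LocUnob (x : X ⟶ specPt k) (I₀ : X.IdealSheafData) : Prop :=
  ∀ y : X, ∃ U : X.affineOpens, y ∈ U.1 ∧ ∀ {B A : Art k k} (p : B ⟶ A) {n : ℕ} (t : Fin n → B),
    KerBasis p t → ∀ IA : (localHilb X x I₀).obj A, ∃ (r : ℕ) (Fb : Fin r → Γ(XA x B, (W x B U).1)),
      Ideal.span (Set.range fun i => pi x p U (Fb i)) = IA.1.ideal (W x A U) ∧
        ∀ (v : Fin r → Γ(XA x B, (W x B U).1)) (z : Fin n → Γ(XA x B, (W x B U).1)),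
          ∑ i, v i * Fb i + ∑ j, c x B U (t j) * z j = 0 → ∀ l, rho x B U (z l) ∈ I₀.ideal U

/-- Lifts of an `H₁`-regular sequence of generators have no new relations. -/
theorem unob_of_regular (x : X ⟶ specPt k) {I₀ : X.IdealSheafData} (U : X.affineOpens) {r : ℕ} (f : Fin r → Γ(X, U.1))
    (hf : CAlgX.IsH1Regular f) (hfI : Ideal.span (Set.range f) = I₀.ideal U)
    {B A : Art k k} (p : B ⟶ A) {n : ℕ} (t : Fin n → B) (ht : KerBasis p t) (IA : (localHilb X x I₀).obj A) :
    ∃ (r : ℕ) (Fb : Fin r → Γ(XA x B, (W x B U).1)),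
      Ideal.span (Set.range fun i => pi x p U (Fb i)) = IA.1.ideal (W x A U) ∧
        ∀ (v : Fin r → Γ(XA x B, (W x B U).1)) (z : Fin n → Γ(XA x B, (W x B U).1)),
          ∑ i, v i * Fb i + ∑ j, c x B U (t j) * z j = 0 → ∀ l, rho x B U (z l) ∈ I₀.ideal U := by
  classical
  let R := Γ(XA x B, (W x B U).1)
  choose F hFP hFρ using fun i => (Ideal.mem_map_iff_of_surjective _ (rho_spec x A U).1).1 (show f i ∈
    (IA.1.ideal (W x A U)).map (rho x A U) by
      rw [← comap_incl_ideal, IA.2.2, ← hfI]; exact Ideal.subset_span ⟨i, rfl⟩)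
  choose Fb hFb using fun i => (pi_spec x p ht.surj U).1 (F i)
  have hFρ' : ∀ i, rho x B U (Fb i) = f i := fun i => by rw [← rho_pi x p U, hFb, hFρ]
  have hspan : Ideal.span (Set.range F) = IA.1.ideal (W x A U) :=
    HilbObsKoszul.span_eq (c x A U) (ρA := rho x A U) _ (flat_quotient x IA.1 IA.2.1 U) (rho_spec x A U).1
      (rho_spec x A U).2 F hFP (by
        rw [show (fun i => rho x A U (F i)) = f from funext hFρ, hfI, ← comap_incl_ideal, IA.2.2])
  have hwd : ∀ (v : Fin r → R) (z : Fin n → R), ∑ i, v i * Fb i + ∑ j, c x B U (t j) * z j = 0 →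
      ∀ l, rho x B U (z l) ∈ I₀.ideal U := fun v z h0 l => by
    have h1 : ∑ i, pi x p U (v i) * F i = 0 := by
      have h := congrArg (pi x p U) h0
      rw [map_add, map_sum, map_sum, map_zero, Finset.sum_eq_zero (s := Finset.univ)
        (f := fun j => pi x p U (c x B U (t j) * z j)) (fun j _ => by rw [map_mul, pi_c, p_t ht j, map_zero, zero_mul]),
        add_zero] at h
      rw [← h]
      exact Finset.sum_congr rfl fun i _ => by rw [map_mul, hFb]
    have h2 := HilbObsKoszul.mem_kosz (c x A U) (flat_c x A U) (rho_spec x A U).1 (rho_spec x A U).2 F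
      (by rwa [show (fun i => rho x A U (F i)) = f from funext hFρ]) _ h1
    obtain ⟨K, hK, hK'⟩ := HilbObsKoszul.exists_lift_kosz (pi x p U) (pi_spec x p ht.surj U).1 Fb
      (a := fun i => pi x p U (v i)) (by rwa [show (fun i => pi x p U (Fb i)) = F from funext hFb])
    choose s hs using fun i => ker_pi ht U (v i - K i) (by rw [map_sub, hK', sub_self])
    have h3 : ∑ j, c x B U (t j) * (z j + ∑ i, s i j * Fb i) = 0 := by
      have e : ∑ i, v i * Fb i = ∑ i, (v i - K i) * Fb i := by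
        simp only [sub_mul, Finset.sum_sub_distrib, HilbObsKoszul.sum_eq_zero_of_mem hK, sub_zero]
      rw [← h0, e]
      simp only [hs, mul_add, Finset.sum_add_distrib, Finset.mul_sum, Finset.sum_mul]
      rw [Finset.sum_comm, add_comm]
      simp only [mul_assoc]
    have h4 := HilbObsKoszul.mem_map_of_sum_eq_zero (c x B U) (flat_c x B U) t ht.indep _ h3 l
    have h5 := rho_eq_zero_of_m h4
    rw [map_add, map_sum] at h5
    rw [eq_neg_of_add_eq_zero_left h5]
    refine neg_mem (sum_mem fun i _ => ?_)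
    rw [map_mul, hFρ' i]
    exact Ideal.mul_mem_left _ _ (hfI ▸ Ideal.subset_span ⟨i, rfl⟩)
  exact ⟨r, Fb, by rw [show (fun i => pi x p U (Fb i)) = F from funext hFb, hspan], hwd⟩

/-- Complete intersections are locally unobstructed. -/
theorem locUnob_of_locReg (x : X ⟶ specPt k) {I₀ : X.IdealSheafData} (hreg : LocReg I₀) : LocUnob x I₀ := fun y => by
  obtain ⟨U, hyU, r, f, hf, hfI⟩ := hreg y
  exact ⟨U, hyU, fun p _ t ht IA => unob_of_regular x U f hf hfI p t ht IA⟩

include ht hφ in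
theorem locLift (hreg : LocUnob x I₀) (l : Fin n) (κ : kernel φ ⟶ ClSub.quotMod I₀) (hκ : IsKappa (φ := φ) t l κ) :
    NormalLib.LocalExt.LocLift _ _ φ κ := by
  classical
  intro y
  obtain ⟨U, hyU, hU⟩ := hreg y
  obtain ⟨r, Fb, hspan, hwd'⟩ := hU p t ht IA
  refine ⟨Spec Γ(X, U.1), U.2.fromSpec, inferInstance, by rw [U.2.range_fromSpec]; exact hyU, ?_⟩
  let R := Γ(XA x B, (W x B U).1)
  let P := PI p IA
  let F := fun i => pi x p U (Fb i)
  have hFb : ∀ i, pi x p U (Fb i) = F i := fun i => rfl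
  have hdec : ∀ e ∈ P.ideal (W x B U), ∃ (v : Fin r → R) (z : Fin n → R),
      e = ∑ i, v i * Fb i + ∑ j, c x B U (t j) * z j := fun e he => by
    have h := (mem_PI p IA ht.surj U e).1 he
    rw [← hspan] at h
    obtain ⟨w, hw⟩ := Ideal.mem_span_range_iff_exists_fun.1 h
    choose v hv using fun i => (pi_spec x p ht.surj U).1 (w i)
    obtain ⟨z, hz⟩ := ker_pi ht U (e - ∑ i, v i * Fb i) (by
      rw [map_sub, sub_eq_zero, ← hw, map_sum]
      exact Finset.sum_congr rfl fun i _ => by rw [map_mul, hv, hFb])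
    exact ⟨v, z, by rw [← hz, add_sub_cancel]⟩
  have hwd : ∀ (v : Fin r → R) (z : Fin n → R), ∑ i, v i * Fb i + ∑ j, c x B U (t j) * z j = 0 →
      rho x B U (z l) ∈ I₀.ideal U := fun v z h0 => hwd' v z h0 l
  choose fv fz hfe using fun s : Γ(G P, U.1) => hdec _ (el_mem P U s)
  have hval : ∀ s (v : Fin r → R) (z : Fin n → R), el P U s = ∑ i, v i * Fb i + ∑ j, c x B U (t j) * z j →
      ι' I₀ U.1 (rho x B U (fz s l)) = ι' I₀ U.1 (rho x B U (z l)) := fun s v z he => by
    refine (app_eq_iff U _ _).2 ?_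
    rw [← map_sub]
    refine hwd (fun i => fv s i - v i) (fun j => fz s j - z j) ?_
    simp only [sub_mul, mul_sub, Finset.sum_sub_distrib]
    linear_combination (hfe s).symm.trans he
  let f' : Γ(G P, U.1) →ₗ[Γ(X, U.1)] Γ(ClSub.quotMod I₀, U.1) :=
    { toFun := fun s => ι' I₀ U.1 (rho x B U (fz s l))
      map_add' := fun a b => by
        rw [hval (a + b) (fv a + fv b) (fz a + fz b) (by
          rw [map_add, hfe a, hfe b]
          simp only [Pi.add_apply, mul_add, add_mul, Finset.sum_add_distrib]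
          ring), Pi.add_apply, map_add, map_add]
      map_smul' := fun a s => by
        rw [hval (a • s) (fun i => fstPull x B U a * fv s i) (fun j => fstPull x B U a * fz s j) (by
          rw [el_smul, hfe s, mul_add, Finset.mul_sum, Finset.mul_sum]
          exact congrArg₂ _ (Finset.sum_congr rfl fun i _ => (mul_assoc _ _ _).symm)
            (Finset.sum_congr rfl fun j _ => mul_left_comm _ _ _)), map_mul, rho_fst]
        exact ι'_mul I₀ _ _ _ }
  have hG : Coh.IsQCoh (G P) := by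
    haveI : IsAffineHom (pullback.fst x (specOver B)) :=
      MorphismProperty.pullback_fst _ _ (isAffineHom_of_isAffine _)
    exact QCoh.isQCoh_pushforward _ (QCoh.isQCoh_kernel (PnCoh.isQCoh_structureModule _)
      (QCoh.isQCoh_pushforward P.subschemeι (PnCoh.isQCoh_structureModule _)) _)
  have hI : Coh.IsQCoh (ClSub.idealMod I₀) := QCoh.isQCoh_kernel (PnCoh.isQCoh_structureModule _)
    (QCoh.isQCoh_pushforward I₀.subschemeι (PnCoh.isQCoh_structureModule _)) _
  refine NormalLib.Chart.exists_restrict_ext U.2 (QCoh.isQCoh_kernel hG hI φ) hG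
    (QCoh.isQCoh_pushforward I₀.subschemeι (PnCoh.isQCoh_structureModule _)) (kernel.ι φ) κ f' fun kk => ?_
  show ι' I₀ U.1 (rho x B U (fz ((kernel.ι φ).app U.1 kk) l)) = κ.app U.1 kk
  obtain ⟨μ, z, hμ, he⟩ := exists_rep (IA := IA) ht U _ (el_mem _ U _) (rho_el_kernel hφ U kk)
  rw [hκ U kk μ z hμ he]
  obtain ⟨v, hv⟩ : ∃ v : Fin r → R, μ = ∑ i, v i * Fb i := by
    have key : ∀ w ∈ mP p IA U, ∃ v : Fin r → R, w = ∑ i, v i * Fb i := fun w hw => by
      refine Submodule.mul_induction_on hw (fun a ha b hb => ?_) ?_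
      · obtain ⟨v, z, rfl⟩ := hdec b hb
        refine ⟨fun i => a * v i, ?_⟩
        rw [mul_add, Finset.mul_sum, Finset.mul_sum, Finset.sum_eq_zero (s := Finset.univ)
          (f := fun j => a * (c x B U (t j) * z j)) (fun j _ => by rw [← mul_assoc, mul_t_eq_zero ht ha, zero_mul]),
          add_zero]
        exact Finset.sum_congr rfl fun i _ => (mul_assoc _ _ _).symm
      · rintro a b ⟨v, rfl⟩ ⟨w, rfl⟩
        exact ⟨v + w, by simp only [Pi.add_apply, add_mul, Finset.sum_add_distrib]⟩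
    exact key μ hμ
  exact hval _ v z (by rw [he, hv])

end Groth.Agent.ArtFunLib.HilbObs
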