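import Groth.Agent.ArtFlat.Basic
import Groth.Agent.ArtFunLib.HilbRing

/-! Lifting flat quotients along small extensions: ring lemmas. -/

set_option autoImplicit false
universe u v w

namespace Groth.Agent.ArtFunLib.HilbObsRing

/-- The data of a small extension of bases with compatible algebras. -/
structure Sit (B A : Type u) [CommRing B] [CommRing A] [IsLocalRing A] (R RA : Type v) (R₀ : Type w)
    [CommRing R] [CommRing RA] [CommRing R₀] where
  p : B →+* A
  m : Ideal B
  t : B
  c : B →+* R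
  cA : A →+* RA
  π : R →+* RA
  ρ : R →+* R₀
  ρA : RA →+* R₀
  hp : Function.Surjective p
  hker : RingHom.ker p = Ideal.span {t}
  hmt : ∀ a ∈ m, a * t = 0
  hm : ∀ a, t * a = 0 → a ∈ m
  htm : t ∈ m
  hmA : m.map p = IsLocalRing.maximalIdeal A
  hnil : IsNilpotent (IsLocalRing.maximalIdeal A)
  hflat : c.Flat
  hπ : Function.Surjective π
  hπker : RingHom.ker π = Ideal.span {c t}
  hπc : ∀ b, π (c b) = cA (p b)
  hρπ : ∀ r, ρA (π r) = ρ r
  hρker : RingHom.ker ρ = m.map c
  hρAker : RingHom.ker ρA = (IsLocalRing.maximalIdeal A).map cA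

variable {B A : Type u} [CommRing B] [CommRing A] [IsLocalRing A] {R RA : Type v} {R₀ : Type w}
  [CommRing R] [CommRing RA] [CommRing R₀] (σ : Sit B A R RA R₀) {IA : Ideal RA}

theorem exists_repr {n : ℕ} {g : Fin n → B} (P : Ideal R) (x : R)
    (hx : x ∈ (Ideal.span (Set.range g)).map σ.c * P) :
    ∃ a : Fin n → R, (∀ l, a l ∈ P) ∧ x = ∑ l, σ.c (g l) * a l := by
  refine Submodule.mul_induction_on hx (fun y hy q hq => ?_) ?_
  · rw [Ideal.map_span, ← Set.range_comp] at hy
    obtain ⟨r, rfl⟩ := Ideal.mem_span_range_iff_exists_fun.1 hy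
    exact ⟨fun l => r l * q, fun l => P.mul_mem_left _ hq, by
      rw [Finset.sum_mul]; exact Finset.sum_congr rfl fun l _ => by simp only [Function.comp_apply]; ring⟩
  · rintro y z ⟨a, ha, rfl⟩ ⟨b, hb, rfl⟩
    exact ⟨a + b, fun l => add_mem (ha l) (hb l), by
      rw [← Finset.sum_add_distrib]; exact Finset.sum_congr rfl fun l _ => by rw [Pi.add_apply, mul_add]⟩

/-- An element `t z` of `m P` has `ρ z` in the ideal of the closed fibre. -/
theorem rho_mem_of_mem_mul [IsNoetherianRing B] (hIA : ((Ideal.Quotient.mk IA).comp σ.cA).Flat) (z : R)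
    (hz : σ.c σ.t * z ∈ σ.m.map σ.c * IA.comap σ.π) : σ.ρ z ∈ IA.map σ.ρA := by
  classical
  obtain ⟨n, g, hg⟩ := Submodule.fg_iff_exists_fin_generating_family.1 (IsNoetherian.noetherian σ.m)
  have hg' : Ideal.span (Set.range g) = σ.m := hg
  obtain ⟨a, ha, he⟩ := exists_repr σ (g := g) (IA.comap σ.π) _ (by rw [hg']; exact hz)
  letI : Algebra B R := σ.c.toAlgebra
  haveI : Module.Flat B R := σ.hflat
  have hrel : ∑ i, (Fin.cons σ.t g : Fin (n + 1) → B) i • (Fin.cons (-z) a : Fin (n + 1) → R) i = 0 := by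
    rw [Fin.sum_univ_succ]
    simp only [Fin.cons_zero, Fin.cons_succ]
    show σ.c σ.t * -z + ∑ l, σ.c (g l) * a l = 0
    rw [← he]; ring
  obtain ⟨K, b, y, hx, hb⟩ := Module.Flat.isTrivialRelation_of_sum_smul_eq_zero
    (f := (Fin.cons σ.t g : Fin (n + 1) → B)) (x := (Fin.cons (-z) a : Fin (n + 1) → R)) hrel
  letI : Algebra A (RA ⧸ IA) := ((Ideal.Quotient.mk IA).comp σ.cA).toAlgebra
  haveI : Module.Flat A (RA ⧸ IA) := hIA
  haveI : Module.Free A (RA ⧸ IA) := ArtFlat.free_of_flat σ.hnil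
  let bs := Module.Free.chooseBasis A (RA ⧸ IA)
  let q : R → RA ⧸ IA := fun r => Ideal.Quotient.mk IA (σ.π r)
  have hq : ∀ (β : Fin K → B), q (∑ j, σ.c (β j) * y j) = ∑ j, σ.p (β j) • q (y j) := fun β => by
    show Ideal.Quotient.mk IA (σ.π (∑ j, _)) = _
    rw [map_sum, map_sum]
    refine Finset.sum_congr rfl fun j _ => ?_
    rw [map_mul, map_mul, σ.hπc]
    rfl
  have h0 : ∀ l, ∑ j, σ.p (b (Fin.succ l) j) • q (y j) = 0 := fun l => by
    rw [← hq]
    have e : a l = ∑ j, σ.c (b (Fin.succ l) j) * y j := by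
      have := hx (Fin.succ l)
      simp only [Fin.cons_succ] at this
      exact this
    show Ideal.Quotient.mk IA (σ.π _) = 0
    rw [← e, Ideal.Quotient.eq_zero_iff_mem]
    exact ha l
  have hqz : q (-z) = ∑ j, σ.p (b 0 j) • q (y j) := by
    rw [← hq]
    have := hx 0
    simp only [Fin.cons_zero] at this
    exact congrArg q this
  have hcoord : ∀ i, bs.repr (q (-z)) i ∈ IsLocalRing.maximalIdeal A := fun i => by
    choose e he' using fun j => σ.hp (bs.repr (q (y j)) i)
    have h1 : bs.repr (q (-z)) i = σ.p (∑ j, b 0 j * e j) := by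
      rw [hqz, map_sum, map_sum, Finsupp.finsetSum_apply]
      exact Finset.sum_congr rfl fun j _ => by rw [map_smul, Finsupp.smul_apply, smul_eq_mul, map_mul, he']
    have h2 : ∀ l, σ.p (∑ j, b (Fin.succ l) j * e j) = 0 := fun l => by
      have := congrArg (fun v => bs.repr v i) (h0 l)
      simp only [map_sum, map_zero, Finsupp.finsetSum_apply, map_smul, Finsupp.smul_apply, smul_eq_mul,
        Finsupp.zero_apply] at this
      rw [map_sum, ← this]
      exact Finset.sum_congr rfl fun j _ => by rw [map_mul, he']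
    rw [h1, ← σ.hmA]
    refine Ideal.mem_map_of_mem _ (σ.hm _ ?_)
    have h3 : ∀ j, σ.t * b 0 j + ∑ l, g l * b (Fin.succ l) j = 0 := fun j => by
      have := hb j
      rw [Fin.sum_univ_succ] at this
      simpa only [Fin.cons_zero, Fin.cons_succ] using this
    have h4 : ∀ l, g l * (∑ j, b (Fin.succ l) j * e j) = 0 := fun l => by
      have := RingHom.mem_ker.2 (h2 l)
      rw [σ.hker] at this
      obtain ⟨d, hd⟩ := Ideal.mem_span_singleton'.1 this
      rw [← hd, mul_left_comm, σ.hmt _ (hg' ▸ Ideal.subset_span ⟨l, rfl⟩), mul_zero]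
    calc σ.t * ∑ j, b 0 j * e j = ∑ j, (σ.t * b 0 j) * e j := by
          rw [Finset.mul_sum]; exact Finset.sum_congr rfl fun j _ => by ring
      _ = ∑ j, (-∑ l, g l * b (Fin.succ l) j) * e j := by
          exact Finset.sum_congr rfl fun j _ => by rw [eq_neg_of_add_eq_zero_left (h3 j)]
      _ = -∑ l, g l * (∑ j, b (Fin.succ l) j * e j) := by
          simp only [neg_mul, Finset.sum_neg_distrib, Finset.sum_mul, Finset.mul_sum, mul_assoc]
          rw [Finset.sum_comm]
      _ = 0 := by rw [Finset.sum_eq_zero fun l _ => h4 l, neg_zero]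
  have hmem : q (-z) ∈ ((IsLocalRing.maximalIdeal A).map σ.cA).map (Ideal.Quotient.mk IA) := by
    rw [← bs.linearCombination_repr (q (-z)), Finsupp.linearCombination_apply, Finsupp.sum]
    refine sum_mem fun i _ => ?_
    show Ideal.Quotient.mk IA (σ.cA _) * _ ∈ _
    exact Ideal.mul_mem_right _ _ (Ideal.mem_map_of_mem _ (Ideal.mem_map_of_mem _ (hcoord i)))
  obtain ⟨r, hr, hr'⟩ := (Ideal.mem_map_iff_of_surjective _ Ideal.Quotient.mk_surjective).1 hmem
  have hd : σ.π (-z) - r ∈ IA := Ideal.Quotient.eq.1 hr'.symm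
  have h5 := Ideal.mem_map_of_mem σ.ρA hd
  rw [map_sub, RingHom.mem_ker.1 (σ.hρAker.symm ▸ hr : r ∈ RingHom.ker σ.ρA), sub_zero, σ.hρπ, map_neg] at h5
  exact neg_mem_iff.1 h5

theorem map_comap_pi : (IA.comap σ.π).map σ.π = IA := Ideal.map_comap_of_surjective _ σ.hπ _

theorem map_m : (σ.m.map σ.c).map σ.π = (IsLocalRing.maximalIdeal A).map σ.cA := by
  rw [Ideal.map_map, ← σ.hmA, Ideal.map_map, show σ.π.comp σ.c = σ.cA.comp σ.p from RingHom.ext σ.hπc]

/-- The kernel of `P → I₀`. -/
theorem inf_ker_le (hIA : ((Ideal.Quotient.mk IA).comp σ.cA).Flat) :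
    IA.comap σ.π ⊓ RingHom.ker σ.ρ ≤ σ.m.map σ.c * IA.comap σ.π ⊔ Ideal.span {σ.c σ.t} := by
  rintro a ⟨ha, hρa⟩
  have h1 : σ.π a ∈ IA ⊓ (IsLocalRing.maximalIdeal A).map σ.cA := by
    refine ⟨ha, ?_⟩
    rw [← map_m σ, ← σ.hρker]
    exact Ideal.mem_map_of_mem _ hρa
  have h2 := HilbRing.inf_map_le σ.cA hIA (IsLocalRing.maximalIdeal A) h1
  rw [← map_m σ] at h2
  conv at h2 => arg 1; rw [← map_comap_pi σ (IA := IA), ← Ideal.map_mul]
  obtain ⟨μ, hμ, he⟩ := (Ideal.mem_map_iff_of_surjective _ σ.hπ).1 h2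
  rw [← add_sub_cancel μ a]
  refine Submodule.add_mem_sup hμ ?_
  rw [← σ.hπker, RingHom.mem_ker, map_sub, he, sub_self]

/-- The local criterion for a lift of a flat quotient. -/
theorem flat_of_lift (hIA : ((Ideal.Quotient.mk IA).comp σ.cA).Flat) (hρ : Function.Surjective σ.ρ)
    (Q : Ideal R) (hQ : Q.map σ.π = IA)
    (hQt : ∀ z, σ.c σ.t * z ∈ Q → σ.ρ z ∈ IA.map σ.ρA) : ((Ideal.Quotient.mk Q).comp σ.c).Flat := by
  classical
  letI : Algebra A (RA ⧸ IA) := ((Ideal.Quotient.mk IA).comp σ.cA).toAlgebra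
  haveI : Module.Flat A (RA ⧸ IA) := hIA
  haveI : Module.Free A (RA ⧸ IA) := ArtFlat.free_of_flat σ.hnil
  let bs := Module.Free.chooseBasis A (RA ⧸ IA)
  choose w hw using fun i => (Ideal.Quotient.mk_surjective.comp σ.hπ) (bs i)
  letI : Algebra B (R ⧸ Q) := ((Ideal.Quotient.mk Q).comp σ.c).toAlgebra
  let ψ := Finsupp.linearCombination B (fun i => Ideal.Quotient.mk Q (w i))
  let lift : (Module.Free.ChooseBasisIndex A (RA ⧸ IA) →₀ B) → R := fun e => e.sum fun i b => σ.c b * w i
  have hψ : ∀ e, ψ e = Ideal.Quotient.mk Q (lift e) := fun e => by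
    show Finsupp.linearCombination B _ e = _
    rw [Finsupp.linearCombination_apply, map_finsuppSum]
    refine Finset.sum_congr rfl fun i _ => ?_
    show _ = Ideal.Quotient.mk Q (σ.c (e i) * w i)
    rw [map_mul]; rfl
  have hq : ∀ e, Ideal.Quotient.mk IA (σ.π (lift e)) = bs.repr.symm (e.mapRange σ.p (map_zero _)) := fun e => by
    rw [bs.repr_symm_apply, Finsupp.linearCombination_apply,
      Finsupp.sum_mapRange_index (fun i => by simp), map_finsuppSum, map_finsuppSum]
    refine Finset.sum_congr rfl fun i _ => ?_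
    show Ideal.Quotient.mk IA (σ.π (σ.c (e i) * w i)) = _
    rw [map_mul, map_mul, σ.hπc]
    show _ = σ.p (e i) • bs i
    rw [← hw]
    rfl
  have hstep : ∀ r : R, ∃ e z, Ideal.Quotient.mk Q r = ψ e + Ideal.Quotient.mk Q (σ.c σ.t * z) := fun r => by
    let ζ := bs.repr (Ideal.Quotient.mk IA (σ.π r))
    let e : Module.Free.ChooseBasisIndex A (RA ⧸ IA) →₀ B :=
      Finsupp.onFinset ζ.support (fun i => if i ∈ ζ.support then Function.surjInv σ.hp (ζ i) else 0)
        (fun i hi => by by_contra h; exact hi (if_neg h))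
    have he : e.mapRange σ.p (map_zero _) = ζ := Finsupp.ext fun i => by
      rw [Finsupp.mapRange_apply, Finsupp.onFinset_apply]
      split_ifs with h
      · exact Function.surjInv_eq σ.hp _
      · rw [map_zero, Finsupp.notMem_support_iff.1 h]
    have h1 : σ.π (r - lift e) ∈ IA := by
      rw [← Ideal.Quotient.eq_zero_iff_mem, map_sub, map_sub, hq, he, LinearEquiv.symm_apply_apply, sub_self]
    rw [← hQ] at h1
    obtain ⟨qe, hqe, hqe'⟩ := (Ideal.mem_map_iff_of_surjective _ σ.hπ).1 h1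
    have h2 : r - lift e - qe ∈ RingHom.ker σ.π := by rw [RingHom.mem_ker, map_sub, hqe', sub_self]
    rw [σ.hπker] at h2
    obtain ⟨z, hz⟩ := Ideal.mem_span_singleton'.1 h2
    refine ⟨e, z, ?_⟩
    rw [hψ, ← map_add, Ideal.Quotient.eq, mul_comm (σ.c σ.t) z, hz]
    have : r - (lift e + (r - lift e - qe)) = qe := by ring
    rw [this]; exact hqe
  have hbij : Function.Bijective ψ := by
    refine ⟨(injective_iff_map_eq_zero _).2 fun e he => ?_, fun y => ?_⟩
    · rw [hψ, Ideal.Quotient.eq_zero_iff_mem] at he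
      have h1 : e.mapRange σ.p (map_zero _) = 0 := by
        apply bs.repr.symm.injective
        rw [← hq, map_zero, Ideal.Quotient.eq_zero_iff_mem, ← hQ]
        exact Ideal.mem_map_of_mem _ he
      have h2 : ∀ i, ∃ γ, e i = σ.t * γ := fun i => by
        have := DFunLike.congr_fun h1 i
        rw [Finsupp.mapRange_apply, Finsupp.zero_apply] at this
        have := RingHom.mem_ker.2 this
        rw [σ.hker] at this
        obtain ⟨d, hd⟩ := Ideal.mem_span_singleton'.1 this
        exact ⟨d, by rw [← hd, mul_comm]⟩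
      choose γ hγ using h2
      let e' : Module.Free.ChooseBasisIndex A (RA ⧸ IA) →₀ B :=
        Finsupp.onFinset e.support (fun i => if i ∈ e.support then γ i else 0)
          (fun i hi => by by_contra h; exact hi (if_neg h))
      have he' : e = σ.t • e' := Finsupp.ext fun i => by
        rw [Finsupp.smul_apply, Finsupp.onFinset_apply, smul_eq_mul]
        split_ifs with h
        · exact hγ i
        · rw [mul_zero, Finsupp.notMem_support_iff.1 h]
      have hl : lift e = σ.c σ.t * lift e' := by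
        show e.sum _ = _ * e'.sum _
        rw [he', Finsupp.sum_smul_index (fun i => by simp), Finsupp.mul_sum]
        exact Finsupp.sum_congr fun i _ => by rw [map_mul, mul_assoc]
      have h3 : σ.ρ (lift e') ∈ IA.map σ.ρA := hQt _ (hl ▸ he)
      rw [← σ.hρπ] at h3
      have hρA : Function.Surjective σ.ρA := fun v => by
        obtain ⟨r, hr⟩ := hρ v
        exact ⟨σ.π r, (σ.hρπ r).trans hr⟩
      obtain ⟨i, hi, hi'⟩ := (Ideal.mem_map_iff_of_surjective _ hρA).1 h3
      have h4 : σ.π (lift e') - i ∈ (IsLocalRing.maximalIdeal A).map σ.cA := by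
        rw [← σ.hρAker, RingHom.mem_ker, map_sub, hi', sub_self]
      have h5 : Ideal.Quotient.mk IA (σ.π (lift e')) ∈ ((IsLocalRing.maximalIdeal A).map σ.cA).map (Ideal.Quotient.mk IA) := by
        have := Ideal.mem_map_of_mem (Ideal.Quotient.mk IA) h4
        rwa [map_sub, (Ideal.Quotient.eq_zero_iff_mem).2 hi, sub_zero] at this
      have h6 : ∀ i, bs.repr (Ideal.Quotient.mk IA (σ.π (lift e'))) i ∈ IsLocalRing.maximalIdeal A := by
        rw [Ideal.map_map] at h5
        intro j
        have h7 : ∀ v ∈ (IsLocalRing.maximalIdeal A).map ((Ideal.Quotient.mk IA).comp σ.cA),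
            ∀ u : RA ⧸ IA, bs.repr (v * u) j ∈ IsLocalRing.maximalIdeal A := fun v hv => by
          induction hv using Submodule.span_induction with
          | mem v hv =>
            obtain ⟨a, ha, rfl⟩ := hv
            intro u
            show bs.repr (a • u) j ∈ _
            rw [map_smul, Finsupp.smul_apply, smul_eq_mul]
            exact Ideal.mul_mem_right _ _ ha
          | zero => intro u; rw [zero_mul, map_zero]; exact zero_mem _
          | add v₁ v₂ _ _ ih₁ ih₂ => intro u; rw [add_mul, map_add]; exact add_mem (ih₁ u) (ih₂ u)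
          | smul s v _ ih => intro u; rw [smul_eq_mul, mul_comm s, mul_assoc]; exact ih _
        simpa using h7 _ h5 1
      refine Finsupp.ext fun j => ?_
      have h8 := h6 j
      rw [hq, LinearEquiv.apply_symm_apply, Finsupp.mapRange_apply, ← σ.hmA] at h8
      obtain ⟨d, hd, hd'⟩ := (Ideal.mem_map_iff_of_surjective _ σ.hp).1 h8
      have h9 : e' j - d ∈ RingHom.ker σ.p := by rw [RingHom.mem_ker, map_sub, hd', sub_self]
      rw [σ.hker] at h9
      obtain ⟨δ, hδ⟩ := Ideal.mem_span_singleton'.1 h9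
      rw [he', Finsupp.smul_apply, smul_eq_mul, Finsupp.zero_apply,
        show e' j = d + δ * σ.t by rw [hδ]; ring, mul_add, mul_comm σ.t d, σ.hmt d hd, zero_add,
        mul_left_comm, σ.hmt _ σ.htm, mul_zero]
    · obtain ⟨r, rfl⟩ := Ideal.Quotient.mk_surjective y
      obtain ⟨e, z, h1⟩ := hstep r
      obtain ⟨e2, z2, h2⟩ := hstep z
      refine ⟨e + σ.t • e2, ?_⟩
      rw [map_add, map_smul, h1]
      congr 1
      rw [map_mul, h2, mul_add]
      have h0 : Ideal.Quotient.mk Q (σ.c σ.t) * Ideal.Quotient.mk Q (σ.c σ.t * z2) = 0 := by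
        rw [← map_mul, ← mul_assoc, ← map_mul, σ.hmt _ σ.htm, map_zero, zero_mul, map_zero]
      rw [h0, add_zero]
      rfl
  exact Module.Flat.of_linearEquiv (LinearEquiv.ofBijective ψ hbij).symm

end Groth.Agent.ArtFunLib.HilbObsRing
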