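import Groth.Agent.ArtFunLib.HilbObs
import Groth.Agent.ArtFunLib.HilbObsRing

/-!
# Extensions of the class of a small extension and lifts
-/

set_option autoImplicit false
set_option backward.isDefEq.respectTransparency false
universe u

open CategoryTheory CategoryTheory.Limits AlgebraicGeometry ArtFun ArtFun.Art Opposite

namespace Groth.Agent.ArtFunLib.HilbObs

open HilbAffine HilbSit HilbMod HilbTangent HilbLeftExact

variable {k : Type u} [Field k] {X : Scheme.{u}} {x : X ⟶ specPt k} {I₀ : X.IdealSheafData}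
  {B A : Art k k} {p : B ⟶ A} {IA : (localHilb X x I₀).obj A} {n : ℕ} {t : Fin n → B}
  {φ : G (PI p IA) ⟶ ClSub.idealMod I₀}

theorem extend_of_lift (ht : KerBasis p t) (hφ : IsPhi p IA φ) (I : (localHilb X x I₀).obj B)
    (hI : (localHilb X x I₀).map p I = IA) (l : Fin n) (κ : kernel φ ⟶ ClSub.quotMod I₀) (hκ : IsKappa (φ := φ) t l κ) :
    ∃ θ, kernel.ι φ ≫ θ = κ := by
  classical
  have hIA : ∀ U, (I.1.ideal (W x B U)).map (pi x p U) = IA.1.ideal (W x A U) := fun U => by
    rw [← comap_map_ideal, ← hI]; rfl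
  have hdec : ∀ (U : X.affineOpens), ∀ e ∈ (PI p IA).ideal (W x B U),
      ∃ z : Fin n → Γ(XA x B, (W x B U).1), e - ∑ j, c x B U (t j) * z j ∈ I.1.ideal (W x B U) := fun U e he => by
    have h := (mem_PI p IA ht.surj U e).1 he
    rw [← hIA U] at h
    obtain ⟨i, hi, hi'⟩ := (Ideal.mem_map_iff_of_surjective _ (pi_spec x p ht.surj U).1).1 h
    obtain ⟨z, hz⟩ := ker_pi ht U (e - i) (by rw [map_sub, hi', sub_self])
    exact ⟨z, by rw [← hz, sub_sub_cancel]; exact hi⟩
  have hwd : ∀ (U : X.affineOpens) (z : Fin n → Γ(XA x B, (W x B U).1)),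
      ∑ j, c x B U (t j) * z j ∈ I.1.ideal (W x B U) → rho x B U (z l) ∈ I₀.ideal U := fun U z hz => by
    have h := HilbObsKoszul.mem_map_of_sum_eq_zero ((Ideal.Quotient.mk (I.1.ideal (W x B U))).comp (c x B U))
      (flat_quotient x I.1 I.2.1 U) t ht.indep (fun j => Ideal.Quotient.mk _ (z j)) (by
        rw [← Ideal.Quotient.eq_zero_iff_mem.2 hz, map_sum]
        exact Finset.sum_congr rfl fun j _ => ((Ideal.Quotient.mk (I.1.ideal (W x B U))).map_mul _ _).symm) l
    rw [← Ideal.map_map] at h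
    obtain ⟨a, ha, ha'⟩ := (Ideal.mem_map_iff_of_surjective _ Ideal.Quotient.mk_surjective).1 h
    have h5 := Ideal.mem_map_of_mem (rho x B U) (Ideal.Quotient.eq.1 ha'.symm)
    rw [map_sub, rho_eq_zero_of_m ha, sub_zero, ← comap_incl_ideal, I.2.2] at h5
    exact h5
  choose fz hfz using fun U (s : Γ(G (PI p IA), U.1)) => hdec U _ (el_mem (PI p IA) U s)
  let f : ∀ U : X.affineOpens, Γ(G (PI p IA), U.1) → Γ(ClSub.quotMod I₀, U.1) := fun U s =>
    ι' I₀ U.1 (rho x B U (fz U s l))
  have hval : ∀ (U : X.affineOpens) s (z : Fin n → Γ(XA x B, (W x B U).1)),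
      el (PI p IA) U s - ∑ j, c x B U (t j) * z j ∈ I.1.ideal (W x B U) →
      f U s = ι' I₀ U.1 (rho x B U (z l)) := fun U s z h => by
    refine (app_eq_iff U _ _).2 ?_
    rw [← map_sub]
    refine hwd U (fun j => fz U s j - z j) ?_
    simp only [mul_sub, Finset.sum_sub_distrib]
    have e : (∑ j, c x B U (t j) * fz U s j) - ∑ j, c x B U (t j) * z j =
        (el (PI p IA) U s - ∑ j, c x B U (t j) * z j) - (el (PI p IA) U s - ∑ j, c x B U (t j) * fz U s j) := by ring
    rw [e]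
    exact sub_mem h (hfz U s)
  obtain ⟨θ, hθ⟩ := FamilyHom.exists_hom_of_family (fun U => AddMonoidHom.mk' (f U) (fun a b => by
      rw [hval U (a + b) (fz U a + fz U b) (by
        have h := add_mem (hfz U a) (hfz U b)
        simp only [Pi.add_apply, mul_add, Finset.sum_add_distrib, map_add] at h ⊢
        convert h using 1
        ring), Pi.add_apply, map_add, map_add]))
    (fun U V hV s => by
      show (ClSub.quotMod I₀).presheaf.map (homOfLE hV).op (f U s) =
        f V ((G (PI p IA)).presheaf.map (homOfLE hV).op s)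
      rw [hval V _ (fun j => (XA x B).presheaf.map (homOfLE (W_mono x B hV)).op (fz U s j)) (by
        have h : (XA x B).presheaf.map (homOfLE (W_mono x B hV)).op (el (PI p IA) U s - ∑ j, c x B U (t j) * fz U s j) ∈
            I.1.ideal (W x B V) := I.1.ideal_le_comap_ideal (W_mono x B hV) (hfz U s)
        rw [map_sub, map_sum] at h
        simp only [map_mul, c_map x B hV] at h
        rw [el_map _ U V hV]
        exact h),
        rho_map x B hV]
      exact ι'_map I₀ hV _)
    (fun U r s => by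
      show f U (r • s) = r • f U s
      rw [hval U _ (fun j => fstPull x B U r * fz U s j) (by
        have h := Ideal.mul_mem_left _ (fstPull x B U r) (hfz U s)
        rw [mul_sub, Finset.mul_sum] at h
        rw [el_smul]
        convert h using 2
        exact Finset.sum_congr rfl fun j _ => mul_left_comm _ _ _), map_mul, rho_fst]
      exact ι'_mul I₀ _ _ _)
  refine ⟨θ, hom_ext_affine fun U kk => ?_⟩
  obtain ⟨μ, z, hμ, he⟩ := exists_rep (IA := IA) ht U _ (el_mem _ U _) (rho_el_kernel hφ U kk)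
  rw [hκ U kk μ z hμ he]
  refine (hθ U _).trans (hval U _ z ?_)
  show el (PI p IA) U ((kernel.ι φ).app U.1 kk) - _ ∈ _
  rw [he, add_sub_cancel_right]
  refine Submodule.mul_induction_on hμ (fun a ha b hb => ?_) fun a b ha hb => add_mem ha hb
  obtain ⟨w, hw⟩ := hdec U b hb
  have e : a * b = a * (b - ∑ j, c x B U (t j) * w j) := by
    rw [mul_sub, Finset.mul_sum, Finset.sum_eq_zero fun j _ => by rw [← mul_assoc, mul_t_eq_zero ht ha, zero_mul],
      sub_zero]
  rw [e]
  exact Ideal.mul_mem_left _ _ hw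

theorem lift_of_extend {t : B} (ht : KerBasis p (fun _ : Fin 1 => t)) (hφ : IsPhi p IA φ)
    (κ : kernel φ ⟶ ClSub.quotMod I₀) (hκ : IsKappa (φ := φ) (fun _ : Fin 1 => t) 0 κ)
    (θ : G (PI p IA) ⟶ ClSub.quotMod I₀) (hθ : kernel.ι φ ≫ θ = κ) :
    ∃ I : (localHilb X x I₀).obj B, (localHilb X x I₀).map p I = IA := by
  haveI := hφ.1
  let P := PI p IA
  have hkt : RingHom.ker p.toAlgHom.toRingHom = Ideal.span {t} := by rw [ht.span, Set.range_const]
  have ht0 : t ≠ 0 := fun h0 => (IsLocalRing.maximalIdeal.isMaximal B).ne_top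
    ((Ideal.eq_top_iff_one _).2 (ht.indep (fun _ => 1) (by simp [h0]) 0))
  have hm0 : IsLocalRing.maximalIdeal B * Ideal.span {t} = ⊥ := le_bot_iff.1 (Ideal.mul_le.2 fun y hy w hw => by
    obtain ⟨w, rfl⟩ := Ideal.mem_span_singleton'.1 hw
    rw [Ideal.mem_bot, mul_left_comm, ht.kill y hy 0, mul_zero])
  have hIA : ∀ U, ((Ideal.Quotient.mk (IA.1.ideal (W x A U))).comp (c x A U)).Flat :=
    fun U => flat_quotient x IA.1 IA.2.1 U
  have h0A : ∀ U, (IA.1.ideal (W x A U)).map (rho x A U) = I₀.ideal U := fun U => by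
    rw [← comap_incl_ideal, IA.2.2]
  have hkey : ∀ (U : X.affineOpens) s μ z, μ ∈ mP p IA U → el P U s = μ + c x B U t * z →
      θ.app U.1 s = ι' I₀ U.1 (rho x B U z) := fun U s μ z hμ he => by
    have hρ0 : rho x B U (el P U s) = 0 := by
      rw [he, map_add, map_mul, rho_eq_zero_of_m ((Ideal.mul_le_left :
        (IsLocalRing.maximalIdeal B).map (c x B U) * (PI p IA).ideal (W x B U) ≤ _) hμ),
        rho_eq_zero_of_m (Ideal.mem_map_of_mem _ (mem_m ht 0)), zero_mul, add_zero]
    have hs0 : φ.app U.1 s = 0 := OmegaLib.idealSect_injective I₀ U.1 (by rw [hφ.2, hρ0, map_zero])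
    have hk := OmegaSh.ι_kerLift φ U.1 s hs0
    have e2 : θ.app U.1 ((kernel.ι φ).app U.1 (OmegaSh.kerLift φ U.1 s hs0)) =
        κ.app U.1 (OmegaSh.kerLift φ U.1 s hs0) := congr(($hθ).app U.1 _)
    rw [hk] at e2
    exact e2.trans (hκ U _ μ (fun _ => z) hμ (by rw [hk, he, Fin.sum_univ_one]))
  have hlin : ∀ (U : X.affineOpens) s (R : Γ(XA x B, (W x B U).1)) s', el P U s' = R * el P U s →
      θ.app U.1 s' = rho x B U R • θ.app U.1 s := fun U s R s' he => by
    rw [← Scheme.Modules.Hom.app_smul, ← sub_eq_zero, ← map_sub]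
    rw [hkey U _ ((R - fstPull x B U (rho x B U R)) * el P U s) 0 ?_ ?_, map_zero]
    · exact map_zero (ι' I₀ U.1)
    · refine Ideal.mul_mem_mul ?_ (el_mem P U s)
      rw [← (rho_spec x B U).2, RingHom.mem_ker, map_sub, rho_fst, sub_self]
    · rw [mul_zero, add_zero, sub_mul, ← he, ← el_smul, map_sub]
  obtain ⟨I, hI⟩ := HilbIdeal.exists_ideal P I₀ θ hlin
  have hcz : ∀ U z, ∃ s, el P U s = c x B U t * z ∧ θ.app U.1 s = ι' I₀ U.1 (rho x B U z) := fun U z => by
    obtain ⟨s, hs⟩ := exists_el P U (c x B U t * z) (by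
      rw [mem_PI p IA ht.surj, map_mul, pi_c, p_t ht 0, map_zero, zero_mul]; exact zero_mem _)
    exact ⟨s, hs, hkey U s 0 z (zero_mem _) (by rw [hs, zero_add])⟩
  have hmapA : ∀ U, (I.ideal (W x B U)).map (pi x p U) = IA.1.ideal (W x A U) := fun U => by
    refine le_antisymm (Ideal.map_le_iff_le_comap.2 fun a ha => ?_) fun α hα => ?_
    · obtain ⟨s, rfl, -⟩ := (hI U a).1 ha
      exact (mem_PI p IA ht.surj U _).1 (el_mem P U s)
    · obtain ⟨a, rfl⟩ := (pi_spec x p ht.surj U).1 α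
      obtain ⟨s, hs⟩ := exists_el P U a ((mem_PI p IA ht.surj U _).2 hα)
      obtain ⟨w, hw⟩ := I₀.subschemeι_app_surjective U (θ.app U.1 s)
      obtain ⟨z, hz⟩ := (rho_spec x B U).1 w
      obtain ⟨s', hs', hs'θ⟩ := hcz U z
      have hmem : a - c x B U t * z ∈ I.ideal (W x B U) :=
        (hI U _).2 ⟨s - s', by rw [map_sub, hs, hs'], by
          rw [map_sub, hs'θ, hz]
          exact sub_eq_zero.2 hw.symm⟩
      have h5 := Ideal.mem_map_of_mem (pi x p U) hmem
      rwa [map_sub, map_mul, pi_c, p_t ht 0, map_zero, zero_mul, sub_zero] at h5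
  have hcomap : I.comap (XAmap x p) = IA.1 := HilbAffine.ext_ideal x fun U => by
    rw [comap_map_ideal, hmapA]
  refine ⟨⟨I, ?_, ?_⟩, Subtype.ext hcomap⟩
  · refine HilbIdeal.flat_of_ideals I fun U => ?_
    refine HilbObsRing.flat_of_lift (sit x p ht.surj t hkt ht0 hm0 U) (hIA U) (rho_spec x B U).1
      (I.ideal (W x B U)) (hmapA U) fun z hz => ?_
    obtain ⟨s, hs, hs0⟩ := (hI U _).1 hz
    obtain ⟨s', hs', hs'θ⟩ := hcz U z
    obtain rfl : s = s' := el_injective P U (hs.trans hs'.symm)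
    show rho x B U z ∈ (IA.1.ideal (W x A U)).map (rho x A U)
    rw [h0A, ← I₀.ker_subschemeι_app, RingHom.mem_ker]
    exact hs'θ.symm.trans hs0
  · rw [← XAincl_XAmap x p, Scheme.IdealSheafData.comap_comp, hcomap, IA.2.2]

end Groth.Agent.ArtFunLib.HilbObs
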