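import Groth.Agent.ArtFunLib.HilbObsTheory
import Groth.Agent.NormalLib.Finite
import Groth.Agent.PnCoh.PushNat

/-!
# `H¹` of the normal sheaf is an obstruction space
-/

set_option autoImplicit false
set_option backward.isDefEq.respectTransparency false
universe u

open CategoryTheory CategoryTheory.Limits AlgebraicGeometry ArtFun ArtFun.Art Opposite
open scoped TensorProduct

namespace Groth.Agent.NormalLib

/-- Isomorphic modules have isomorphic cohomology. -/
noncomputable def hhIso {A : Type u} [CommRing A] {X : Scheme.{u}} [X.Over (Spec (CommRingCat.of A))] {M N : X.Modules}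
    (e : M ≅ N) (n : ℕ) : Coh.HH X M n ≃ₗ[A] Coh.HH X N n :=
  LinearEquiv.ofLinear (PnCoh.Finite.mapLin A e.hom n) (PnCoh.Finite.mapLin A e.inv n)
    (LinearMap.ext fun y => (PnCoh.Finite.map_map (Y := X.toPresheafedSpace.carrier)
      (((QCoh.toAbFunctor X).map_comp e.inv e.hom).symm.trans
        (by rw [e.inv_hom_id, CategoryTheory.Functor.map_id]; rfl)) n y).trans (Sheaf.H.map_id_apply y))
    (LinearMap.ext fun y => (PnCoh.Finite.map_map (Y := X.toPresheafedSpace.carrier)
      (((QCoh.toAbFunctor X).map_comp e.hom e.inv).symm.trans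
        (by rw [e.hom_inv_id, CategoryTheory.Functor.map_id]; rfl)) n y).trans (Sheaf.H.map_id_apply y))

end Groth.Agent.NormalLib

namespace Groth.Agent.ArtFunLib.HilbObs

open HilbAffine HilbSit HilbMod HilbTangent HilbLeftExact NormalLib

variable {k : Type u} [Field k]

section Quot

variable {B A : Art k k} {p : B ⟶ A} {n m : ℕ} {t : Fin n → B} (ι : Fin m → Fin n)

/-- The ideal of the basis vectors outside the range. -/
noncomputable def restK (t : Fin n → B) : Ideal B := Ideal.span (t '' (Set.range ι)ᶜ)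

theorem restK_le (ht : KerBasis p t) : restK ι t ≤ IsLocalRing.maximalIdeal B :=
  Ideal.span_le.2 (Set.image_subset_iff.2 fun j _ => mem_m ht j)

theorem restK_le_ker (ht : KerBasis p t) : restK ι t ≤ RingHom.ker p.toAlgHom :=
  Ideal.span_le.2 (Set.image_subset_iff.2 fun j _ => p_t ht j)

theorem exists_coeff {S : Set (Fin n)} {a : B} (ha : a ∈ Ideal.span (t '' S)) :
    ∃ w : Fin n → B, (∀ j, j ∉ S → w j = 0) ∧ a = ∑ j, t j * w j := by
  classical
  induction ha using Submodule.span_induction with
  | mem a ha =>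
    obtain ⟨j, hj, rfl⟩ := ha
    refine ⟨fun i => if i = j then 1 else 0, fun i hi => if_neg (fun h => hi (by rw [h]; exact hj)), ?_⟩
    rw [Finset.sum_eq_single j (fun i _ hi => by simp [hi]) (by simp)]
    simp
  | zero => exact ⟨0, fun _ _ => rfl, by simp⟩
  | add a b _ _ ha hb =>
    obtain ⟨v, hv, rfl⟩ := ha
    obtain ⟨w, hw, rfl⟩ := hb
    exact ⟨v + w, fun j hj => by simp [hv j hj, hw j hj], by simp [mul_add, Finset.sum_add_distrib]⟩
  | smul r a _ ha =>
    obtain ⟨v, hv, rfl⟩ := ha
    exact ⟨fun j => r * v j, fun j hj => by simp [hv j hj], by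
      rw [smul_eq_mul, Finset.mul_sum]; exact Finset.sum_congr rfl fun j _ => mul_left_comm _ _ _⟩

theorem kerBasis_quot (ht : KerBasis p t) (hι : Function.Injective ι) :
    KerBasis (quotFactor (restK_le ι ht) p (restK_le_ker ι ht))
      (fun i => quotMk B (restK ι t) (restK_le ι ht) (t (ι i))) where
  surj a := by
    obtain ⟨b, hb⟩ := ht.surj a
    exact ⟨quotMk B _ (restK_le ι ht) b, hb⟩
  span := by
    let q := quotMk B (restK ι t) (restK_le ι ht)
    refine le_antisymm (fun b hb => ?_) (Ideal.span_le.2 (Set.range_subset_iff.2 fun i => p_t ht (ι i)))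
    obtain ⟨b, rfl⟩ := quotMk_surjective B _ (restK_le ι ht) b
    have hb' : b ∈ RingHom.ker p.toAlgHom.toRingHom := hb
    rw [ht.span] at hb'
    have hle : Ideal.span (Set.range t) ≤
        (Ideal.span (Set.range fun i => q (t (ι i)))).comap q.toAlgHom := by
      refine Ideal.span_le.2 (Set.range_subset_iff.2 fun j => ?_)
      by_cases hj : j ∈ Set.range ι
      · obtain ⟨i, rfl⟩ := hj
        exact Ideal.subset_span ⟨i, rfl⟩
      · show q (t j) ∈ (Ideal.span (Set.range fun i => q (t (ι i))) : Ideal (quot B (restK ι t) (restK_le ι ht)))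
        rw [show q (t j) = 0 from Ideal.Quotient.eq_zero_iff_mem.2 (Ideal.subset_span ⟨j, hj, rfl⟩)]
        exact zero_mem _
    exact hle hb'
  kill y hy i := by
    obtain ⟨y, rfl⟩ := quotMk_surjective B _ (restK_le ι ht) y
    have hy' : y ∈ IsLocalRing.maximalIdeal B := by
      rw [mem_maximalIdeal_iff] at hy ⊢
      rwa [res_app] at hy
    rw [← map_mul (quotMk B (restK ι t) (restK_le ι ht)).toAlgHom, ht.kill y hy', map_zero]
  indep v hv i := by
    classical
    choose v' hv' using fun i => quotMk_surjective B _ (restK_le ι ht) (v i)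
    have hmem : ∑ i, t (ι i) * v' i ∈ restK ι t := by
      refine Ideal.Quotient.eq_zero_iff_mem.1 ?_
      show quotMk B (restK ι t) (restK_le ι ht) _ = 0
      rw [map_sum (quotMk B (restK ι t) (restK_le ι ht)).toAlgHom, ← hv]
      exact Finset.sum_congr rfl fun i _ => by
        rw [map_mul (quotMk B (restK ι t) (restK_le ι ht)).toAlgHom, hv' i]
    obtain ⟨w, hw, he⟩ := exists_coeff hmem
    let u : Fin n → B := fun j => (∑ l, if ι l = j then v' l else 0) - w j
    have h := ht.indep u (by
      simp only [u, mul_sub, Finset.sum_sub_distrib]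
      rw [← he, sub_eq_zero]
      simp only [Finset.mul_sum, mul_ite, mul_zero]
      rw [Finset.sum_comm]
      exact Finset.sum_congr rfl fun l _ => by simp) (ι i)
    simp only [u] at h
    rw [Finset.sum_eq_single i (fun l _ hl => if_neg fun h => hl (hι h)) (by simp), if_pos rfl,
      hw _ (fun h => h ⟨i, rfl⟩), sub_zero] at h
    rw [← hv' i, mem_maximalIdeal_iff, res_app, ← mem_maximalIdeal_iff]
    exact h

end Quot

variable {X : Scheme.{u}} [X.Over (Spec (CommRingCat.of k))] {I₀ : X.IdealSheafData}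
  {B A : Art k k} {p : B ⟶ A} {IA : (localHilb X (X ↘ Spec (CommRingCat.of k)) I₀).obj A} {n : ℕ} {t : Fin n → B}

theorem isOb_quot (ht : KerBasis p t) {m : ℕ} (ι : Fin m → Fin n) (hι : Function.Injective ι) {v : Fin n → ObSp I₀}
    (hv : ∀ j, IsOb p IA t j (v j)) (i : Fin m) {v' : ObSp I₀}
    (hv' : IsOb (quotFactor (restK_le ι ht) p (restK_le_ker ι ht)) IA
      (fun i => quotMk B (restK ι t) (restK_le ι ht) (t (ι i))) i v') : v' = v (ι i) := by
  classical
  have h := isOb_natural ht (kerBasis_quot ι ht hι) (quotMk B (restK ι t) (restK_le ι ht))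
    (quotMk_quotFactor (restK_le ι ht) p (restK_le_ker ι ht)) (fun j l => if ι l = j then 1 else 0) (fun j => by
      by_cases hj : j ∈ Set.range ι
      · obtain ⟨l, rfl⟩ := hj
        rw [Finset.sum_eq_single l (fun a _ ha => by rw [if_neg fun h => ha (hι h), map_zero, zero_mul]) (by simp),
          if_pos rfl, map_one, one_mul]
      · rw [Finset.sum_eq_zero fun a _ => by rw [if_neg fun h => hj ⟨a, h⟩, map_zero, zero_mul]]
        exact Ideal.Quotient.eq_zero_iff_mem.2 (Ideal.subset_span ⟨j, hj, rfl⟩)) hv hv'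
  rw [h, Finset.sum_eq_single (ι i) (fun j _ hj => by rw [if_neg (Ne.symm hj), zero_smul]) (by simp), if_pos rfl,
    one_smul]

theorem lift_of_all_zero (hreg : LocUnob (X ↘ Spec (CommRingCat.of k)) I₀) : ∀ (n : ℕ) {B : Art k k} (p : B ⟶ A) (t : Fin n → B)
    (_ : KerBasis p t) (_ : ∀ j, IsOb p IA t j 0),
    ∃ I : (localHilb X (X ↘ Spec (CommRingCat.of k)) I₀).obj B,
      (localHilb X (X ↘ Spec (CommRingCat.of k)) I₀).map p I = IA := by
  intro n
  induction n with
  | zero =>
    intro B p t ht _
    haveI := isIso_of_bijective p ⟨(injective_iff_map_eq_zero p.toAlgHom).2 fun a ha => by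
      have h : a ∈ Ideal.span (Set.range t) := ht.span.le ha
      rwa [Set.range_eq_empty, Ideal.span_empty, Ideal.mem_bot] at h, ht.surj⟩
    exact (map_bijective_of_isIso _ p).2 IA
  | succ n ih =>
    intro B p t ht hv
    let a : Fin 1 → Fin (n + 1) := fun _ => 0
    let b : Fin n → Fin (n + 1) := Fin.succ
    have ha : Function.Injective a := fun i j _ => Subsingleton.elim i j
    have hb : Function.Injective b := Fin.succ_injective n
    obtain ⟨I₁, hI₁⟩ : ∃ I, (localHilb X (X ↘ Spec (CommRingCat.of k)) I₀).map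
        (quotFactor (restK_le a ht) p (restK_le_ker a ht)) I = IA := by
      have hk := kerBasis_quot a ht ha
      obtain ⟨v', hv'⟩ := exists_isOb (IA := IA) hreg hk 0
      obtain rfl := isOb_quot ht a ha hv 0 hv'
      exact lift_of_isOb_zero hk hv'
    obtain ⟨I₂, hI₂⟩ := ih (quotFactor (restK_le b ht) p (restK_le_ker b ht))
      (fun i => quotMk B (restK b t) (restK_le b ht) (t (b i))) (kerBasis_quot b ht hb) fun i => by
        obtain ⟨v', hv'⟩ := exists_isOb (IA := IA) hreg (kerBasis_quot b ht hb) i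
        obtain rfl := isOb_quot ht b hb hv i hv'
        exact hv'
    have hsplit : ∀ j : Fin (n + 1), j ∈ (Set.range a)ᶜ ∨ j ∈ (Set.range b)ᶜ := fun j => by
      by_cases hj : j = 0
      · subst hj; exact Or.inr fun ⟨i, hi⟩ => Fin.succ_ne_zero i hi
      · exact Or.inl fun ⟨i, hi⟩ => hj hi.symm
    have hsq : IsFibreProd (quotMk B (restK a t) (restK_le a ht)) (quotMk B (restK b t) (restK_le b ht))
        (quotFactor (restK_le a ht) p (restK_le_ker a ht)) (quotFactor (restK_le b ht) p (restK_le_ker b ht)) := by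
      refine ⟨hom_apply_ext fun _ => rfl, fun x y h₁ h₂ => ?_, fun x y h => ?_⟩
      · obtain ⟨u, hu, eu⟩ := exists_coeff (Ideal.Quotient.eq.1 h₁)
        obtain ⟨w, hw, ew⟩ := exists_coeff (Ideal.Quotient.eq.1 h₂)
        have hd := ht.indep (fun j => u j - w j) (by
          simp only [mul_sub, Finset.sum_sub_distrib]; rw [← eu, ← ew, sub_self])
        rw [← sub_eq_zero, eu]
        refine Finset.sum_eq_zero fun j _ => ?_
        by_cases hj : j ∈ (Set.range a)ᶜ
        · have hj' : j ∉ (Set.range b)ᶜ := fun h' => hj (by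
            by_cases h0 : j = 0
            · exact ⟨0, h0.symm⟩
            · obtain ⟨i, rfl⟩ := Fin.exists_succ_eq.2 h0
              exact absurd ⟨i, rfl⟩ h')
          have h1 := hd j
          rw [hw j hj', sub_zero] at h1
          rw [mul_comm, ht.kill _ h1]
        · rw [hu j hj, mul_zero]
      · obtain ⟨x, rfl⟩ := quotMk_surjective B _ (restK_le a ht) x
        obtain ⟨y, rfl⟩ := quotMk_surjective B _ (restK_le b ht) y
        have hxy : x - y ∈ RingHom.ker p.toAlgHom.toRingHom := by
          rw [RingHom.mem_ker, map_sub, sub_eq_zero]; exact h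
        rw [ht.span] at hxy
        have hle : Ideal.span (Set.range t) ≤ restK a t ⊔ restK b t := Ideal.span_le.2
          (Set.range_subset_iff.2 fun j => (hsplit j).elim
            (fun hj => Ideal.mem_sup_left (Ideal.subset_span ⟨j, hj, rfl⟩))
            fun hj => Ideal.mem_sup_right (Ideal.subset_span ⟨j, hj, rfl⟩))
        obtain ⟨u, hu, w, hw, e⟩ := Submodule.mem_sup.1 (hle hxy)
        refine ⟨x - u, Ideal.Quotient.eq.2 ?_, Ideal.Quotient.eq.2 ?_⟩
        · rw [sub_sub_cancel_left]; exact neg_mem hu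
        · rw [show x - u - y = w by linear_combination -e]; exact hw
    obtain ⟨I, hI⟩ := (HilbLeftExact.bijective_cmp (x := X ↘ Spec (CommRingCat.of k)) I₀ _ _ _ _ hsq).2
      ⟨(I₁, I₂), hI₁.trans hI₂.symm⟩
    refine ⟨I, ?_⟩
    have e1 : (localHilb X (X ↘ Spec (CommRingCat.of k)) I₀).map (quotMk B (restK a t) (restK_le a ht)) I = I₁ :=
      congrArg (fun q => q.1.1) hI
    rw [← hI₁, ← e1, ← map_comp', quotMk_quotFactor]

/-- The obstruction theory with values in the cohomology of `hom(I₀, O/I₀)`. -/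
theorem hasObsTheory_of_locUnob (hreg : LocUnob (X ↘ Spec (CommRingCat.of k)) I₀) :
    HasObsTheory (localHilb X (X ↘ Spec (CommRingCat.of k)) I₀) (ObSp I₀) := by
  classical
  let F := localHilb X (X ↘ Spec (CommRingCat.of k)) I₀
  let bas : ∀ {B A : Art k k} (p : B ⟶ A), Module.Basis
      (Fin (Module.finrank k ↥(RingHom.ker p.toAlgHom))) k ↥(RingHom.ker p.toAlgHom) := fun p =>
    haveI := Fibre.finite_ker p
    Module.finBasis k _
  choose ob hob using fun {B A : Art k k} (p : B ⟶ A) (hp : IsSemismallExt p) (u : F.obj A) l =>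
    exists_isOb (IA := u) hreg (kerBasis_of_basis hp (bas p)) l
  refine ⟨{ obs := fun p hp u => ∑ l, ob p hp u l ⊗ₜ[k] bas p l, obs_eq_zero_iff := ?_, obs_quot := ?_ }⟩
  · intro C' C p hp u
    constructor
    · intro h
      have h0 : ∀ l, ob p hp u l = 0 := fun l => by
        have h1 := congrArg (fun z => TensorProduct.piScalarRight k k (ObSp I₀) _
          (LinearMap.lTensor (ObSp I₀) (bas p).equivFun.toLinearMap z) l) h
        simp only [map_sum, map_zero, LinearMap.lTensor_tmul, Finset.sum_apply, Pi.zero_apply] at h1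
        rw [Finset.sum_eq_single l (fun a _ ha => ?_) (by simp)] at h1
        · simpa using h1
        · simp [ha.symm]
      exact lift_of_all_zero hreg _ p _ (kerBasis_of_basis hp (bas p)) fun l => by
        have h := hob p hp u l
        rwa [h0 l] at h
    · rintro ⟨u', hu'⟩
      exact Finset.sum_eq_zero fun l _ => by
        rw [isOb_zero_of_lift (kerBasis_of_basis hp (bas p)) (hob p hp u l) u' hu', TensorProduct.zero_tmul]
  · intro C' C p hp K hK hKJ hq u
    let q' := quotFactor hK p hKJ
    let L := (kerToQuot hK p hKJ).restrictScalars k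
    have key : ∀ i, ob q' hq u i = ∑ j, (bas q').repr (L (bas p j)) i • ob p hp u j := fun i =>
      isOb_natural (kerBasis_of_basis hp (bas p)) (kerBasis_of_basis hq (bas q')) (quotMk C' K hK)
        (quotMk_quotFactor hK p hKJ) (fun j i => (bas q').repr (L (bas p j)) i) (fun j => by
          have e := congrArg Subtype.val ((bas q').sum_repr (L (bas p j)))
          rw [AddSubmonoidClass.coe_finset_sum] at e
          refine Eq.trans e.symm (Finset.sum_congr rfl fun i _ => ?_)
          exact Algebra.smul_def _ _) (hob p hp u) (hob q' hq u i)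
    rw [map_sum]
    show ∑ i, ob q' hq u i ⊗ₜ[k] bas q' i = ∑ j, LinearMap.lTensor (ObSp I₀) L (ob p hp u j ⊗ₜ[k] bas p j)
    simp only [key, TensorProduct.sum_tmul, TensorProduct.smul_tmul, LinearMap.lTensor_tmul]
    rw [Finset.sum_comm]
    refine Finset.sum_congr rfl fun j _ => ?_
    rw [← TensorProduct.tmul_sum, (bas q').sum_repr]

/-- The obstruction theory of a local complete intersection. -/
theorem hasObsTheory (hreg : LocReg I₀) :
    HasObsTheory (localHilb X (X ↘ Spec (CommRingCat.of k)) I₀) (ObSp I₀) :=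
  hasObsTheory_of_locUnob (locUnob_of_locReg (X ↘ Spec (CommRingCat.of k)) hreg)

theorem hasObsTheory_congr {F : Art k k ⥤ Type u} {V V' : Type u} [AddCommGroup V] [Module k V]
    [AddCommGroup V'] [Module k V'] (e : V ≃ₗ[k] V') (h : HasObsTheory F V) : HasObsTheory F V' := by
  obtain ⟨T⟩ := h
  refine ⟨{ obs := fun {C' C} p hp u => TensorProduct.congr e (LinearEquiv.refl k _) (T.obs p hp u),
            obs_eq_zero_iff := fun p hp u => by rw [LinearEquiv.map_eq_zero_iff]; exact T.obs_eq_zero_iff p hp u,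
            obs_quot := fun p hp K hK hKJ hq u => ?_ }⟩
  rw [T.obs_quot p hp K hK hKJ hq u]
  induction T.obs p hp u using TensorProduct.induction_on with
  | zero => simp
  | tmul a b => simp
  | add a b ha hb => simp only [map_add, ha, hb]

/-- `H¹(hom(I₀, O/I₀))` is `H¹` of the normal sheaf. -/
theorem nonempty_ObSp_equiv [IsLocallyNoetherian X] [I₀.subscheme.Over (Spec (CommRingCat.of k))]
    (hY : I₀.subschemeι ≫ (X ↘ Spec (CommRingCat.of k)) = I₀.subscheme ↘ Spec (CommRingCat.of k))
    [DCoh.HasSheafHom (Omega.conormal I₀.subschemeι)] :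
    Nonempty (ObSp I₀ ≃ₗ[k] Coh.HH I₀.subscheme ((DCoh.sheafHom (Omega.conormal I₀.subschemeι)).obj
      (Coh.structureModule I₀.subscheme)) 1) := by
  haveI : IsLocallyNoetherian I₀.subscheme := LocallyOfFiniteType.isLocallyNoetherian I₀.subschemeι
  let N := (SheafHomX.hom ((Scheme.Modules.pullback I₀.subschemeι).obj (ClSub.idealMod I₀))).obj
    (Coh.structureModule I₀.subscheme)
  let e₁ : (Scheme.Modules.pushforward I₀.subschemeι).obj N ≅
      (SheafHomX.hom (ClSub.idealMod I₀)).obj (ClSub.quotMod I₀) :=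
    (AmpleVan.pushHomIso I₀.subschemeι (ClSub.idealMod I₀)).app (Coh.structureModule I₀.subscheme)
  have hN : Coh.IsCoh N :=
    SheafHomX.isCoh_hom (KZ.ClosedDev.isCoh_pull I₀.subschemeι (NormalLib.isCoh_idealMod I₀))
      QCoh.isCoh_structureModule'
  obtain ⟨a⟩ := PnCoh.exists_linearEquiv_push k I₀.subschemeι hY hN.1 1
  let e₂ : N ≅ (DCoh.sheafHom (Omega.conormal I₀.subschemeι)).obj (Coh.structureModule I₀.subscheme) :=
    eqToIso (by
      show (SheafHomX.hom ((Scheme.Modules.pullback I₀.subschemeι).obj (ClSub.idealMod I₀))).obj _ =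
        (SheafHomX.hom (Omega.conormal I₀.subschemeι)).obj _
      rw [Omega.conormal, I₀.ker_subschemeι]) ≪≫ ((AmpleVan.sheafHomIso (Omega.conormal I₀.subschemeι)).app _).symm
  exact ⟨(NormalLib.hhIso e₁ 1).symm ≪≫ₗ a.symm ≪≫ₗ NormalLib.hhIso e₂ 1⟩

end Groth.Agent.ArtFunLib.HilbObs
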