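import Groth.Agent.ArtFunLib.HilbObsLift
import Mathlib.LinearAlgebra.TensorProduct.Pi

/-!
# The obstruction theory of the local Hilbert functor of a locally complete intersection
-/

set_option autoImplicit false
set_option backward.isDefEq.respectTransparency false
universe u

open CategoryTheory CategoryTheory.Limits AlgebraicGeometry ArtFun ArtFun.Art Opposite
open scoped TensorProduct

namespace Groth.Agent.ArtFunLib.HilbObs

open HilbAffine HilbSit HilbMod HilbTangent HilbLeftExact NormalLib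

variable {k : Type u} [Field k]

section Basis

variable {B A : Art k k} {p : B ⟶ A}

theorem kerBasis_of_basis (hp : IsSemismallExt p) {n : ℕ} (b : Module.Basis (Fin n) k ↥(RingHom.ker p.toAlgHom)) :
    KerBasis p fun j => ((b j : ↥(RingHom.ker p.toAlgHom)) : B) where
  surj := hp.1
  span := by
    refine le_antisymm (fun a ha => ?_) (Ideal.span_le.2 (Set.range_subset_iff.2 fun j => (b j).2))
    have e := congrArg Subtype.val (b.sum_repr ⟨a, ha⟩)
    rw [AddSubmonoidClass.coe_finset_sum] at e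
    rw [show a = _ from e.symm]
    refine sum_mem fun j _ => ?_
    show b.repr ⟨a, ha⟩ j • ((b j : ↥(RingHom.ker p.toAlgHom)) : B) ∈ _
    exact Submodule.smul_of_tower_mem _ _ (Ideal.subset_span ⟨j, rfl⟩)
  kill y hy j := by
    have := Ideal.mul_mem_mul hy (b j).2
    rwa [hp.2, Ideal.mem_bot] at this
  indep v hv := fun j => by
    rw [mem_maximalIdeal_iff]
    refine Fintype.linearIndependent_iff.1 b.linearIndependent (fun j => B.res (v j)) (Subtype.ext ?_) j
    rw [AddSubmonoidClass.coe_finset_sum]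
    refine Eq.trans ?_ hv
    refine Finset.sum_congr rfl fun j _ => ?_
    show B.res (v j) • ((b j : ↥(RingHom.ker p.toAlgHom)) : B) = _
    rw [← Fibre.mul_mem_ker p hp (v j) (b j).2, mul_comm]

theorem isSemismallExt_of_kerBasis {n : ℕ} {t : Fin n → B} (ht : KerBasis p t) : IsSemismallExt p := by
  refine ⟨ht.surj, le_bot_iff.1 (Ideal.mul_le.2 fun y hy a ha => ?_)⟩
  have ha' : a ∈ RingHom.ker p.toAlgHom.toRingHom := ha
  rw [ht.span] at ha'
  obtain ⟨c, rfl⟩ := Ideal.mem_span_range_iff_exists_fun.1 ha'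
  rw [Ideal.mem_bot, Finset.mul_sum]
  exact Finset.sum_eq_zero fun j _ => by rw [mul_left_comm, ht.kill y hy j, mul_zero]

end Basis

variable {X : Scheme.{u}} [X.Over (Spec (CommRingCat.of k))] {I₀ : X.IdealSheafData}


/-- The space of obstructions. -/
abbrev ObSp (I₀ : X.IdealSheafData) : Type u :=
  Coh.HH X ((SheafHomX.hom (ClSub.idealMod I₀)).obj (ClSub.quotMod I₀)) 1

theorem k₀_eq (U : X.affineOpens) (a : k) :
    X.presheaf.map (homOfLE (le_top : U.1 ≤ ⊤)).op (Coh.toGlobal (X ↘ Spec (CommRingCat.of k)) a) =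
      k₀ (X ↘ Spec (CommRingCat.of k)) U a := rfl

theorem smul_app' {M N : X.Modules} (a : k) (f : M ⟶ N) (U : X.affineOpens) (m : Γ(M, U.1)) :
    (a • f).app U.1 m = k₀ (X ↘ Spec (CommRingCat.of k)) U a • f.app U.1 m := by
  rw [KLin.smul_app_apply]
  rfl

variable {B A : Art k k} {p : B ⟶ A} {IA : (localHilb X (X ↘ Spec (CommRingCat.of k)) I₀).obj A} {n : ℕ} {t : Fin n → B}

theorem kappa_unique {φ : G (PI p IA) ⟶ ClSub.idealMod I₀} (hφ : IsPhi p IA φ) (ht : KerBasis p t) {l : Fin n}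
    {κ κ' : kernel φ ⟶ ClSub.quotMod I₀} (h : IsKappa (φ := φ) t l κ) (h' : IsKappa (φ := φ) t l κ') : κ = κ' :=
  hom_ext_affine fun U kk => by
    obtain ⟨μ, z, hμ, he⟩ := exists_rep (IA := IA) ht U _ (el_mem _ U _) (rho_el_kernel hφ U kk)
    rw [h U kk μ z hμ he, h' U kk μ z hμ he]

theorem phi_unique {φ φ' : G (PI p IA) ⟶ ClSub.idealMod I₀} (hφ : IsPhi p IA φ) (hφ' : IsPhi p IA φ') : φ = φ' :=
  hom_ext_affine fun U s => OmegaLib.idealSect_injective I₀ U.1 (by rw [hφ.2, hφ'.2])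

variable (p IA t) in
/-- `v` is the `l`-th obstruction. -/
def IsOb (l : Fin n) (v : ObSp I₀) : Prop :=
  ∃ (φ : G (PI p IA) ⟶ ClSub.idealMod I₀) (κ : kernel φ ⟶ ClSub.quotMod I₀),
    IsPhi p IA φ ∧ IsKappa (φ := φ) t l κ ∧ LocalExt.ObIs k (ClSub.idealMod I₀) (ClSub.quotMod I₀) φ κ v

theorem exists_isOb (hreg : LocUnob (X ↘ Spec (CommRingCat.of k)) I₀) (ht : KerBasis p t) (l : Fin n) : ∃ v, IsOb p IA t l v := by
  obtain ⟨φ, hφ⟩ := exists_isPhi p IA ht.surj
  haveI := hφ.1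
  obtain ⟨κ, hκ⟩ := exists_kappa ht hφ l
  obtain ⟨v, hv⟩ := LocalExt.exists_obIs (A := k) φ κ (locLift ht hφ hreg l κ hκ)
  exact ⟨v, φ, κ, hφ, hκ, hv⟩

theorem isOb_unique (ht : KerBasis p t) {l : Fin n} {v v' : ObSp I₀} (h : IsOb p IA t l v) (h' : IsOb p IA t l v') :
    v = v' := by
  obtain ⟨φ, κ, hφ, hκ, hv⟩ := h
  obtain ⟨φ', κ', hφ', hκ', hv'⟩ := h'
  obtain rfl := phi_unique hφ hφ'
  obtain rfl := kappa_unique hφ ht hκ hκ'
  haveI := hφ.1
  exact LocalExt.obIs_unique hv hv'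

theorem isOb_zero_of_lift (ht : KerBasis p t) {l : Fin n} {v : ObSp I₀} (h : IsOb p IA t l v)
    (I : (localHilb X (X ↘ Spec (CommRingCat.of k)) I₀).obj B) (hI : (localHilb X (X ↘ Spec (CommRingCat.of k)) I₀).map p I = IA) : v = 0 := by
  obtain ⟨φ, κ, hφ, hκ, hv⟩ := h
  haveI := hφ.1
  exact (LocalExt.obIs_zero_iff hv).2 (extend_of_lift ht hφ I hI l κ hκ)

theorem lift_of_isOb_zero {t₀ : B} (ht : KerBasis p (fun _ : Fin 1 => t₀)) (h : IsOb p IA (fun _ : Fin 1 => t₀) 0 0) :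
    ∃ I : (localHilb X (X ↘ Spec (CommRingCat.of k)) I₀).obj B, (localHilb X (X ↘ Spec (CommRingCat.of k)) I₀).map p I = IA := by
  obtain ⟨φ, κ, hφ, hκ, hv⟩ := h
  haveI := hφ.1
  obtain ⟨θ, hθ⟩ := (LocalExt.obIs_zero_iff hv).1 rfl
  exact lift_of_extend ht hφ κ hκ θ hθ

set_option maxHeartbeats 1600000 in
/-- Obstructions are natural in the extension. -/
theorem isOb_natural (ht : KerBasis p t) {B' : Art k k} {p' : B' ⟶ A} {m : ℕ} {t' : Fin m → B'} (ht' : KerBasis p' t')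
    (q : B ⟶ B') (hqp : q ≫ p' = p) (C : Fin n → Fin m → k)
    (hC : ∀ j, q (t j) = ∑ i, algebraMap k B' (C j i) * t' i) {v : Fin n → ObSp I₀}
    (hv : ∀ j, IsOb p IA t j (v j)) {i : Fin m} {v' : ObSp I₀} (hv' : IsOb p' IA t' i v') :
    v' = ∑ j, C j i • v j := by
  classical
  obtain ⟨φ, hφ⟩ := exists_isPhi p IA ht.surj
  haveI := hφ.1
  obtain ⟨φ', κ', hφ', hκ', hob'⟩ := hv'
  haveI := hφ'.1
  have hκ : ∀ j, ∃ κ, IsKappa (φ := φ) t j κ ∧
      LocalExt.ObIs k (ClSub.idealMod I₀) (ClSub.quotMod I₀) φ κ (v j) := fun j => by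
    obtain ⟨φ₁, κ₁, hφ₁, hκ₁, h₁⟩ := hv j
    obtain rfl := phi_unique hφ hφ₁
    exact ⟨κ₁, hκ₁, h₁⟩
  choose κ hκ hob using hκ
  have hpi : ∀ (U : X.affineOpens) a, a ∈ (PI p IA).ideal (W (X ↘ Spec (CommRingCat.of k)) B U) →
      pi (X ↘ Spec (CommRingCat.of k)) q U a ∈ (PI p' IA).ideal (W (X ↘ Spec (CommRingCat.of k)) B' U) := fun U a ha => by
    rw [mem_PI p' IA ht'.surj, pi_comp, hqp]
    exact (mem_PI p IA ht.surj U a).1 ha
  choose gf hgf using fun U (s : Γ(G (PI p IA), U.1)) => exists_el (PI p' IA) U _ (hpi U _ (el_mem _ U s))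
  obtain ⟨g, hg⟩ := FamilyHom.exists_hom_of_family (fun U => AddMonoidHom.mk' (gf U) (fun a b =>
      el_injective (PI p' IA) U (by rw [map_add, hgf, hgf, hgf, map_add, map_add])))
    (fun U V hV s => el_injective (PI p' IA) V (by
      show el _ V ((G (PI p' IA)).presheaf.map (homOfLE hV).op (gf U s)) = el _ V (gf V _)
      rw [el_map _ U V hV, hgf, hgf, el_map _ U V hV, pi_map (X ↘ Spec (CommRingCat.of k)) q hV]))
    (fun U r s => el_injective (PI p' IA) U (by
      show el _ U (gf U (r • s)) = el _ U (r • gf U s)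
      rw [el_smul, hgf, hgf, el_smul, map_mul, pi_fst]))
  have hgel : ∀ (U : X.affineOpens) s, el (PI p' IA) U (g.app U.1 s) = pi (X ↘ Spec (CommRingCat.of k)) q U (el (PI p IA) U s) := fun U s =>
    (congrArg _ (hg U s)).trans (hgf U s)
  have hgφ : g ≫ φ' = φ := hom_ext_affine fun U s => OmegaLib.idealSect_injective I₀ U.1 (by
    show OmegaSh.idealSect I₀ U.1 (φ'.app U.1 (g.app U.1 s)) = _
    rw [hφ'.2, hgel, rho_pi, hφ.2])
  have h1 := hob'.comp g hgφ _ rfl
  have hsum : ∀ S : Finset (Fin n),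
      LocalExt.ObIs k (ClSub.idealMod I₀) (ClSub.quotMod I₀) φ (∑ j ∈ S, C j i • κ j) (∑ j ∈ S, C j i • v j) := fun S => by
    induction S using Finset.induction with
    | empty => exact ⟨0, 0, by simp, by simp, map_zero _⟩
    | insert j S hj ih => rw [Finset.sum_insert hj, Finset.sum_insert hj]; exact ((hob j).smul (C j i)).add ih
  refine LocalExt.obIs_unique h1 ?_
  convert hsum Finset.univ using 1
  refine hom_ext_affine fun U kk => ?_
  obtain ⟨μ, z, hμ, he⟩ := exists_rep (IA := IA) ht U _ (el_mem _ U _) (rho_el_kernel hφ U kk)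
  let lf := kernel.lift φ' (kernel.ι φ ≫ g) (by rw [Category.assoc, hgφ, kernel.condition])
  let z' : Fin m → Γ(XA (X ↘ Spec (CommRingCat.of k)) B', (W (X ↘ Spec (CommRingCat.of k)) B' U).1) := fun i =>
    ∑ j, c (X ↘ Spec (CommRingCat.of k)) B' U (algebraMap k B' (C j i)) * pi (X ↘ Spec (CommRingCat.of k)) q U (z j)
  have hμ' : pi (X ↘ Spec (CommRingCat.of k)) q U μ ∈ mP p' IA U := by
    refine Submodule.mul_induction_on hμ (fun a ha b hb => ?_) fun a b ha hb => by rw [map_add]; exact add_mem ha hb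
    rw [map_mul]
    refine Ideal.mul_mem_mul ?_ (hpi U b hb)
    rw [← (rho_spec (X ↘ Spec (CommRingCat.of k)) B' U).2, RingHom.mem_ker, rho_pi, rho_eq_zero_of_m ha]
  have he' : el (PI p' IA) U ((kernel.ι φ').app U.1 (lf.app U.1 kk)) =
      pi (X ↘ Spec (CommRingCat.of k)) q U μ + ∑ i, c (X ↘ Spec (CommRingCat.of k)) B' U (t' i) * z' i := by
    rw [show (kernel.ι φ').app U.1 (lf.app U.1 kk) = g.app U.1 ((kernel.ι φ).app U.1 kk) from
      congr(($(kernel.lift_ι φ' (kernel.ι φ ≫ g) _)).app U.1 kk), hgel, he, map_add, map_sum]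
    refine congrArg _ ?_
    simp only [z', map_mul, pi_c, hC, map_sum, Finset.sum_mul, Finset.mul_sum]
    rw [Finset.sum_comm]
    exact Finset.sum_congr rfl fun a _ => Finset.sum_congr rfl fun b _ => by ring
  show κ'.app U.1 (lf.app U.1 kk) = _
  rw [hκ' U _ _ z' hμ' he']
  have hrhs : ∀ S : Finset (Fin n), (∑ j ∈ S, C j i • κ j).app U.1 kk = ι' I₀ U.1 (∑ j ∈ S, k₀ (X ↘ Spec (CommRingCat.of k)) U (C j i) * rho (X ↘ Spec (CommRingCat.of k)) B U (z j)) := by
    intro S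
    induction S using Finset.induction with
    | empty => rw [Finset.sum_empty, Finset.sum_empty, map_zero]; rfl
    | insert j S hj ih =>
      rw [Finset.sum_insert hj, Finset.sum_insert hj, map_add]
      show (C j i • κ j).app U.1 kk + (∑ j ∈ S, C j i • κ j).app U.1 kk = _
      rw [ih, smul_app', hκ j U kk μ z hμ he, ι'_mul]
  rw [hrhs]
  refine congrArg _ ?_
  simp only [z', map_sum, map_mul, rho_c, rho_pi]
  exact Finset.sum_congr rfl fun j _ => congrArg (· * _) (congrArg _ ((B'.res.commutes _).trans rfl))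

end Groth.Agent.ArtFunLib.HilbObs
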