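import Groth.Agent.ArtFunLib.Completion
import Groth.Agent.ArtFunLib.Essential
import Groth.Prelude.Def_ArtFun4
import Mathlib.AlgebraicGeometry.Noetherian

/-!
# The local functor of a locally Noetherian scheme at a rational point
-/

set_option autoImplicit false
set_option backward.isDefEq.respectTransparency false

universe u

open CategoryTheory AlgebraicGeometry ArtFun

namespace Groth.Agent.ArtFunLib.LocalFunctor

variable {k : Type u} [Field k]

theorem subsingleton_spec (A : Art k k) : Subsingleton (Art.spec A : Scheme.{u}) :=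
  ⟨fun a b => PrimeSpectrum.ext (by
    have ha : a.asIdeal = IsLocalRing.maximalIdeal A := IsLocalRing.eq_maximalIdeal inferInstance
    have hb : b.asIdeal = IsLocalRing.maximalIdeal A := IsLocalRing.eq_maximalIdeal inferInstance
    rw [ha, hb])⟩

theorem exists_local_functor (M : Scheme.{u}) (m : M ⟶ Spec (CommRingCat.of k)) [IsLocallyNoetherian M]
    (x₀ : Spec (CommRingCat.of k) ⟶ M) (hx₀ : x₀ ≫ m = 𝟙 _) :
    ∃ (R : CRing k k)
      (e : ∀ A : Art k k, HomSet R.carrier R.res A ≃
        {g : Art.spec A ⟶ M // g ≫ m = Art.specMap (Art.ofBase A) ∧ Art.specRes A ≫ g = x₀}),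
      ∀ (A B : Art k k) (h : A ⟶ B) (φ : HomSet R.carrier R.res A),
        ((e B) (HomSet.map h φ)).1 = Art.specMap h ≫ ((e A) φ).1 := by
  let pt : ↥(Spec (CommRingCat.of k)) := (⊥ : PrimeSpectrum k)
  obtain ⟨U, hU, hpU, -⟩ := exists_isAffineOpen_mem_and_subset (x := x₀ pt) (U := ⊤) (by trivial)
  haveI : IsNoetherianRing Γ(M, U) := IsLocallyNoetherian.component_noetherian ⟨U, hU⟩
  let O : CommRingCat.{u} := Γ(M, U)
  let j : Spec O ⟶ M := hU.fromSpec
  let ψ : CommRingCat.of k ⟶ O := Spec.preimage (j ≫ m)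
  have hψ : Spec.map ψ = j ≫ m := Spec.map_preimage _
  letI : Algebra k O := ψ.hom.toAlgebra
  have hrange : Set.range x₀ ⊆ Set.range j := by
    rintro _ ⟨q, rfl⟩
    rw [show j = hU.fromSpec from rfl, hU.range_fromSpec]
    have : q = pt := Subsingleton.elim (α := PrimeSpectrum k) q pt
    rw [this]
    exact hpU
  let l := IsOpenImmersion.lift j x₀ hrange
  have hl : l ≫ j = x₀ := IsOpenImmersion.lift_fac _ _ _
  let r : O ⟶ CommRingCat.of k := Spec.preimage l
  have hr : Spec.map r = l := Spec.map_preimage _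
  have hψr : ψ ≫ r = 𝟙 _ := Spec.map_injective (by
    rw [Spec.map_comp, hr, hψ, ← Category.assoc, hl, hx₀, Spec.map_id])
  let res : O →ₐ[k] k := { r.hom with commutes' := fun c => congr($hψr c) }
  have hres : Function.Surjective res := fun c => ⟨ψ c, congr($hψr c)⟩
  obtain ⟨R, ι, hι, hex, hu⟩ := Completion.exists_completion res hres
  let mk : ∀ (A : Art k k), HomSet R.carrier R.res A → (Art.spec A ⟶ M) := fun A φ =>
    Spec.map (CommRingCat.ofHom (R := O) (S := (A : Type u)) (φ.1.comp ι).toRingHom) ≫ j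
  have hmk : ∀ (A : Art k k) (φ : HomSet R.carrier R.res A),
      mk A φ ≫ m = Art.specMap (Art.ofBase A) ∧ Art.specRes A ≫ mk A φ = x₀ := fun A φ => by
    constructor
    · show (Spec.map _ ≫ j) ≫ m = _
      rw [Category.assoc, ← hψ, ← Spec.map_comp]
      refine congrArg Spec.map (CommRingCat.hom_ext (RingHom.ext fun c => ?_))
      exact (φ.1.comp ι).commutes c
    · show Spec.map _ ≫ Spec.map _ ≫ j = x₀
      rw [← Spec.map_comp_assoc, ← hl, ← hr]
      congr 2
      refine CommRingCat.hom_ext (RingHom.ext fun x => ?_)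
      exact (congr($(φ.2) (ι x))).trans (congr($hι x))
  have hbij : ∀ A : Art k k, Function.Bijective (fun φ : HomSet R.carrier R.res A =>
      (⟨mk A φ, hmk A φ⟩ : {g : Art.spec A ⟶ M // g ≫ m = Art.specMap (Art.ofBase A) ∧ Art.specRes A ≫ g = x₀})) := by
    intro A
    refine ⟨fun φ₁ φ₂ h => ?_, fun ⟨g, hg₁, hg₂⟩ => ?_⟩
    · have h1 : mk A φ₁ = mk A φ₂ := congrArg Subtype.val h
      have h2 := Spec.map_injective ((cancel_mono j).1 h1)
      refine Subtype.ext (hu (toCRing A) φ₁.1 φ₂.1 φ₁.2 φ₂.2 (AlgHom.ext fun x => ?_))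
      exact congr($h2 x)
    · have hgr : Set.range g ⊆ Set.range j := by
        rintro _ ⟨q, rfl⟩
        haveI := subsingleton_spec A
        rw [Subsingleton.elim q (Art.specRes A pt)]
        have : g (Art.specRes A pt) = x₀ pt := congr($hg₂ pt)
        rw [this]
        exact hrange ⟨pt, rfl⟩
      let gl := IsOpenImmersion.lift j g hgr
      have hgl : gl ≫ j = g := IsOpenImmersion.lift_fac _ _ _
      let f : O ⟶ CommRingCat.of (A : Type u) := Spec.preimage gl
      have hf : Spec.map f = gl := Spec.map_preimage _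
      have hψf : ψ ≫ f = CommRingCat.ofHom (Art.ofBase A).toAlgHom.toRingHom := Spec.map_injective (by
        rw [Spec.map_comp, hf, hψ, ← Category.assoc, hgl, hg₁])
      have hfr : f ≫ CommRingCat.ofHom A.res.toRingHom = r := Spec.map_injective (by
        rw [Spec.map_comp, hf, hr]
        refine (cancel_mono j).1 ?_
        rw [Category.assoc, hgl, hl]
        exact hg₂)
      let fA : O →ₐ[k] A := { f.hom with commutes' := fun c => congr($hψf c) }
      obtain ⟨h, hh, hh'⟩ := hex (toCRing A) fA (AlgHom.ext fun x => congr($hfr x))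
      refine ⟨⟨h, hh⟩, Subtype.ext ?_⟩
      show Spec.map _ ≫ j = g
      rw [← hgl, ← hf]
      congr 2
      refine CommRingCat.hom_ext (RingHom.ext fun x => ?_)
      exact congr($hh' x)
  refine ⟨R, fun A => Equiv.ofBijective _ (hbij A), fun A B h φ => ?_⟩
  show Spec.map _ ≫ j = Art.specMap h ≫ Spec.map _ ≫ j
  rw [← Spec.map_comp_assoc]
  rfl

end Groth.Agent.ArtFunLib.LocalFunctor
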