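import Groth.Agent.ArtFunLib.HilbAffine
import Groth.Agent.ArtFunLib.HilbObsRing
import Groth.Agent.ArtFunLib.LocalFunctor
import Groth.Agent.AssLib.FlatField

/-! The ring situation over an affine open of `X`. -/

set_option autoImplicit false
set_option backward.isDefEq.respectTransparency false
universe u

open CategoryTheory CategoryTheory.Limits AlgebraicGeometry ArtFun ArtFun.Art Opposite

namespace Groth.Agent.ArtFunLib.HilbSit

open HilbAffine

variable {k : Type u} [Field k] {X : Scheme.{u}} (x : X ⟶ specPt k)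

theorem appLE_congr {P Q : Scheme.{u}} {f g : P ⟶ Q} (h : f = g) (U : Q.Opens) (V : P.Opens) (e : V ≤ f ⁻¹ᵁ U)
    (e' : V ≤ g ⁻¹ᵁ U) : f.appLE U V e = g.appLE U V e' := by
  subst h
  rfl

/-- A lift of a function on `U`. -/
noncomputable def fstPull (B : Art k k) (U : X.affineOpens) : Γ(X, U.1) →+* Γ(XA x B, (W x B U).1) :=
  ((pullback.fst x (specOver B)).app U.1).hom

theorem rho_fst (B : Art k k) (U : X.affineOpens) (r : Γ(X, U.1)) : rho x B U (fstPull x B U r) = r := by
  have h1 : (pullback.fst x (specOver B)).app U.1 ≫ (XAincl x B).appLE (W x B U).1 U.1 (rho_le x B U).le = 𝟙 _ := by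
    rw [Scheme.Hom.app_eq_appLE]
    refine (Scheme.Hom.appLE_comp_appLE (XAincl x B) (pullback.fst x (specOver B)) U.1 (W x B U).1 U.1 le_rfl
      (rho_le x B U).le).trans ?_
    rw [appLE_congr (XAincl_fst x B) U.1 U.1 _ (le_refl U.1)]
    exact (Scheme.Hom.app_eq_appLE (f := 𝟙 X) (U := U.1)).symm.trans rfl
  exact congr($h1 r)

theorem pi_c {B A : Art k k} (p : B ⟶ A) (U : X.affineOpens) (b : B) :
    pi x p U (c x B U b) = c x A U (p b) := by
  have h1 : (XApr x B).appLE ⊤ (W x B U).1 (fun _ _ => trivial) ≫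
      (XAmap x p).appLE (W x B U).1 (W x A U).1 (pi_le x p U).le =
      (specMap p).appTop ≫ (XApr x A).appLE ⊤ (W x A U).1 (fun _ _ => trivial) := by
    rw [Scheme.Hom.appLE_comp_appLE, appLE_congr (XAmap_snd x p) ⊤ (W x A U).1 _ (fun _ _ => trivial),
      Scheme.Hom.comp_appLE]
    rfl
  have h2 := Scheme.ΓSpecIso_inv_naturality (CommRingCat.ofHom p.toAlgHom.toRingHom)
  refine (congr($h1 ((Scheme.ΓSpecIso (CommRingCat.of B)).inv b))).trans ?_
  exact congrArg ((XApr x A).appLE ⊤ (W x A U).1 (fun _ _ => trivial)).hom (congr($h2 b)).symm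

theorem rho_pi {B A : Art k k} (p : B ⟶ A) (U : X.affineOpens) (a : Γ(XA x B, (W x B U).1)) :
    rho x A U (pi x p U a) = rho x B U a := by
  have h1 : (XAmap x p).appLE (W x B U).1 (W x A U).1 (pi_le x p U).le ≫
      (XAincl x A).appLE (W x A U).1 U.1 (rho_le x A U).le = (XAincl x B).appLE (W x B U).1 U.1 (rho_le x B U).le := by
    rw [Scheme.Hom.appLE_comp_appLE]
    exact appLE_congr (XAincl_XAmap x p) _ _ _ _
  exact congr($h1 a)

theorem flat_c (B : Art k k) (U : X.affineOpens) : (c x B U).Flat := by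
  haveI : Flat x := AssLib.flat_over_field x
  have h := (XApr x B).flat_appLE (U := ⊤) (isAffineOpen_top _) (V := (W x B U).1) (W x B U).2 (fun _ _ => trivial)
  exact (RingHom.Flat.of_bijective (ConcreteCategory.bijective_of_isIso
    (Scheme.ΓSpecIso (CommRingCat.of B)).inv)).comp h

/-- The data over an affine open. -/
noncomputable def sit {B A : Art k k} (p : B ⟶ A) (hp : Function.Surjective p) (t : B)
    (ht : RingHom.ker p.toAlgHom.toRingHom = Ideal.span {t}) (ht0 : t ≠ 0)
    (hm : IsLocalRing.maximalIdeal B * Ideal.span {t} = ⊥) (U : X.affineOpens) :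
    HilbObsRing.Sit B A Γ(XA x B, (W x B U).1) Γ(XA x A, (W x A U).1) Γ(X, U.1) where
  p := p.toAlgHom.toRingHom
  m := IsLocalRing.maximalIdeal B
  t := t
  c := c x B U
  cA := c x A U
  π := pi x p U
  ρ := rho x B U
  ρA := rho x A U
  hp := hp
  hker := ht
  hmt a ha := by rw [← Ideal.mem_bot, ← hm]; exact Ideal.mul_mem_mul ha (Ideal.mem_span_singleton_self t)
  hm a ha := by
    by_contra hna
    exact ht0 (by rwa [(IsLocalRing.notMem_maximalIdeal.1 hna).mul_left_eq_zero] at ha)
  htm := ArtFunLib.ker_le_maximalIdeal p (ht.ge (Ideal.mem_span_singleton_self t))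
  hmA := IsLocalRing.map_maximalIdeal_of_surjective _ hp
  hnil := (isArtinianRing_iff_isNilpotent_maximalIdeal A).1 inferInstance
  hflat := flat_c x B U
  hπ := (pi_spec x p hp U).1
  hπker := by rw [(pi_spec x p hp U).2, ht, Ideal.map_span, Set.image_singleton]
  hπc := pi_c x p U
  hρπ := rho_pi x p U
  hρker := (rho_spec x B U).2
  hρAker := (rho_spec x A U).2

theorem surjective_incl (B : Art k k) : Surjective (XAincl x B) := by
  haveI : Surjective (specRes B) := ⟨fun z => ⟨(⊥ : PrimeSpectrum k), by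
    haveI := LocalFunctor.subsingleton_spec B
    exact Subsingleton.elim _ _⟩⟩
  exact MorphismProperty.of_isPullback (P := @Surjective) (isPullback_XAincl x B).flip inferInstance

theorem fst_incl_le (B : Art k k) (V : (XA x B).Opens) :
    (pullback.fst x (specOver B)) ⁻¹ᵁ ((XAincl x B) ⁻¹ᵁ V) = V := by
  ext z
  obtain ⟨y, rfl⟩ := (surjective_incl x B).surj z
  show (XAincl x B) ((pullback.fst x (specOver B)) ((XAincl x B) y)) ∈ V ↔ (XAincl x B) y ∈ V
  rw [← Scheme.Hom.comp_apply (XAincl x B) (pullback.fst x (specOver B)), XAincl_fst]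
  rfl

theorem isClosedImmersion_map {B A : Art k k} (p : B ⟶ A) (hp : Function.Surjective p) :
    IsClosedImmersion (XAmap x p) := by
  haveI := IsClosedImmersion.spec_of_surjective (CommRingCat.ofHom p.toAlgHom.toRingHom) hp
  exact MorphismProperty.of_isPullback (P := @IsClosedImmersion) (isPullback_XAmap x p).flip inferInstance

theorem isAffineHom_incl (B : Art k k) : IsAffineHom (XAincl x B) := by
  haveI := IsClosedImmersion.spec_of_surjective (CommRingCat.ofHom B.res.toRingHom) B.res_surjective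
  haveI : IsClosedImmersion (XAincl x B) :=
    MorphismProperty.of_isPullback (P := @IsClosedImmersion) (isPullback_XAincl x B).flip inferInstance
  infer_instance

theorem mem_map_iff {P Q : Scheme.{u}} (f : P ⟶ Q) [IsAffineHom f] (I : P.IdealSheafData) (W : Q.affineOpens)
    (V : P.affineOpens) (hV : V.1 = f ⁻¹ᵁ W.1) (e : V.1 ≤ f ⁻¹ᵁ W.1) (a : Γ(Q, W.1)) :
    a ∈ (I.map f).ideal W ↔ (f.appLE W.1 V.1 e).hom a ∈ I.ideal V := by
  obtain ⟨V, hVa⟩ := V
  subst hV
  rw [Scheme.IdealSheafData.ideal_map_of_isAffineHom, Ideal.mem_comap, ← Scheme.Hom.app_eq_appLE]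

end Groth.Agent.ArtFunLib.HilbSit
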