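import Groth.Agent.ArtFunLib.Square
import Mathlib.Algebra.Group.MinimalAxioms

/-! The tangent space of a functor of Artin rings. -/

universe u v

open CategoryTheory ArtFun ArtFun.Art

namespace Groth.Agent.ArtFunLib

variable {Λ : Type u} {k : Type u} [CommRing Λ] [Field k] [Algebra Λ k]

/-- The square-zero extension `k ⊕ M` as an object. -/
def tsze (M : Type u) [AddCommGroup M] [Module k M] [Module kᵐᵒᵖ M] [SMulCommClass k kᵐᵒᵖ M]
    [IsCentralScalar k M] [Module Λ M] [IsScalarTower Λ k M] [IsScalarTower Λ kᵐᵒᵖ M]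
    [Module.Finite k M] : Art Λ k :=
  { carrier := TrivSqZeroExt k M
    isLocalRing := isLocalRing_tsze k M
    isArtinianRing := isArtinianRing_tsze k M
    res := TrivSqZeroExt.fstHom Λ k M
    res_surjective := fun a => ⟨TrivSqZeroExt.inl a, rfl⟩ }

/-- `k[ε₁, ε₂, ε₃]`. -/
abbrev dual3 : Art Λ k := tsze (Λ := Λ) (k := k) ((k × k) × k)

/-- `k[ε₁,ε₂,ε₃] → k[ε₁,ε₂]` from a linear map. -/
def t32 (l : (k × k) × k →ₗ[k] k × k) : (dual3 : Art Λ k) ⟶ dual2 Λ k :=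
  ⟨tszeMap l, AlgHom.ext fun _ => rfl⟩

/-- `k[ε₁,ε₂,ε₃] → k[ε]` from a linear map. -/
def t31 (l : (k × k) × k →ₗ[k] k) : (dual3 : Art Λ k) ⟶ dual Λ k :=
  ⟨tszeMap l, AlgHom.ext fun _ => rfl⟩

/-- `k[ε₁,ε₂] → k[ε₁,ε₂]` from a linear map. -/
def t22 (l : k × k →ₗ[k] k × k) : dual2 Λ k ⟶ dual2 Λ k := ⟨tszeMap l, AlgHom.ext fun _ => rfl⟩

/-- `k[ε] → k[ε₁,ε₂]` from a linear map. -/
def t12 (l : k →ₗ[k] k × k) : dual Λ k ⟶ dual2 Λ k := ⟨tszeMap l, AlgHom.ext fun _ => rfl⟩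

theorem isFibreProd_dual3 :
    IsFibreProd (t32 (LinearMap.fst k (k × k) k) : (dual3 : Art Λ k) ⟶ _)
      (t31 (LinearMap.snd k (k × k) k)) (toBase (dual2 Λ k)) (toBase (dual Λ k)) where
  w := by rw [eq_toBase (_ ≫ toBase (dual2 Λ k)), eq_toBase (_ ≫ toBase (dual Λ k))]
  inj b₁ b₂ h₁ h₂ := by
    have e₁ : b₁.fst = b₂.fst := by have e := congrArg TrivSqZeroExt.fst h₁; exact e
    have e₂ : b₁.snd.1 = b₂.snd.1 := by have e := congrArg TrivSqZeroExt.snd h₁; exact e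
    have e₃ : b₁.snd.2 = b₂.snd.2 := by have e := congrArg TrivSqZeroExt.snd h₂; exact e
    exact TrivSqZeroExt.ext e₁ (Prod.ext e₂ e₃)
  surj a' a'' h := by
    have h' : a'.fst = a''.fst := h
    exact ⟨(a'.fst, (a'.snd, a''.snd)), TrivSqZeroExt.ext rfl rfl, TrivSqZeroExt.ext h' rfl⟩

section

variable {F : Art Λ k ⥤ Type v}

theorem map_toBase_eq (h0 : H0 F) {A A' : Art Λ k} (x : F.obj A) (y : F.obj A') :
    F.map (toBase A) x = F.map (toBase A') y := @Subsingleton.elim _ h0.2 _ _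

theorem exists_pair (h0 : H0 F) (h2 : Heps F) (x y : F.obj (dual Λ k)) :
    ∃ z, F.map pr₁ z = x ∧ F.map pr₂ z = y :=
  exists_of_cmp_surjective (h2 pr₁ pr₂ isFibreProd_dual2).2 x y (map_toBase_eq h0 x y)

theorem pair_unique (h2 : Heps F) {z w : F.obj (dual2 Λ k)} (e₁ : F.map pr₁ z = F.map pr₁ w)
    (e₂ : F.map pr₂ z = F.map pr₂ w) : z = w :=
  cmp_ext (h2 pr₁ pr₂ isFibreProd_dual2).1 e₁ e₂

theorem scale_zero : (scale 0 : dual Λ k ⟶ dual Λ k) = toBase (dual Λ k) ≫ baseToDual :=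
  hom_apply_ext fun x => TrivSqZeroExt.ext rfl ((zero_smul k _).trans (TrivSqZeroExt.snd_inl k _).symm)

theorem scale_one : (scale 1 : dual Λ k ⟶ dual Λ k) = 𝟙 _ :=
  hom_apply_ext fun _ => TrivSqZeroExt.ext rfl (one_smul k _)

theorem scale_mul (c d : k) : (scale (c * d) : dual Λ k ⟶ dual Λ k) = scale d ≫ scale c :=
  hom_apply_ext fun _ => TrivSqZeroExt.ext rfl (mul_smul c d _)

theorem exists_pair_hom {E : Art Λ k} (f g : E ⟶ dual Λ k) :
    ∃ φ : E ⟶ dual2 Λ k, φ ≫ pr₁ = f ∧ φ ≫ pr₂ = g :=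
  ⟨fibLift isFibreProd_dual2 f g (by rw [eq_toBase (f ≫ _), eq_toBase (g ≫ _)]),
    fibLift_fst _ _ _ _, fibLift_snd _ _ _ _⟩

/-- The addition of tangent vectors. -/
noncomputable def tAdd (h0 : H0 F) (h2 : Heps F) (x y : F.obj (dual Λ k)) : F.obj (dual Λ k) :=
  F.map plus (exists_pair h0 h2 x y).choose

theorem tAdd_eq (h0 : H0 F) (h2 : Heps F) (z : F.obj (dual2 Λ k)) :
    tAdd h0 h2 (F.map pr₁ z) (F.map pr₂ z) = F.map plus z := by
  have h := (exists_pair h0 h2 (F.map pr₁ z) (F.map pr₂ z)).choose_spec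
  rw [tAdd, pair_unique h2 h.1 h.2]

theorem tAdd_map (h0 : H0 F) (h2 : Heps F) {E : Art Λ k} (φ : E ⟶ dual2 Λ k) (f g : E ⟶ dual Λ k)
    (hf : φ ≫ pr₁ = f) (hg : φ ≫ pr₂ = g) (w : F.obj E) :
    tAdd h0 h2 (F.map f w) (F.map g w) = F.map (φ ≫ plus) w := by
  rw [← hf, ← hg, map_comp', map_comp', tAdd_eq, map_comp']

theorem tAdd_comm (h0 : H0 F) (h2 : Heps F) (x y : F.obj (dual Λ k)) :
    tAdd h0 h2 x y = tAdd h0 h2 y x := by
  obtain ⟨z, hx, hy⟩ := exists_pair h0 h2 x y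
  rw [← hx, ← hy, tAdd_eq,
    tAdd_map h0 h2 (t22 (LinearMap.snd k k k |>.prod (LinearMap.fst k k k))) pr₂ pr₁
      (hom_apply_ext fun _ => TrivSqZeroExt.ext rfl rfl)
      (hom_apply_ext fun _ => TrivSqZeroExt.ext rfl rfl)]
  exact congrArg (fun φ : dual2 Λ k ⟶ dual Λ k => F.map φ z) (hom_apply_ext fun w =>
    TrivSqZeroExt.ext rfl (add_comm (w.snd.1 : k) (w.snd.2 : k)))

theorem tAdd_assoc (h0 : H0 F) (h2 : Heps F) (x y z : F.obj (dual Λ k)) :
    tAdd h0 h2 (tAdd h0 h2 x y) z = tAdd h0 h2 x (tAdd h0 h2 y z) := by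
  obtain ⟨v, hx, hy⟩ := exists_pair h0 h2 x y
  obtain ⟨w, hw₁, hw₂⟩ :=
    exists_of_cmp_surjective (h2 _ _ isFibreProd_dual3).2 v z (map_toBase_eq h0 v z)
  let P := t32 (Λ := Λ) (LinearMap.fst k (k × k) k)
  let R := t31 (Λ := Λ) (LinearMap.snd k (k × k) k)
  let L₁ := LinearMap.fst k k k ∘ₗ LinearMap.fst k (k × k) k
  let L₂ := LinearMap.snd k k k ∘ₗ LinearMap.fst k (k × k) k
  let L₃ := LinearMap.snd k (k × k) k
  have h23 : tAdd h0 h2 y z = F.map (t32 (L₂.prod L₃) ≫ plus) w := by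
    rw [← hy, ← hw₁, ← hw₂, ← map_comp',
      tAdd_map h0 h2 (t32 (L₂.prod L₃)) (P ≫ pr₂) R
        (hom_apply_ext fun _ => TrivSqZeroExt.ext rfl rfl)
        (hom_apply_ext fun _ => TrivSqZeroExt.ext rfl rfl)]
  have h12 : tAdd h0 h2 x y = F.map (P ≫ plus) w := by
    rw [← hx, ← hy, tAdd_eq, ← hw₁, map_comp']
  rw [h12, h23, ← hx, ← hw₁, ← hw₂, ← map_comp',
    tAdd_map h0 h2 (t32 ((L₁ + L₂).prod L₃)) (P ≫ plus) R
      (hom_apply_ext fun _ => TrivSqZeroExt.ext rfl rfl)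
      (hom_apply_ext fun _ => TrivSqZeroExt.ext rfl rfl),
    tAdd_map h0 h2 (t32 (L₁.prod (L₂ + L₃))) (P ≫ pr₁) (t32 (L₂.prod L₃) ≫ plus)
      (hom_apply_ext fun _ => TrivSqZeroExt.ext rfl rfl)
      (hom_apply_ext fun _ => TrivSqZeroExt.ext rfl rfl)]
  exact congrArg (fun φ : (dual3 : Art Λ k) ⟶ dual Λ k => F.map φ w) (hom_apply_ext fun u =>
    TrivSqZeroExt.ext rfl (add_assoc (u.snd.1.1 : k) (u.snd.1.2 : k) (u.snd.2 : k)))

theorem tAdd_scales (h0 : H0 F) (h2 : Heps F) (c d : k) (x : F.obj (dual Λ k)) :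
    tAdd h0 h2 (F.map (scale c) x) (F.map (scale d) x) = F.map (scale (c + d)) x := by
  rw [tAdd_map h0 h2 (t12 ((c • LinearMap.id).prod (d • LinearMap.id))) (scale c) (scale d)
    (hom_apply_ext fun _ => TrivSqZeroExt.ext rfl rfl)
    (hom_apply_ext fun _ => TrivSqZeroExt.ext rfl rfl)]
  exact congrArg (fun φ : dual Λ k ⟶ dual Λ k => F.map φ x) (hom_apply_ext fun u =>
    TrivSqZeroExt.ext rfl (add_smul c d (u.snd : k)).symm)

theorem t22_smul_pr₁ (c : k) :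
    t22 (c • (LinearMap.id : k × k →ₗ[k] k × k)) ≫ pr₁ = (pr₁ ≫ scale c : dual2 Λ k ⟶ dual Λ k) :=
  hom_apply_ext fun _ => TrivSqZeroExt.ext rfl (by rfl)

theorem t22_smul_pr₂ (c : k) :
    t22 (c • (LinearMap.id : k × k →ₗ[k] k × k)) ≫ pr₂ = (pr₂ ≫ scale c : dual2 Λ k ⟶ dual Λ k) :=
  hom_apply_ext fun _ => TrivSqZeroExt.ext rfl (by rfl)

theorem t22_smul_plus (c : k) :
    t22 (c • (LinearMap.id : k × k →ₗ[k] k × k)) ≫ plus = (plus ≫ scale c : dual2 Λ k ⟶ dual Λ k) :=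
  hom_apply_ext fun u => TrivSqZeroExt.ext rfl (smul_add c (u.snd.1 : k) (u.snd.2 : k)).symm

theorem scale_tAdd (h0 : H0 F) (h2 : Heps F) (c : k) (x y : F.obj (dual Λ k)) :
    F.map (scale c) (tAdd h0 h2 x y) = tAdd h0 h2 (F.map (scale c) x) (F.map (scale c) y) := by
  obtain ⟨z, hx, hy⟩ := exists_pair h0 h2 x y
  rw [← hx, ← hy, tAdd_eq, ← map_comp', ← map_comp', ← map_comp',
    tAdd_map h0 h2 _ _ _ (t22_smul_pr₁ c) (t22_smul_pr₂ c), t22_smul_plus]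

theorem nonempty_tangentStr (h0 : H0 F) (h2 : Heps F) : Nonempty (TangentStr F) := by
  obtain ⟨b₀⟩ := h0.1
  let z₀ : F.obj (dual Λ k) := F.map baseToDual b₀
  have hz : ∀ x : F.obj (dual Λ k), F.map (scale 0) x = z₀ := fun x => by
    rw [scale_zero, map_comp']
    exact congrArg _ (@Subsingleton.elim _ h0.2 _ _)
  have hone : ∀ x : F.obj (dual Λ k), F.map (scale 1) x = x := fun x => by rw [scale_one, map_id']
  have hz0 : ∀ x, tAdd h0 h2 z₀ x = x := fun x => by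
    calc tAdd h0 h2 z₀ x = tAdd h0 h2 (F.map (scale 0) x) (F.map (scale 1) x) := by rw [hz, hone]
      _ = x := by rw [tAdd_scales, zero_add, hone]
  have hneg : ∀ x, tAdd h0 h2 (F.map (scale (-1)) x) x = z₀ := fun x => by
    calc tAdd h0 h2 (F.map (scale (-1)) x) x
        = tAdd h0 h2 (F.map (scale (-1)) x) (F.map (scale 1) x) := by rw [hone]
      _ = z₀ := by rw [tAdd_scales, neg_add_cancel, hz]
  letI iA : Add (F.obj (dual Λ k)) := ⟨tAdd h0 h2⟩
  letI iZ : Zero (F.obj (dual Λ k)) := ⟨z₀⟩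
  letI iN : Neg (F.obj (dual Λ k)) := ⟨fun x => F.map (scale (-1)) x⟩
  letI I : AddCommGroup (F.obj (dual Λ k)) :=
    { AddGroup.ofLeftAxioms (G := F.obj (dual Λ k)) (tAdd_assoc h0 h2) hz0 hneg with
      add_comm := tAdd_comm h0 h2 }
  letI M : Module k (F.obj (dual Λ k)) :=
    { smul := fun c x => F.map (scale c) x
      one_smul := hone
      mul_smul := fun c d x => by
        change F.map (scale (c * d)) x = F.map (scale c) (F.map (scale d) x)
        rw [scale_mul, map_comp']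
      smul_zero := fun c => by
        change F.map (scale c) z₀ = z₀
        rw [← hz z₀, ← map_comp', ← scale_mul, mul_zero]
      smul_add := scale_tAdd h0 h2
      add_smul := fun c d x => (tAdd_scales h0 h2 c d x).symm
      zero_smul := hz }
  exact ⟨{ addCommGroup := I, module := M, smul_eq := fun _ _ => rfl, add_eq := tAdd_eq h0 h2 }⟩

theorem tangent_add_eq [TangentStr F] (z : F.obj (dual2 Λ k)) :
    (TangentSpace.mk (F.map pr₁ z) + TangentSpace.mk (F.map pr₂ z) : TangentSpace F) =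
      TangentSpace.mk (F.map plus z) := TangentStr.add_eq z

theorem tangent_smul_eq [TangentStr F] (c : k) (x : F.obj (dual Λ k)) :
    (c • TangentSpace.mk x : TangentSpace F) = TangentSpace.mk (F.map (scale c) x) :=
  TangentStr.smul_eq c x

theorem tangent_zero_eq [TangentStr F] (x : F.obj (dual Λ k)) :
    (0 : TangentSpace F) = TangentSpace.mk (F.map (toBase (dual Λ k) ≫ baseToDual) x) := by
  rw [← scale_zero, ← tangent_smul_eq, zero_smul]

end

end Groth.Agent.ArtFunLib
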