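import Groth.Agent.ArtFunLib.Completion
import Groth.Agent.ArtFunLib.Formal
import Groth.Agent.EGA41Lib.Adic
import Groth.Agent.S6277
import Mathlib.RingTheory.Nakayama

/-!
# Smooth coefficient rings: retracts of completed polynomial algebras, adic formal smoothness
-/

set_option autoImplicit false

universe u v

open CategoryTheory ArtFun IsLocalRing

namespace Groth.Agent.ArtFunLib.SmoothHull

variable {Λ : Type u} {k : Type u} [CommRing Λ] [Field k] [Algebra Λ k]

theorem ker_res_eq (R : CRing Λ k) : RingHom.ker R.res = maximalIdeal R.carrier := by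
  ext a
  exact (CRing.mem_maximalIdeal_iff R a).symm

/-- Every coefficient ring is a quotient of a smooth and adically formally smooth one. -/
theorem exists_cover [IsNoetherianRing Λ] [Module.Finite Λ k] (R : CRing Λ k) :
    ∃ (B : CRing Λ k) (π : B.carrier →ₐ[Λ] R.carrier), R.res.comp π = B.res ∧ Function.Surjective π ∧
      IsSmoothFunctor (hR B.carrier B.res) ∧
      CAlgX.IsAdicFormallySmooth Λ B.carrier (maximalIdeal B.carrier) := by
  obtain ⟨n, g, hg, hsurj⟩ := Completion.exists_presentation R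
  let e : ULift.{u} (Fin n) ≃ Fin n := Equiv.ulift
  let g' : MvPolynomial (ULift.{u} (Fin n)) Λ →ₐ[Λ] R.carrier := g.comp (MvPolynomial.rename e)
  have hg' : Function.Surjective (R.res.comp g') := fun c => (hg c).elim fun P hP =>
    ⟨MvPolynomial.rename e.symm P, by simpa [g', MvPolynomial.rename_rename] using hP⟩
  obtain ⟨B, ι, hι, happ, hker, hex, hu⟩ := Completion.exists_completion' (R.res.comp g') hg'
  obtain ⟨π, hπ, hπι⟩ := hex R g' rfl
  have hps : Function.Surjective π := hsurj B (ι.comp (MvPolynomial.rename e.symm)) π hπ (by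
    rw [← AlgHom.comp_assoc, hπι]
    exact MvPolynomial.algHom_ext fun i => by simp [g'])
  refine ⟨B, π, hπ, hps,
    Completion.isSmoothFunctor_hR B ι (fun T f hf => hex T f (hf.trans hι)) hu, ?_⟩
  intro A _ _ J hJ ψ hψ
  obtain ⟨j, hj⟩ := hψ
  choose w hw using fun i => Ideal.Quotient.mk_surjective (ψ (ι (MvPolynomial.X i)))
  let f : MvPolynomial (ULift.{u} (Fin n)) Λ →ₐ[Λ] A := MvPolynomial.aeval w
  have hf : (Ideal.Quotient.mkₐ Λ J).comp f = ψ.comp ι := MvPolynomial.algHom_ext fun i => by simp [f, hw]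
  let M := RingHom.ker (R.res.comp g')
  have hιM : ∀ s ∈ M, ι s ∈ maximalIdeal B.carrier := fun s hs => by
    rw [CRing.mem_maximalIdeal_iff]
    exact (congr($hι s)).trans hs
  have hfM : (M ^ j).map f.toRingHom ≤ J := Ideal.map_le_iff_le_comap.2 fun s hs => by
    rw [Ideal.mem_comap, ← Ideal.Quotient.eq_zero_iff_mem]
    refine (congr($hf s)).trans (hj _ ?_)
    exact EGA41Lib.mem_pow_of_forall_mem ι hιM j s hs
  have hf2 : ∀ s ∈ M ^ (j * 2), f s = 0 := fun s hs => by
    have h1 : f.toRingHom s ∈ J ^ 2 := by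
      rw [pow_mul] at hs
      have := Ideal.mem_map_of_mem f.toRingHom hs
      rw [Ideal.map_pow] at this
      exact Ideal.pow_right_mono hfM 2 this
    rw [hJ] at h1
    exact h1
  let φ : MvPolynomial (ULift.{u} (Fin n)) Λ →ₐ[Λ] B.carrier ⧸ maximalIdeal B.carrier ^ (j * 2) :=
    (Ideal.Quotient.mkₐ Λ _).comp ι
  have hφ : Function.Surjective φ := fun z => by
    obtain ⟨x, rfl⟩ := Ideal.Quotient.mk_surjective z
    obtain ⟨s, hs⟩ := happ (j * 2) x
    exact ⟨s, (Ideal.Quotient.eq.2 hs).symm⟩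
  let χ' := AlgHom.liftOfSurjective φ hφ f fun s hs =>
    RingHom.mem_ker.2 (hf2 s (hker _ s (Ideal.Quotient.eq_zero_iff_mem.1 hs)))
  refine ⟨χ'.comp (Ideal.Quotient.mkₐ Λ _), AlgHom.ext fun x => ?_⟩
  obtain ⟨s, hs⟩ := happ (j * 2) x
  show Ideal.Quotient.mk J (χ' (Ideal.Quotient.mk _ x)) = ψ x
  rw [show Ideal.Quotient.mk (maximalIdeal B.carrier ^ (j * 2)) x = φ s from Ideal.Quotient.eq.2 hs,
    AlgHom.liftOfSurjective_apply]
  refine (congr($hf s)).trans ?_
  show ψ (ι s) = ψ x
  rw [← sub_eq_zero, ← map_sub]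
  refine hj _ (Ideal.pow_le_pow_right (show j ≤ j * 2 by omega) ?_)
  rw [← neg_sub]
  exact (Ideal.neg_mem_iff _).2 hs

/-- An endomorphism of a coefficient ring congruent to the identity modulo `m²` is bijective. -/
theorem bijective_of_congr_sq (R : CRing Λ k) (e : R.carrier →ₐ[Λ] R.carrier)
    (he : ∀ r, e r - r ∈ maximalIdeal R.carrier ^ 2) : Function.Bijective e := by
  haveI := R.isAdicComplete
  have hm : (maximalIdeal R.carrier).map e.toRingHom = maximalIdeal R.carrier := by
    have hle : (maximalIdeal R.carrier).map e.toRingHom ≤ maximalIdeal R.carrier :=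
      Ideal.map_le_iff_le_comap.2 fun x hx => by
        rw [Ideal.mem_comap]
        show e x ∈ _
        rw [← sub_add_cancel (e x) x]
        exact add_mem (Ideal.pow_le_self two_ne_zero (he x)) hx
    refine le_antisymm hle (Submodule.le_of_le_smul_of_le_jacobson_bot (IsNoetherian.noetherian _)
      (maximalIdeal_le_jacobson ⊥) fun x hx => ?_)
    refine Submodule.mem_sup.2 ⟨e x, Ideal.mem_map_of_mem e.toRingHom hx, x - e x, ?_, add_sub_cancel _ _⟩
    rw [smul_eq_mul, ← sq, ← neg_sub]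
    exact (Ideal.neg_mem_iff _).2 (he x)
  haveI : IsHausdorff ((maximalIdeal R.carrier).map e.toRingHom) R.carrier :=
    hm.symm ▸ (inferInstance : IsHausdorff (maximalIdeal R.carrier) R.carrier)
  refine S6277.result e.toRingHom (surjective_of_mk_map_comp_surjective (I := maximalIdeal R.carrier)
    (f := e.toRingHom) fun z => ?_)
  obtain ⟨x, rfl⟩ := Ideal.Quotient.mk_surjective z
  refine ⟨x, Ideal.Quotient.eq.2 ?_⟩
  rw [hm]
  exact Ideal.pow_le_self two_ne_zero (he x)

/-- A surjection onto a coefficient ring with smooth functor has a section. -/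
theorem exists_section (R B : CRing Λ k) (hR : IsSmoothFunctor (hR R.carrier R.res))
    (π : B.carrier →ₐ[Λ] R.carrier) (hπ : R.res.comp π = B.res) (hps : Function.Surjective π) :
    ∃ s : R.carrier →ₐ[Λ] B.carrier, B.res.comp s = R.res ∧ ∀ r, π (s r) = r := by
  have hle : RingHom.ker B.res ^ (1 + 1) ≤ RingHom.ker ((Hull.lvlHom R 1).1.comp π) := fun x hx => by
    rw [RingHom.mem_ker, AlgHom.comp_apply]
    refine (Hull.qmk_eq_zero R.res R.res_surjective _ _).2 ?_
    exact EGA41Lib.mem_pow_of_forall_mem π (fun y hy => RingHom.mem_ker.2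
      ((congr($hπ y)).trans (RingHom.mem_ker.1 hy))) _ x hx
  let μ : Hull.lvl B 1 ⟶ Hull.lvl R 1 := Hull.qlift B.res B.res_surjective _
    ((Hull.lvlHom R 1).1.comp π) (AlgHom.ext fun x => congr($hπ x)) hle
  have hμ : Function.Surjective μ := fun y => by
    obtain ⟨r, hr⟩ := Hull.qmk_surjective R.res R.res_surjective _ _ y
    obtain ⟨b, rfl⟩ := hps r
    exact ⟨Hull.qmk B.res B.res_surjective _ _ b, hr⟩
  obtain ⟨φ₁, hφ₁⟩ := hR μ hμ (Hull.lvlHom R 1)
  have hsurj : ∀ n, ∀ φ : HomSet R.carrier R.res (Hull.lvl B n), ∃ ψ : HomSet R.carrier R.res (Hull.lvl B (n + 1)),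
      HomSet.map (Hull.lvlTrans B (Nat.le_succ n)) ψ = φ := fun n φ =>
    hR _ (Hull.qTrans_surjective _ _ _ _ _) φ
  choose next hnext using hsurj
  let seq : ∀ n, HomSet R.carrier R.res (Hull.lvl B (n + 1)) := fun n => Nat.rec φ₁ (fun m φ => next (m + 1) φ) n
  let φ : ∀ n, HomSet R.carrier R.res (Hull.lvl B n) := fun n =>
    HomSet.map (Hull.lvlTrans B (Nat.le_succ n)) (seq n)
  have hcomp : ∀ a b c (h : a ≤ b) (h' : b ≤ c) (ψ : HomSet R.carrier R.res (Hull.lvl B c)),
      HomSet.map (Hull.lvlTrans B h) (HomSet.map (Hull.lvlTrans B h') ψ) = HomSet.map (Hull.lvlTrans B (h.trans h')) ψ :=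
    fun a b c h h' ψ => Subtype.ext (AlgHom.ext fun x =>
      congr($(Hull.qTrans_comp B.res B.res_surjective (Hull.isNear_ker_pow B c) (Hull.isNear_ker_pow B b) (Hull.isNear_ker_pow B a)
        (Ideal.pow_le_pow_right (Nat.succ_le_succ h')) (Ideal.pow_le_pow_right (Nat.succ_le_succ h))) (ψ.1 x)))
  have hφt : ∀ p n (h : p ≤ n), HomSet.map (Hull.lvlTrans B h) (φ n) = φ p := by
    intro p n h
    induction n, h using Nat.le_induction with
    | base => exact hcomp p p (p + 1) le_rfl (Nat.le_succ p) (seq p)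
    | succ n h ih =>
      rw [← ih]
      refine (hcomp p (n + 1) (n + 2) _ _ (seq (n + 1))).trans ?_
      show _ = HomSet.map (Hull.lvlTrans B h) (HomSet.map (Hull.lvlTrans B (Nat.le_succ n)) (seq n))
      rw [show seq n = HomSet.map (Hull.lvlTrans B (Nat.le_succ (n + 1))) (seq (n + 1)) from
        (hnext (n + 1) (seq n)).symm, hcomp, hcomp]
  let F : Art Λ k ⥤ Type := (Functor.const _).obj PUnit
  obtain ⟨g, hg, -, hgφ⟩ := Hull.exists_along_of_compatible (F := F) (ξ := ⟨fun _ _ => PUnit.unit, fun _ _ => rfl⟩)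
    B ⟨fun _ _ => PUnit.unit, fun _ _ => rfl⟩ φ (fun _ => rfl) hφt
  have hpg : R.res.comp (π.comp g) = R.res := by rw [← AlgHom.comp_assoc, hπ, hg]
  have he : ∀ r, π (g r) - r ∈ maximalIdeal R.carrier ^ 2 := fun r => by
    have h1 : Hull.qmk B.res B.res_surjective _ (Hull.isNear_ker_pow B 1) (g r) = φ₁.1 r := by
      rw [hgφ 1 r]
      show (HomSet.map (Hull.lvlTrans B (Nat.le_succ 1)) (seq 1)).1 r = φ₁.1 r
      rw [show HomSet.map (Hull.lvlTrans B (Nat.le_succ 1)) (seq 1) = seq 0 from hnext 1 (seq 0)]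
      rfl
    have h2 : Hull.qmk R.res R.res_surjective _ (Hull.isNear_ker_pow R 1) (π (g r)) =
        Hull.qmk R.res R.res_surjective _ (Hull.isNear_ker_pow R 1) r :=
      (congrArg μ.toAlgHom h1).trans (congr($(congrArg Subtype.val hφ₁) r))
    rw [← ker_res_eq]
    refine (Hull.qmk_eq_zero R.res R.res_surjective (Hull.isNear_ker_pow R 1) _).1 ?_
    rw [map_sub, h2, sub_self]
  let e := AlgEquiv.ofBijective (π.comp g) (bijective_of_congr_sq R _ he)
  refine ⟨g.comp e.symm.toAlgHom, AlgHom.ext fun r => ?_, fun r => e.apply_symm_apply r⟩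
  show B.res (g (e.symm r)) = R.res r
  conv_rhs => rw [← e.apply_symm_apply r]
  exact (congr($hg (e.symm r))).trans (congr($hpg (e.symm r))).symm

/-- The functor of a coefficient ring is smooth iff the ring is adically formally smooth. -/
theorem isSmoothFunctor_iff_isAdicFormallySmooth [IsNoetherianRing Λ] [Module.Finite Λ k] (R : CRing Λ k) :
    IsSmoothFunctor (hR R.carrier R.res) ↔
      CAlgX.IsAdicFormallySmooth Λ R.carrier (maximalIdeal R.carrier) := by
  constructor
  · intro h A _ _ J hJ ψ ⟨j, hj⟩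
    obtain ⟨B, π, hπ, hps, -, hB⟩ := exists_cover R
    obtain ⟨s, -, hπs⟩ := exists_section R B h π hπ hps
    obtain ⟨χ, hχ⟩ := hB A J hJ (ψ.comp π) ⟨j, fun x hx => hj _
      (EGA41Lib.mem_pow_of_forall_mem π (fun y hy => by
        rw [CRing.mem_maximalIdeal_iff] at hy ⊢
        exact (congr($hπ y)).trans hy) j x hx)⟩
    refine ⟨χ.comp s, AlgHom.ext fun r => ?_⟩
    refine (congr($hχ (s r))).trans ?_
    show ψ (π (s r)) = ψ r
    rw [hπs]
  · intro h B A μ hμ φ
    let φ' : HomSet R.carrier R.res A := φ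
    let e : (B ⧸ RingHom.ker μ.toAlgHom) ≃ₐ[Λ] A := Ideal.quotientKerAlgEquivOfSurjective hμ
    obtain ⟨N, hN⟩ := exists_mpow_le_ker R φ'
    have hnil : IsNilpotent (RingHom.ker μ.toAlgHom) := by
      obtain ⟨t, ht⟩ := (isArtinianRing_iff_isNilpotent_maximalIdeal B).1 inferInstance
      exact ⟨t, le_bot_iff.1 ((Ideal.pow_right_mono (ker_le_maximalIdeal μ) t).trans ht.le)⟩
    obtain ⟨v, hv⟩ := EGA41Lib.lift_of_isAdicFormallySmooth h (RingHom.ker μ.toAlgHom) hnil
      (e.symm.toAlgHom.comp φ'.1) ⟨N + 1, fun x hx => by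
        show e.symm (φ'.1 x) = 0
        rw [hN x hx, map_zero]⟩
    have h2 : ∀ r, μ.toAlgHom (v r) = φ'.1 r := fun r => by
      have := congrArg e (congr($hv r))
      rw [show e (e.symm.toAlgHom.comp φ'.1 r) = φ'.1 r from e.apply_symm_apply _] at this
      exact this
    refine ⟨(⟨v, AlgHom.ext fun r => ?_⟩ : HomSet R.carrier R.res B), Subtype.ext (AlgHom.ext h2)⟩
    show B.res (v r) = R.res r
    rw [← Art.res_app μ]
    exact (congrArg A.res (h2 r)).trans (congr($(φ'.2) r))

end Groth.Agent.ArtFunLib.SmoothHull
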