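import Groth.Agent.ArtFunLib.Basic
import Groth.Prelude.Def_W4c5t1liftcy3defoArt
import Mathlib.RingTheory.Flat.Basic

/-!
The first order lifting criterion for the curvilinear objects.
-/

set_option autoImplicit false

universe u v

open CategoryTheory Polynomial
open scoped TensorProduct

namespace Groth.Agent.ArtFunLib.T1Lifting

open ArtFun ArtFun.Art T1Lift Groth.Agent.ArtFunLib

variable {k : Type u} [Field k]

theorem hom_ext_A {n : ℕ} {C : Art k k} {f g : T1Lift.A k n ⟶ C}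
    (h : f (t k n) = g (t k n)) : f = g := by
  refine hom_apply_ext fun x => ?_
  exact DFunLike.congr_fun (AdjoinRoot.algHom_ext (g₁ := f.toAlgHom) (g₂ := g.toAlgHom) h) x

theorem αAlg_mk (n : ℕ) (p : k[X]) : αAlg k n (AdjoinRoot.mk _ p) = AdjoinRoot.mk _ p := by
  have h : (αAlg k n).comp (AdjoinRoot.mkₐ _) = AdjoinRoot.mkₐ _ :=
    Polynomial.algHom_ext (by
      rw [AlgHom.comp_apply, AdjoinRoot.coe_mkₐ, AdjoinRoot.coe_mkₐ, AdjoinRoot.mk_X, AdjoinRoot.mk_X]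
      exact αAlg_t k n)
  exact DFunLike.congr_fun h p

theorem α_surjective (n : ℕ) : Function.Surjective (αAlg k n) := fun x => by
  induction x using AdjoinRoot.induction_on with
  | ih p => exact ⟨AdjoinRoot.mk _ p, αAlg_mk n p⟩

theorem fst_inl_add_inr {R : Type u} [CommRing R] (a b : R) :
    (TrivSqZeroExt.inl a + TrivSqZeroExt.inr b : DualNumber R).fst = a := by simp

theorem snd_inl_add_inr {R : Type u} [CommRing R] (a b : R) :
    (TrivSqZeroExt.inl a + TrivSqZeroExt.inr b : DualNumber R).snd = b := by simp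

theorem exists_of_ker_α {n : ℕ} {x : Tr k (n + 1)} (h : αAlg k n x = 0) :
    ∃ b, x = t k (n + 1) ^ (n + 1) * b := by
  induction x using AdjoinRoot.induction_on with
  | ih p =>
    rw [αAlg_mk, AdjoinRoot.mk_eq_zero] at h
    obtain ⟨q, rfl⟩ := h
    exact ⟨AdjoinRoot.mk _ q, by rw [map_mul, map_pow, AdjoinRoot.mk_X]⟩

theorem mul_ker_α {n : ℕ} {a x : Tr k (n + 1)} (ha : resA k (n + 1) a = 0) (h : αAlg k n x = 0) : a * x = 0 := by
  obtain ⟨b, rfl⟩ := exists_of_ker_α h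
  obtain ⟨c, hc⟩ := eq_algebraMap_add_t_mul k (n + 1) a
  rw [ha, map_zero, zero_add] at hc
  calc a * (t k (n + 1) ^ (n + 1) * b) = t k (n + 1) ^ (n + 2) * (c * b) := by rw [hc]; ring
    _ = 0 := by rw [t_pow, zero_mul]

theorem dual_mul_eq_zero {n : ℕ} (a x : DualNumber (Tr k (n + 1))) (ha : resA k (n + 1) a.fst = 0)
    (hfst : x.fst = 0) (hsnd : αAlg k n x.snd = 0) : a * x = 0 := by
  refine TrivSqZeroExt.ext ?_ ?_
  · rw [TrivSqZeroExt.fst_mul, hfst, mul_zero, TrivSqZeroExt.fst_zero]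
  · rw [TrivSqZeroExt.snd_mul, hfst, MulOpposite.op_zero, zero_smul, add_zero, smul_eq_mul,
      mul_ker_α ha hsnd, TrivSqZeroExt.snd_zero]

theorem isSemismallExt_α (n : ℕ) : IsSemismallExt (α k n) := by
  refine ⟨α_surjective n, eq_bot_iff.2 (Ideal.mul_le.2 fun a ha x hx => ?_)⟩
  exact mul_ker_α ((mem_maximalIdeal_iff _ a).1 ha) (RingHom.mem_ker.1 hx)

theorem w_ξ (n : ℕ) : ξ k n ≫ β k n = β k (n + 1) ≫ α k n := hom_apply_ext fun _ => rfl

theorem w_ε (n : ℕ) : ε k n ≫ β k n = α k n := hom_ext_A (by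
  show (εAlg k n (t k (n + 1))).fst = αAlg k n (t k (n + 1))
  rw [εAlg_t, αAlg_t, TrivSqZeroExt.fst_add, TrivSqZeroExt.fst_inl, DualNumber.fst_eps, add_zero])

theorem w_εξ (n : ℕ) : α k (n + 1) ≫ ε k n = ε k (n + 1) ≫ ξ k n := hom_ext_A (by
  show εAlg k n (αAlg k (n + 1) (t k (n + 2))) = dualMap k (αAlg k n) (εAlg k (n + 1) (t k (n + 2)))
  rw [αAlg_t, εAlg_t, εAlg_t]
  refine TrivSqZeroExt.ext ?_ ?_
  · show _ = αAlg k n ((TrivSqZeroExt.inl (t k (n + 1)) + DualNumber.eps : DualNumber (Tr k (n + 1))).fst)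
    simp
  · show _ = αAlg k n ((TrivSqZeroExt.inl (t k (n + 1)) + DualNumber.eps : DualNumber (Tr k (n + 1))).snd)
    simp)

theorem snd_pow (n : ℕ) (m : ℕ) :
    ((TrivSqZeroExt.inl (t k n) + DualNumber.eps : DualNumber (Tr k n)) ^ (m + 1)).snd =
      ((m + 1 : ℕ) : Tr k n) * t k n ^ m := by
  rw [TrivSqZeroExt.snd_pow]
  simp

theorem eq_zero_of_ε [CharZero k] {n : ℕ} {x : Tr k (n + 2)} (hx : αAlg k (n + 1) x = 0)
    (h : εAlg k (n + 1) x = 0) : x = 0 := by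
  obtain ⟨b, rfl⟩ := exists_of_ker_α hx
  obtain ⟨c, hc⟩ := eq_algebraMap_add_t_mul k (n + 2) b
  have hd : t k (n + 2) ^ (n + 2) * b = algebraMap k _ (resA k (n + 2) b) * t k (n + 2) ^ (n + 2) := by
    conv_lhs => rw [hc]
    calc t k (n + 2) ^ (n + 2) * (algebraMap k _ (resA k (n + 2) b) + t k (n + 2) * c)
        = algebraMap k _ (resA k (n + 2) b) * t k (n + 2) ^ (n + 2) + t k (n + 2) ^ (n + 3) * c := by ring
      _ = _ := by rw [t_pow, zero_mul, add_zero]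
  rw [hd] at h ⊢
  rw [map_mul, AlgHom.commutes, map_pow, εAlg_t, ← Algebra.smul_def] at h
  have h2 := congrArg TrivSqZeroExt.snd h
  rw [TrivSqZeroExt.snd_smul, snd_pow, TrivSqZeroExt.snd_zero, ← map_natCast (algebraMap k (Tr k (n + 1))),
    ← Algebra.smul_def, smul_smul] at h2
  have hne : t k (n + 1) ^ (n + 1) ≠ 0 := by
    intro h0
    have h1 : AdjoinRoot.mk ((X : k[X]) ^ (n + 2)) (X ^ (n + 1)) = 0 := by
      rw [map_pow, AdjoinRoot.mk_X]; exact h0
    rw [AdjoinRoot.mk_eq_zero, X_pow_dvd_iff] at h1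
    exact one_ne_zero ((coeff_X_pow_self (R := k) (n + 1)).symm.trans (h1 (n + 1) (by omega)))
  rcases smul_eq_zero.1 h2 with h3 | h3
  · rcases mul_eq_zero.1 h3 with h4 | h4
    · rw [h4, map_zero, zero_mul]
    · exact absurd h4 (Nat.cast_ne_zero.2 (by omega))
  · exact absurd h3 hne

/-- The criterion. -/
theorem lift_iff [CharZero k] (F : Art k k ⥤ Type v)
    (hRS : ∀ ⦃P A A' A'' : Art k k⦄ (p' : P ⟶ A') (p'' : P ⟶ A'') (f' : A' ⟶ A) (f'' : A'' ⟶ A)
      (h : IsFibreProd p' p'' f' f''), Function.Surjective f'' → Function.Bijective (cmp F h))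
    (V : Type u) [AddCommGroup V] [Module k V] (O : ObsTheory F V)
    (hnat : ∀ ⦃A' A C' C : Art k k⦄ (φ : A' ⟶ A) (hφ : IsSemismallExt φ)
      (ψ : C' ⟶ C) (hψ : IsSemismallExt ψ) (g' : A' ⟶ C') (g : A ⟶ C), φ ≫ g = g' ≫ ψ →
      ∀ (ℓ : ↥(RingHom.ker φ.toAlgHom) →ₗ[k] ↥(RingHom.ker ψ.toAlgHom)),
        (∀ j : ↥(RingHom.ker φ.toAlgHom), ((ℓ j : ↥(RingHom.ker ψ.toAlgHom)) : C') = g' (j : A')) →
        ∀ u : F.obj A, O.obs ψ hψ (F.map g u) = LinearMap.lTensor V ℓ (O.obs φ hφ u))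
    (n : ℕ) (X : F.obj (T1Lift.A k (n + 1))) :
    (∃ X' : F.obj (T1Lift.A k (n + 2)), F.map (α k (n + 1)) X' = X) ↔
      ∃ Y : F.obj (T1Lift.B k (n + 1)), F.map (β k (n + 1)) Y = X ∧ F.map (ξ k n) Y = F.map (ε k n) X := by
  obtain ⟨D, p, p', hD⟩ := exists_isFibreProd (β k n) (α k n) (α_surjective n)
  let q : T1Lift.B k (n + 1) ⟶ D := fibLift hD (ξ k n) (β k (n + 1)) (w_ξ n)
  let g : T1Lift.A k (n + 1) ⟶ D := fibLift hD (ε k n) (𝟙 _) (by rw [Category.id_comp, w_ε])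
  have hq1 : q ≫ p = ξ k n := fibLift_fst hD _ _ _
  have hq2 : q ≫ p' = β k (n + 1) := fibLift_snd hD _ _ _
  have hg1 : g ≫ p = ε k n := fibLift_fst hD _ _ _
  have hg2 : g ≫ p' = 𝟙 _ := fibLift_snd hD _ _ _
  have hq : IsSemismallExt q := by
    refine ⟨fun d => ?_, eq_bot_iff.2 (Ideal.mul_le.2 fun a ha x hx => ?_)⟩
    · obtain ⟨s, hs⟩ := α_surjective n ((p d : DualNumber (Tr k n)).snd)
      let y : DualNumber (Tr k (n + 1)) := TrivSqZeroExt.inl (p' d) + TrivSqZeroExt.inr s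
      refine ⟨y, hD.inj _ _ ?_ ?_⟩
      · show (q ≫ p) y = _
        rw [hq1]
        refine TrivSqZeroExt.ext ?_ ?_
        · exact (congrArg (αAlg k n) (fst_inl_add_inr (p' d : Tr k (n + 1)) s)).trans (hD.w_apply d).symm
        · exact (congrArg (αAlg k n) (snd_inl_add_inr (p' d : Tr k (n + 1)) s)).trans hs
      · show (q ≫ p') y = _
        rw [hq2]
        exact fst_inl_add_inr (p' d : Tr k (n + 1)) s
    · have h1 : ξ k n x = 0 := by rw [← hq1]; show p (q x) = 0; rw [show q x = 0 from hx]; exact map_zero p.toAlgHom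
      have h2 : β k (n + 1) x = 0 := by rw [← hq2]; show p' (q x) = 0; rw [show q x = 0 from hx]; exact map_zero p'.toAlgHom
      have hfst : (x : DualNumber (Tr k (n + 1))).fst = 0 := h2
      have hsnd : αAlg k n (x : DualNumber (Tr k (n + 1))).snd = 0 := congrArg TrivSqZeroExt.snd h1
      have ha' : resA k (n + 1) (a : DualNumber (Tr k (n + 1))).fst = 0 := (mem_maximalIdeal_iff _ a).1 ha
      exact dual_mul_eq_zero _ _ ha' hfst hsnd
  have hw : α k (n + 1) ≫ g = ε k (n + 1) ≫ q := by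
    refine fib_hom_ext hD ?_ ?_
    · rw [Category.assoc, hg1, Category.assoc, hq1, w_εξ]
    · rw [Category.assoc, hg2, Category.assoc, hq2, Category.comp_id, w_ε]
  let ℓ : ↥(RingHom.ker (α k (n + 1)).toAlgHom) →ₗ[k] ↥(RingHom.ker q.toAlgHom) :=
    { toFun := fun j => ⟨ε k (n + 1) (j : T1Lift.A k (n + 2)), by
        have := congrArg (fun f : T1Lift.A k (n + 2) ⟶ D => f (j : T1Lift.A k (n + 2))) hw
        refine RingHom.mem_ker.2 (this.symm.trans ?_)
        show g (α k (n + 1) (j : T1Lift.A k (n + 2))) = 0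
        rw [show α k (n + 1) (j : T1Lift.A k (n + 2)) = 0 from j.2]
        exact map_zero g.toAlgHom⟩
      map_add' := fun a b => Subtype.ext (map_add (ε k (n + 1)).toAlgHom _ _)
      map_smul' := fun c a => Subtype.ext (map_smul (ε k (n + 1)).toAlgHom c _) }
  have hℓ : Function.Injective ℓ := by
    rw [injective_iff_map_eq_zero]
    intro j hj
    exact Subtype.ext (eq_zero_of_ε (RingHom.mem_ker.1 j.2) (congrArg Subtype.val hj))
  have hobs := hnat (α k (n + 1)) (isSemismallExt_α (n + 1)) q hq (ε k (n + 1)) g hw ℓ (fun _ => rfl) X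
  rw [← O.obs_eq_zero_iff _ (isSemismallExt_α (n + 1)) X]
  have : O.obs (α k (n + 1)) (isSemismallExt_α (n + 1)) X = 0 ↔ O.obs q hq (F.map g X) = 0 := by
    rw [hobs]
    exact ⟨fun h => by rw [h, map_zero], fun h =>
      Module.Flat.lTensor_preserves_injective_linearMap (M := V) ℓ hℓ (h.trans (map_zero _).symm)⟩
  rw [this, O.obs_eq_zero_iff]
  have hmap : ∀ {C₁ C₂ C₃ : Art k k} (u : C₁ ⟶ C₂) (w : C₂ ⟶ C₃) (z : F.obj C₁),
      F.map (u ≫ w) z = F.map w (F.map u z) := fun u w z => by rw [F.map_comp]; rfl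
  constructor
  · rintro ⟨Y, hY⟩
    refine ⟨Y, ?_, ?_⟩
    · rw [← hq2, hmap, hY, ← hmap, hg2, F.map_id]; rfl
    · rw [← hq1, hmap, hY, ← hmap, hg1]
  · rintro ⟨Y, h1, h2⟩
    refine ⟨Y, (hRS p p' (β k n) (α k n) hD (α_surjective n)).1 (Subtype.ext (Prod.ext ?_ ?_))⟩
    · show F.map p (F.map q Y) = F.map p (F.map g X)
      rw [← hmap, ← hmap, hq1, hg1, h2]
    · show F.map p' (F.map q Y) = F.map p' (F.map g X)
      rw [← hmap, ← hmap, hq2, hg2, h1, F.map_id]; rfl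

end Groth.Agent.ArtFunLib.T1Lifting
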