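import Groth.Agent.ArtFunLib.Essential
import Groth.Agent.ArtFunLib.Formal
import Groth.Agent.ArtFunLib.Hull.Ring
import Groth.Prelude.Def_ArtFun5
import Mathlib.Algebra.Module.SpanRankOperations

/-!
# Limits of towers of surjections with bounded cotangent dimension
-/

set_option autoImplicit false

universe u v

open CategoryTheory ArtFun IsLocalRing

namespace Groth.Agent.ArtFunLib.Tower

variable {Λ : Type u} {k : Type u} [CommRing Λ] [Field k] [Algebra Λ k]

/-- The dimension of the space of derivations to the residue field is bounded by generators. -/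
theorem finrank_derivation_le [Module.Finite Λ k] (S : Art Λ k) (d : ℕ)
    (hd : Module.finrank (ResidueField S) (CotangentSpace S) ≤ d) :
    letI : Algebra S k := S.res.toRingHom.toAlgebra
    Module.finrank k (Derivation Λ S k) ≤ d + (⊤ : Submodule Λ k).spanFinrank := by
  classical
  letI : Algebra S k := S.res.toRingHom.toAlgebra
  haveI : IsScalarTower Λ S k := .of_algebraMap_eq fun l => (S.res.commutes l).symm
  have hfg : (maximalIdeal S : Ideal S).FG := IsNoetherian.noetherian _
  have hfgk : (⊤ : Submodule Λ k).FG := Module.Finite.fg_top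
  let sa := Submodule.generators (maximalIdeal S : Ideal S)
  let sb := Submodule.generators (⊤ : Submodule Λ k)
  haveI : Fintype sa := (Submodule.FG.finite_generators hfg).fintype
  haveI : Fintype sb := (Submodule.FG.finite_generators hfgk).fintype
  choose l hl using S.res_surjective
  let F : Derivation Λ S k →ₗ[k] ((↥sa ⊕ ↥sb) → k) :=
    { toFun := fun D => Sum.elim (fun x => D x.1) (fun y => D (l y.1))
      map_add' := fun D E => by ext x; rcases x with x | x <;> rfl
      map_smul' := fun c D => by ext x; rcases x with x | x <;> rfl }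
  have hinj : Function.Injective F := (injective_iff_map_eq_zero F).2 fun D hD => by
    have hka : ∀ x ∈ maximalIdeal S, D x = 0 := by
      intro x hx
      rw [← Submodule.span_generators (maximalIdeal S : Ideal S)] at hx
      induction hx using Submodule.span_induction with
      | mem y hy => exact congrFun hD (Sum.inl ⟨y, hy⟩)
      | zero => exact D.map_zero
      | add y z _ _ hy hz => rw [map_add, hy, hz, add_zero]
      | smul s y hy' hy =>
        have hy0 : algebraMap S k y = 0 := (Art.mem_maximalIdeal_iff S y).1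
          (Submodule.span_generators (maximalIdeal S : Ideal S) ▸ hy')
        rw [smul_eq_mul, Derivation.leibniz, hy, Algebra.smul_def y, hy0, zero_mul, add_zero, smul_zero]
    ext s
    have hy : ∀ y ∈ Submodule.span Λ sb, ∀ x : S, S.res x = y → D x = 0 := by
      intro y hy
      induction hy using Submodule.span_induction with
      | mem y hy =>
        intro x hx
        have h1 : D (x - l y) = 0 := hka _ (by rw [Art.mem_maximalIdeal_iff, map_sub, hx, hl, sub_self])
        rwa [map_sub, show D (l y) = 0 from congrFun hD (Sum.inr ⟨y, hy⟩), sub_zero] at h1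
      | zero => exact fun x hx => hka x ((Art.mem_maximalIdeal_iff S x).2 hx)
      | add y z _ _ hy hz =>
        intro x hx
        rw [← sub_add_cancel x (l z), map_add, hy (x - l z) (by rw [map_sub, hx, hl]; ring), hz (l z) (hl z), add_zero]
      | smul c y _ hy =>
        intro x hx
        have h1 : D (x - c • l y) = 0 := hka _ (by
          rw [Art.mem_maximalIdeal_iff, map_sub, hx, map_smul, hl, sub_self])
        rwa [map_sub, Derivation.map_smul, hy (l y) (hl y), smul_zero, sub_zero] at h1
    exact hy _ ((Submodule.span_generators (⊤ : Submodule Λ k)).symm ▸ trivial) s rfl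
  refine (LinearMap.finrank_le_finrank_of_injective hinj).trans ?_
  rw [Module.finrank_fintype_fun_eq_card, Fintype.card_sum, ← Nat.card_eq_fintype_card, ← Nat.card_eq_fintype_card]
  refine Nat.add_le_add ?_ (le_of_eq ?_)
  · rw [show Nat.card sa = sa.ncard from Nat.card_coe_set_eq sa, Submodule.FG.generators_ncard hfg,
      IsLocalRing.spanFinrank_maximalIdeal_eq_finrank_cotangentSpace]
    exact hd
  · rw [show Nat.card sb = sb.ncard from Nat.card_coe_set_eq sb, Submodule.FG.generators_ncard hfgk]

/-- A compatible sequence through a given element. -/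
theorem exists_seq (A : ℕ → Art Λ k) (f : ∀ n, A (n + 1) ⟶ A n) (hf : ∀ n, Function.Surjective (f n))
    (N : ℕ) (x : A N) : ∃ a : ∀ n, A n, a N = x ∧ ∀ n, f n (a (n + 1)) = a n := by
  induction N generalizing A with
  | zero =>
    choose up hup using hf
    exact ⟨fun n => Nat.rec (motive := fun n => A n) x (fun m y => up m y) n, rfl, fun n => hup n _⟩
  | succ N ih =>
    obtain ⟨a, ha, haf⟩ := ih (fun n => A (n + 1)) (fun n => f (n + 1)) (fun n => hf (n + 1)) x
    refine ⟨fun n => Nat.casesOn (motive := fun n => A n) n (f 0 (a 0)) a, ha, fun n => ?_⟩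
    cases n with
    | zero => rfl
    | succ n => exact haf n

variable [IsNoetherianRing Λ] [Module.Finite Λ k]

theorem exists_limit (A : ℕ → Art Λ k) (f : ∀ n, A (n + 1) ⟶ A n) (hf : ∀ n, Function.Surjective (f n))
    (d : ℕ) (hd : ∀ n, Module.finrank (ResidueField (A n)) (CotangentSpace (A n)) ≤ d) :
    ∃ (S : CRing Λ k) (π : ∀ n, HomSet S.carrier S.res (A n)),
      (∀ n, HomSet.map (f n) (π (n + 1)) = π n) ∧
      (∀ n, Function.Surjective (π n).1) ∧
      (∀ a : ∀ n, A n, (∀ n, f n (a (n + 1)) = a n) → ∃! s : S.carrier, ∀ n, (π n).1 s = a n) ∧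
      (∀ n, ∃ N, RingHom.ker (π N).1 ≤ maximalIdeal S.carrier ^ n) ∧
      (∀ n, ∃ N, maximalIdeal S.carrier ^ N ≤ RingHom.ker (π n).1) := by
  classical
  letI alg : ∀ n, Algebra (A n) k := fun n => (A n).res.toRingHom.toAlgebra
  haveI : ∀ n, IsScalarTower Λ (A n) k := fun n => .of_algebraMap_eq fun l => ((A n).res.commutes l).symm
  haveI : ∀ n, Module.Finite k (Derivation Λ (A n) k) := fun n => finite_derivation (A n) (A n).res_surjective
  let φ : ∀ n, Derivation Λ (A n) k →ₗ[k] Derivation Λ (A (n + 1)) k := fun n =>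
    { toFun := fun E => Derivation.mk' (E.toLinearMap.comp (f n).toAlgHom.toLinearMap) fun x y => by
        show E ((f n).toAlgHom (x * y)) = x • E (f n y) + y • E (f n x)
        rw [map_mul, E.leibniz]
        show (A n).res (f n x) * E (f n y) + (A n).res (f n y) * E (f n x) =
          (A (n + 1)).res x * E (f n y) + (A (n + 1)).res y * E (f n x)
        rw [Art.res_app, Art.res_app]
      map_add' := fun _ _ => rfl
      map_smul' := fun _ _ => rfl }
  have hφ : ∀ n, Function.Injective (φ n) := fun n E₁ E₂ h => by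
    ext a
    obtain ⟨b, rfl⟩ := hf n a
    exact congr($h b)
  let dim : ℕ → ℕ := fun n => Module.finrank k (Derivation Λ (A n) k)
  have hmono : Monotone dim := monotone_nat_of_le_succ fun n => LinearMap.finrank_le_finrank_of_injective (hφ n)
  obtain ⟨N, hN⟩ : ∃ N, ∀ n, N ≤ n → dim n = dim N := by
    have hbdd : BddAbove (Set.range dim) := ⟨d + (⊤ : Submodule Λ k).spanFinrank, by
      rintro _ ⟨n, rfl⟩; exact finrank_derivation_le (A n) d (hd n)⟩
    obtain ⟨N, hN⟩ := Nat.sSup_mem (Set.range_nonempty dim) hbdd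
    exact ⟨N, fun n h => le_antisymm ((le_csSup hbdd ⟨n, rfl⟩).trans hN.ge) (hmono h)⟩
  have hess : ∀ n, N ≤ n → ∀ (C : Art Λ k) (g : C ⟶ A (n + 1)), Function.Surjective (g ≫ f n) → Function.Surjective g :=
    fun n hn => ((isEssential_iff_derivation (f n)).2 ⟨hf n, fun D => by
      obtain ⟨E, hE⟩ := (LinearMap.injective_iff_surjective_of_finrank_eq_finrank
        (show dim n = dim (n + 1) from (hN n hn).trans (hN (n + 1) (by omega)).symm)).1 (hφ n) D
      exact ⟨E, fun b => congr($hE b)⟩⟩).2
  obtain ⟨T, hT⟩ : ∃ T : Finset (A N), Submodule.span Λ (T : Set (A N)) = ⊤ :=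
    (isNoetherian_base (A N)).noetherian ⊤
  choose w hwN hwf using fun t : ↥T => exists_seq A f hf N t.1
  let g : ∀ n, MvPolynomial ↥T Λ →ₐ[Λ] A n := fun n => MvPolynomial.aeval fun t => w t n
  have hgf : ∀ n, (f n).toAlgHom.comp (g (n + 1)) = g n := fun n =>
    MvPolynomial.algHom_ext fun t => by simp [g, hwf]
  have hgN : Function.Surjective (g N) := fun a => by
    have ha : a ∈ LinearMap.range (g N).toLinearMap := by
      refine (Submodule.span_le.2 fun y hy => ?_) (hT.ge (Submodule.mem_top (x := a)))
      exact ⟨MvPolynomial.X ⟨y, hy⟩, by simp [g, hwN]⟩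
    exact ha
  let res : MvPolynomial ↥T Λ →ₐ[Λ] k := (A N).res.comp (g N)
  have hres : Function.Surjective res := (A N).res_surjective.comp hgN
  have hresn : ∀ n, (A n).res.comp (g n) = res := by
    have h0 : ∀ n, (A n).res.comp (g n) = (A 0).res.comp (g 0) := fun n => by
      induction n with
      | zero => rfl
      | succ n ih => rw [← ih, ← hgf n, ← AlgHom.comp_assoc, (f n).res_comp]
    exact fun n => (h0 n).trans (h0 N).symm
  have hnear : ∀ n, Hull.IsNear res (RingHom.ker (g n)) := fun n => Hull.isNear_ker res (g n) (hresn n)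
  have hsurj : ∀ n, Function.Surjective (g n) := by
    have hge : ∀ n, N ≤ n → Function.Surjective (g n) := fun n hn => by
      induction n, hn using Nat.le_induction with
      | base => exact hgN
      | succ n hn ih =>
        let q : Hull.qobj res hres _ (hnear (n + 1)) ⟶ A (n + 1) :=
          Hull.qlift res hres (hnear (n + 1)) (g (n + 1)) (hresn (n + 1)) le_rfl
        have hq : Function.Surjective (q ≫ f n) := fun a => (ih a).elim fun P hP =>
          ⟨Hull.qmk res hres _ (hnear (n + 1)) P, (congr($(hgf n) P)).trans hP⟩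
        intro b
        obtain ⟨z, hz⟩ := hess n hn _ q hq b
        obtain ⟨P, rfl⟩ := Hull.qmk_surjective res hres _ (hnear (n + 1)) z
        exact ⟨P, hz⟩
    intro n
    suffices ∀ j n, n + j = N → Function.Surjective (g n) by
      rcases le_total N n with h | h
      · exact hge n h
      · exact this (N - n) n (by omega)
    intro j
    induction j with
    | zero => intro n e; exact hge n (le_of_eq (by omega))
    | succ j ih =>
      intro n e
      rw [← hgf n]
      exact (hf n).comp (ih (n + 1) (by omega))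
  let e : ∀ n, Hull.qobj res hres _ (hnear n) ⟶ A n := fun n => Hull.qlift res hres (hnear n) (g n) (hresn n) le_rfl
  have hanti : ∀ {p q}, p ≤ q → RingHom.ker (g q) ≤ RingHom.ker (g p) := fun {p q} h => by
    induction q, h using Nat.le_induction with
    | base => exact le_rfl
    | succ q h ih => exact fun x hx => ih (RingHom.mem_ker.2 ((congr($(hgf q) x)).symm.trans
        ((congrArg (f q).toAlgHom (RingHom.mem_ker.1 hx)).trans (map_zero _))))
  obtain ⟨S, π₀, hπres, hπt, hπs, hπfac⟩ := Hull.exists_ring res hres (fun n => RingHom.ker (g n)) hnear hanti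
  let π : ∀ n, HomSet S.carrier S.res (A n) := fun n => ⟨(e n).toAlgHom.comp (π₀ n), by
    rw [← AlgHom.comp_assoc, (e n).res_comp]; exact hπres n⟩
  have hπf : ∀ n, HomSet.map (f n) (π (n + 1)) = π n := fun n => Subtype.ext (AlgHom.ext fun x => by
    obtain ⟨P, hP⟩ := Hull.qmk_surjective res hres _ (hnear (n + 1)) (π₀ (n + 1) x)
    show f n (e (n + 1) (π₀ (n + 1) x)) = e n (π₀ n x)
    rw [← congr($(hπt n (n + 1) (Nat.le_succ n)) x)]
    show f n (e (n + 1) (π₀ (n + 1) x)) =
      e n (Hull.qTrans res hres (hnear (n + 1)) (hnear n) (hanti (Nat.le_succ n)) (π₀ (n + 1) x))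
    rw [← hP]
    exact congr($(hgf n) P))
  have hker : ∀ n, RingHom.ker (π n).1 = RingHom.ker (π₀ n) := fun n => by
    ext x
    obtain ⟨P, hP⟩ := Hull.qmk_surjective res hres _ (hnear n) (π₀ n x)
    rw [RingHom.mem_ker, RingHom.mem_ker]
    show e n (π₀ n x) = 0 ↔ π₀ n x = 0
    rw [← hP]
    exact (RingHom.mem_ker (f := g n)).symm.trans (Hull.qmk_eq_zero res hres (hnear n) P).symm
  have h4 : ∀ n, ∃ M, RingHom.ker (π M).1 ≤ maximalIdeal S.carrier ^ n := fun n => by
    obtain ⟨q, hq⟩ := hπfac (S.trunc n) (S.truncHom n)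
    refine ⟨q, fun x hx => Ideal.pow_le_pow_right (Nat.le_succ n) ?_⟩
    exact Ideal.Quotient.eq_zero_iff_mem.1 (RingHom.mem_ker.1 (hq (hker q ▸ hx)))
  have hπs' : ∀ n, Function.Surjective (π n).1 := fun n a => by
    obtain ⟨P, hP⟩ := hsurj n a
    obtain ⟨x, hx⟩ := hπs n (Hull.qmk res hres _ (hnear n) P)
    exact ⟨x, (congrArg (e n).toAlgHom hx).trans hP⟩
  have h5 : ∀ n, ∃ M, maximalIdeal S.carrier ^ M ≤ RingHom.ker (π n).1 := fun n => by
    obtain ⟨M, hM⟩ := exists_mpow_le_ker S (π n)
    exact ⟨M + 1, fun x hx => RingHom.mem_ker.2 (hM x hx)⟩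
  refine ⟨S, π, hπf, hπs', fun a ha => ?_, h4, h5⟩
  haveI := S.isAdicComplete
  have hcomp : ∀ (p q : ℕ), p ≤ q → ∀ x y : S.carrier, (π q).1 x = (π q).1 y → (π p).1 x = (π p).1 y := by
    intro p q h x y hxy
    rw [← sub_eq_zero, ← map_sub, ← RingHom.mem_ker, hker] at hxy ⊢
    rw [RingHom.mem_ker] at hxy ⊢
    rw [← congr($(hπt p q h) (x - y))]
    show Hull.qTrans res hres (hnear q) (hnear p) (hanti h) (π₀ q (x - y)) = 0
    rw [hxy]
    exact map_zero _
  choose lev hlev using h4
  choose s hs using fun n => hπs' n (a n)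
  have hs' : ∀ p q, p ≤ q → (π p).1 (s q) = a p := fun p q h => by
    induction q, h using Nat.le_induction with
    | base => exact hs p
    | succ q h ih =>
      rw [← ih]
      refine hcomp p q h _ _ ((?_ : (π q).1 (s (q + 1)) = a q).trans (hs q).symm)
      rw [← hπf q]
      show f q ((π (q + 1)).1 (s (q + 1))) = a q
      rw [hs, ha]
  let lev' : ℕ → ℕ := fun n => (Finset.range (n + 1)).sup lev
  have hl : ∀ i j, i ≤ j → lev i ≤ lev' j := fun i j h => Finset.le_sup (f := lev) (Finset.mem_range.2 (by omega))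
  obtain ⟨L, hL⟩ := IsPrecomplete.prec' (I := maximalIdeal S.carrier) (fun n => s (lev' n)) fun {i j} hij => by
    rw [SModEq.sub_mem, Ideal.smul_eq_mul, Ideal.mul_top]
    refine hlev i ?_
    rw [RingHom.mem_ker, map_sub, hs' _ _ (hl i i le_rfl), hs' _ _ (hl i j hij), sub_self]
  refine ⟨L, fun p => ?_, fun L' hL' => ?_⟩
  · obtain ⟨M, hM⟩ := h5 p
    let j := max M p
    have h1 : (π p).1 (s (max (lev' j) p)) = a p := hs' _ _ (le_max_right _ _)
    have h2 : s (lev' j) - L ∈ maximalIdeal S.carrier ^ j := by
      have := hL j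
      rwa [SModEq.sub_mem, Ideal.smul_eq_mul, Ideal.mul_top] at this
    have h3 : s (max (lev' j) p) - s (lev' j) ∈ maximalIdeal S.carrier ^ j := by
      refine hlev j ?_
      rw [RingHom.mem_ker, map_sub, hs' _ _ ((hl j j le_rfl).trans (le_max_left _ _)), hs' _ _ (hl j j le_rfl), sub_self]
    have h4' : (π p).1 (s (max (lev' j) p) - L) = 0 := by
      refine hM (Ideal.pow_le_pow_right (le_max_left M p) ?_)
      rw [← sub_add_sub_cancel _ (s (lev' j)) L]
      exact add_mem h3 h2
    rw [map_sub, h1, sub_eq_zero] at h4'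
    exact h4'.symm
  · refine eq_of_sub_eq_zero (IsHausdorff.haus (I := maximalIdeal S.carrier) inferInstance _ fun n => ?_)
    rw [SModEq.sub_mem, sub_zero, Ideal.smul_eq_mul, Ideal.mul_top]
    refine hlev n ?_
    have hLa : ∀ p, (π p).1 L = a p := fun p => by
      obtain ⟨M, hM⟩ := h5 p
      let j := max M p
      have h2 : s (lev' j) - L ∈ maximalIdeal S.carrier ^ j := by
        have := hL j
        rwa [SModEq.sub_mem, Ideal.smul_eq_mul, Ideal.mul_top] at this
      have h3 : s (max (lev' j) p) - s (lev' j) ∈ maximalIdeal S.carrier ^ j := by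
        refine hlev j ?_
        rw [RingHom.mem_ker, map_sub, hs' _ _ ((hl j j le_rfl).trans (le_max_left _ _)), hs' _ _ (hl j j le_rfl), sub_self]
      have h4' : (π p).1 (s (max (lev' j) p) - L) = 0 := by
        refine hM (Ideal.pow_le_pow_right (le_max_left M p) ?_)
        rw [← sub_add_sub_cancel _ (s (lev' j)) L]
        exact add_mem h3 h2
      rw [map_sub, hs' _ _ (le_max_right _ _), sub_eq_zero] at h4'
      exact h4'.symm
    rw [RingHom.mem_ker, map_sub, hL', hLa, sub_self]

end Groth.Agent.ArtFunLib.Tower
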