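import Groth.Agent.ArtFunLib.SmoothHull
import Groth.Agent.ArtFunLib.Essential
import Groth.Agent.PSLib.Regular
import Groth.Agent.CohenLib.PowerSeries

/-!
# Versal extensions of coefficient rings are power series rings
-/

set_option autoImplicit false

universe u v

open CategoryTheory ArtFun IsLocalRing

namespace Groth.Agent.ArtFunLib.VersalPS

variable {Λ : Type u} {k : Type u} [CommRing Λ] [Field k] [Algebra Λ k]

/-- The constant coefficient, over `Λ`. -/
noncomputable def cc (R : CRing Λ k) (n : ℕ) : MvPowerSeries (Fin n) R.carrier →ₐ[Λ] R.carrier :=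
  { MvPowerSeries.constantCoeff with
    commutes' := fun l => by simp [MvPowerSeries.algebraMap_apply] }

/-- `R[[X₁, …, Xₙ]]` as a coefficient ring. -/
noncomputable def psRing (R : CRing Λ k) (n : ℕ) : CRing Λ k :=
  haveI := R.isAdicComplete
  { carrier := MvPowerSeries (Fin n) R.carrier
    res := R.res.comp (cc R n)
    res_surjective := fun c => (R.res_surjective c).elim fun r hr => ⟨MvPowerSeries.C r, by
      show R.res (MvPowerSeries.constantCoeff (MvPowerSeries.C r)) = c
      rw [MvPowerSeries.constantCoeff_C, hr]⟩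
    isAdicComplete := CohenLib.isAdicComplete_mvPowerSeries }

theorem X_mem (R : CRing Λ k) (n : ℕ) (i : Fin n) :
    (MvPowerSeries.X i : MvPowerSeries (Fin n) R.carrier) ∈ maximalIdeal (MvPowerSeries (Fin n) R.carrier) :=
  CohenLib.mem_maximalIdeal_mvPowerSeries_iff.2 (by rw [MvPowerSeries.constantCoeff_X]; exact zero_mem _)

/-- An element of the maximal ideal is a constant of the maximal ideal plus a combination of variables. -/
theorem exists_eq (R : CRing Λ k) (n : ℕ) (z : MvPowerSeries (Fin n) R.carrier)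
    (hz : z ∈ maximalIdeal (MvPowerSeries (Fin n) R.carrier)) :
    ∃ r ∈ maximalIdeal R.carrier, ∃ c : Fin n → MvPowerSeries (Fin n) R.carrier,
      z = algebraMap R.carrier _ r + ∑ i, c i * MvPowerSeries.X i := by
  have h : z - algebraMap R.carrier _ (MvPowerSeries.constantCoeff z) ∈ PSLib.vars n R.carrier :=
    PSLib.mem_vars_iff.2 (by simp [MvPowerSeries.algebraMap_apply])
  obtain ⟨c, hc⟩ := Ideal.mem_span_range_iff_exists_fun.1 h
  exact ⟨_, CohenLib.mem_maximalIdeal_mvPowerSeries_iff.1 hz, c, by rw [hc]; abel⟩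

theorem isVersal_of_powerSeries (R S : CRing Λ k) [Algebra R.carrier S.carrier] [IsScalarTower Λ R.carrier S.carrier]
    (hRS : S.res.comp (IsScalarTower.toAlgHom Λ R.carrier S.carrier) = R.res) {n : ℕ}
    (e : S.carrier ≃ₐ[R.carrier] MvPowerSeries (Fin n) R.carrier) :
    IsVersal ((Family.self R.carrier R.res).along (IsScalarTower.toAlgHom Λ R.carrier S.carrier) hRS) := by
  intro B A μ hμ φ y hy
  let y' : HomSet R.carrier R.res B := y
  have hy' : ∀ r, μ (y'.1 r) = φ.1 (algebraMap R.carrier S.carrier r) := fun r =>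
    congr($(congrArg Subtype.val hy) r)
  letI : Algebra R.carrier B := y'.1.toRingHom.toAlgebra
  letI : Algebra R.carrier A := (μ.toAlgHom.comp y'.1).toRingHom.toAlgebra
  haveI : IsScalarTower Λ R.carrier B := .of_algebraMap_eq fun l => (y'.1.commutes l).symm
  haveI := isAdicComplete_maximalIdeal B
  haveI := isAdicComplete_maximalIdeal A
  have hXS : ∀ i, S.res (e.symm (MvPowerSeries.X i)) = 0 := fun i => by
    rw [← CRing.mem_maximalIdeal_iff, IsLocalRing.mem_maximalIdeal, mem_nonunits_iff]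
    intro hu
    have := hu.map e
    rw [e.apply_symm_apply] at this
    exact (IsLocalRing.mem_maximalIdeal _).1 (X_mem R n i) this
  choose b hb using fun i => hμ (φ.1 (e.symm (MvPowerSeries.X i)))
  have hbm : ∀ i, b i ∈ maximalIdeal B := fun i => by
    rw [Art.mem_maximalIdeal_iff, ← Art.res_app μ, hb]
    exact (congr($(φ.2) _)).trans (hXS i)
  obtain ⟨ψ, hψ⟩ := PSLib.exists_algHom (R := R.carrier) (A := B) (maximalIdeal B) b hbm
  let ψS : S.carrier →ₐ[Λ] B := (ψ.comp e.toAlgHom).restrictScalars Λ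
  let μR : B →ₐ[R.carrier] A := { μ.toAlgHom.toRingHom with commutes' := fun r => rfl }
  let φR : MvPowerSeries (Fin n) R.carrier →ₐ[R.carrier] A :=
    { (φ.1.toRingHom.comp e.symm.toAlgHom.toRingHom) with
      commutes' := fun r => by
        show φ.1 (e.symm (algebraMap R.carrier _ r)) = μ (y'.1 r)
        rw [AlgEquiv.commutes, hy'] }
  have hμψ : μR.comp ψ = φR := PSLib.algHom_ext (I := maximalIdeal A) _ _
    (fun i => by
      show μ (ψ (MvPowerSeries.X i)) ∈ _
      rw [hψ, hb, Art.mem_maximalIdeal_iff]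
      exact (congr($(φ.2) _)).trans (hXS i))
    (fun i => by
      show μ (ψ (MvPowerSeries.X i)) = φ.1 (e.symm (MvPowerSeries.X i))
      rw [hψ, hb])
  have hcomp : ∀ s, μ (ψS s) = φ.1 s := fun s => by
    refine (congr($hμψ (e s))).trans ?_
    show φ.1 (e.symm (e s)) = φ.1 s
    rw [e.symm_apply_apply]
  refine ⟨⟨ψS, AlgHom.ext fun s => ?_⟩, Subtype.ext (AlgHom.ext hcomp), Subtype.ext (AlgHom.ext fun r => ?_)⟩
  · show B.res (ψS s) = S.res s
    rw [← Art.res_app μ, hcomp]
    exact congr($(φ.2) s)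
  · show ψ (e (algebraMap R.carrier S.carrier r)) = y'.1 r
    rw [AlgEquiv.commutes, AlgHom.commutes]
    rfl

theorem exists_powerSeries_of_isVersal (R S : CRing Λ k) [Algebra R.carrier S.carrier]
    [IsScalarTower Λ R.carrier S.carrier]
    (hRS : S.res.comp (IsScalarTower.toAlgHom Λ R.carrier S.carrier) = R.res)
    (hv : IsVersal ((Family.self R.carrier R.res).along (IsScalarTower.toAlgHom Λ R.carrier S.carrier) hRS)) :
    ∃ n : ℕ, Nonempty (S.carrier ≃ₐ[R.carrier] MvPowerSeries (Fin n) R.carrier) := by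
  classical
  haveI := R.isAdicComplete
  haveI := S.isAdicComplete
  let I : Ideal S.carrier :=
    (maximalIdeal R.carrier).map (algebraMap R.carrier S.carrier) ⊔ maximalIdeal S.carrier ^ 2
  -- minimal relative generators
  obtain ⟨s₀, hs₀⟩ := (IsNoetherian.noetherian (maximalIdeal S.carrier) : (maximalIdeal S.carrier).FG)
  have hex : ∃ m, ∃ t : Finset S.carrier, t.card = m ∧ (∀ x ∈ t, x ∈ maximalIdeal S.carrier) ∧
      maximalIdeal S.carrier ≤ Ideal.span (t : Set S.carrier) ⊔ I :=
    ⟨_, s₀, rfl, fun x hx => hs₀ ▸ Submodule.subset_span hx, hs₀.symm.le.trans le_sup_left⟩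
  obtain ⟨t, htc, htm, htI⟩ := Nat.find_spec hex
  let n := t.card
  let x : Fin n → S.carrier := fun i => (t.equivFin.symm i).1
  have hxm : ∀ i, x i ∈ maximalIdeal S.carrier := fun i => htm _ (t.equivFin.symm i).2
  have hxr : Ideal.span (t : Set S.carrier) ≤ Ideal.span (Set.range x) := Ideal.span_mono fun y hy =>
    ⟨t.equivFin ⟨y, hy⟩, by simp [x]⟩
  have hindep : ∀ c : Fin n → S.carrier, ∑ i, c i * x i ∈ I → ∀ i, c i ∈ maximalIdeal S.carrier := by
    intro c hc j
    by_contra hu
    obtain ⟨u, hu⟩ : IsUnit (c j) := by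
      by_contra h
      exact hu h
    have hj : x j ∈ Ideal.span ((t.erase (x j) : Finset S.carrier) : Set S.carrier) ⊔ I := by
      have h1 : (∑ i ∈ Finset.univ.erase j, c i * x i) ∈
          Ideal.span ((t.erase (x j) : Finset S.carrier) : Set S.carrier) := by
        refine Ideal.sum_mem _ fun i hi => Ideal.mul_mem_left _ _ (Ideal.subset_span ?_)
        refine Finset.mem_coe.2 (Finset.mem_erase.2 ⟨fun e => (Finset.mem_erase.1 hi).1 ?_, (t.equivFin.symm i).2⟩)
        exact t.equivFin.symm.injective (Subtype.ext e)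
      have h2 : c j * x j = ∑ i, c i * x i - ∑ i ∈ Finset.univ.erase j, c i * x i := by
        rw [← Finset.add_sum_erase _ _ (Finset.mem_univ j), add_sub_cancel_right]
      have h3 : c j * x j ∈ Ideal.span ((t.erase (x j) : Finset S.carrier) : Set S.carrier) ⊔ I := by
        rw [h2]
        exact sub_mem (Ideal.mem_sup_right hc) (Ideal.mem_sup_left h1)
      have := Ideal.mul_mem_left _ (↑u⁻¹ : S.carrier) h3
      rwa [← hu, ← mul_assoc, Units.inv_mul, one_mul] at this
    refine Nat.find_min hex (m := (t.erase (x j)).card) ?_ ⟨_, rfl, fun y hy => htm y (Finset.mem_of_mem_erase hy), ?_⟩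
    · exact lt_of_lt_of_eq (Finset.card_erase_lt_of_mem (t.equivFin.symm j).2) htc
    · refine htI.trans (sup_le (Ideal.span_le.2 fun y hy => ?_) le_sup_right)
      by_cases hy' : y = x j
      · exact hy' ▸ hj
      · exact Ideal.mem_sup_left (Ideal.subset_span (Finset.mem_coe.2 (Finset.mem_erase.2 ⟨hy', hy⟩)))
  let P := psRing R n
  obtain ⟨φ, hφ⟩ := PSLib.exists_algHom (R := R.carrier) (A := S.carrier) (maximalIdeal S.carrier) x hxm
  have hresR : ∀ r, S.res (algebraMap R.carrier S.carrier r) = R.res r := fun r => congr($hRS r)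
  have hmapm : ∀ r ∈ maximalIdeal R.carrier, algebraMap R.carrier S.carrier r ∈ maximalIdeal S.carrier :=
    fun r hr => by
      rw [CRing.mem_maximalIdeal_iff, hresR]
      exact (CRing.mem_maximalIdeal_iff R r).1 hr
  have hφm : ∀ z ∈ maximalIdeal (MvPowerSeries (Fin n) R.carrier), φ z ∈ maximalIdeal S.carrier := fun z hz => by
    obtain ⟨r, hr, c, rfl⟩ := exists_eq R n z hz
    rw [map_add, AlgHom.commutes, map_sum]
    exact add_mem (hmapm r hr) (Ideal.sum_mem _ fun i _ => by
      rw [map_mul, hφ]; exact Ideal.mul_mem_left _ _ (hxm i))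
  have hresφ : ∀ z, S.res (φ z) = P.res z := fun z => by
    have h : z - algebraMap R.carrier _ (MvPowerSeries.constantCoeff z) ∈
        maximalIdeal (MvPowerSeries (Fin n) R.carrier) :=
      CohenLib.mem_maximalIdeal_mvPowerSeries_iff.2 (by simp [MvPowerSeries.algebraMap_apply])
    have := (CRing.mem_maximalIdeal_iff S _).1 (hφm _ h)
    rw [map_sub, map_sub, AlgHom.commutes, hresR, sub_eq_zero] at this
    exact this
  -- surjectivity
  have hmap : (maximalIdeal (MvPowerSeries (Fin n) R.carrier)).map φ.toRingHom = maximalIdeal S.carrier := by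
    refine le_antisymm (Ideal.map_le_iff_le_comap.2 hφm) (Submodule.le_of_le_smul_of_le_jacobson_bot
      (IsNoetherian.noetherian _) (maximalIdeal_le_jacobson ⊥) (htI.trans ?_))
    refine sup_le ((hxr.trans (Ideal.span_le.2 ?_)).trans le_sup_left) (sup_le ((Ideal.map_le_iff_le_comap.2 fun r hr => ?_)) ?_)
    · rintro _ ⟨i, rfl⟩
      exact hφ i ▸ Ideal.mem_map_of_mem φ.toRingHom (X_mem R n i)
    · rw [Ideal.mem_comap]
      refine Submodule.mem_sup_left ?_
      rw [← AlgHom.commutes φ r]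
      refine Ideal.mem_map_of_mem φ.toRingHom (CohenLib.mem_maximalIdeal_mvPowerSeries_iff.2 ?_)
      simpa [MvPowerSeries.algebraMap_apply] using hr
    · rw [smul_eq_mul, ← sq]
      exact le_sup_right
  haveI := P.isAdicComplete
  haveI : IsAdicComplete (maximalIdeal (MvPowerSeries (Fin n) R.carrier)) (MvPowerSeries (Fin n) R.carrier) :=
    P.isAdicComplete
  haveI : IsHausdorff ((maximalIdeal (MvPowerSeries (Fin n) R.carrier)).map φ.toRingHom) S.carrier :=
    hmap.symm ▸ (inferInstance : IsHausdorff (maximalIdeal S.carrier) S.carrier)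
  have hsurj : Function.Surjective φ :=
    surjective_of_mk_map_comp_surjective (I := maximalIdeal (MvPowerSeries (Fin n) R.carrier))
      (f := φ.toRingHom) fun z => by
      obtain ⟨b, rfl⟩ := Ideal.Quotient.mk_surjective z
      obtain ⟨a, ha⟩ := R.res_surjective (S.res b)
      refine ⟨algebraMap R.carrier _ a, Ideal.Quotient.eq.2 ?_⟩
      rw [hmap, show φ.toRingHom (algebraMap R.carrier _ a) = algebraMap R.carrier S.carrier a from φ.commutes a,
        CRing.mem_maximalIdeal_iff, map_sub, hresR, ha, sub_self]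
  -- a section
  let φΛ : P.carrier →ₐ[Λ] S.carrier := φ.restrictScalars Λ
  let aP : R.carrier →ₐ[Λ] P.carrier := IsScalarTower.toAlgHom Λ R.carrier (MvPowerSeries (Fin n) R.carrier)
  have haP : P.res.comp aP = R.res := AlgHom.ext fun r => by
    show R.res (MvPowerSeries.constantCoeff (algebraMap R.carrier (MvPowerSeries (Fin n) R.carrier) r)) = R.res r
    simp [MvPowerSeries.algebraMap_apply]
  let y : ∀ m, HomSet R.carrier R.res (Hull.lvl P m) := fun m =>
    ⟨(Hull.lvlHom P m).1.comp aP, by rw [← AlgHom.comp_assoc, (Hull.lvlHom P m).2, haP]⟩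
  have hle : RingHom.ker P.res ^ (1 + 1) ≤ RingHom.ker ((Hull.lvlHom S 1).1.comp φΛ) := fun z hz => by
    rw [RingHom.mem_ker, AlgHom.comp_apply]
    refine (Hull.qmk_eq_zero S.res S.res_surjective _ _).2 ?_
    exact EGA41Lib.mem_pow_of_forall_mem φΛ (fun w hw => RingHom.mem_ker.2
      ((hresφ w).trans (RingHom.mem_ker.1 hw))) _ z hz
  let μ : Hull.lvl P 1 ⟶ Hull.lvl S 1 := Hull.qlift P.res P.res_surjective _
    ((Hull.lvlHom S 1).1.comp φΛ) (AlgHom.ext fun z => hresφ z) hle
  have hμ : Function.Surjective μ := fun z => by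
    obtain ⟨b, hb⟩ := Hull.qmk_surjective S.res S.res_surjective _ _ z
    obtain ⟨a, rfl⟩ := hsurj b
    exact ⟨Hull.qmk P.res P.res_surjective _ _ a, hb⟩
  let T : ℕ → Type u := fun m => {ψ : HomSet S.carrier S.res (Hull.lvl P (m + 1)) //
    ∀ r, ψ.1 (algebraMap R.carrier S.carrier r) = (y (m + 1)).1 r}
  obtain ⟨ψ₁, hψ₁, hψ₁'⟩ := hv μ hμ (Hull.lvlHom S 1) (y 1) (Subtype.ext (AlgHom.ext fun r => by
    show Hull.qmk S.res S.res_surjective _ _ (φ (algebraMap R.carrier _ r)) =
      Hull.qmk S.res S.res_surjective _ _ (algebraMap R.carrier S.carrier r)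
    rw [AlgHom.commutes]))
  have hstep : ∀ m (ψ : T m), ∃ ψ' : T (m + 1),
      HomSet.map (Hull.lvlTrans P (Nat.le_succ (m + 1))) ψ'.1 = ψ.1 := fun m ψ => by
    obtain ⟨ψ', h₁, h₂⟩ := hv (Hull.lvlTrans P (Nat.le_succ (m + 1))) (Hull.qTrans_surjective _ _ _ _ _) ψ.1
      (y (m + 2)) (Subtype.ext (AlgHom.ext fun r => (ψ.2 r).symm))
    exact ⟨⟨ψ', fun r => congr($(congrArg Subtype.val h₂) r)⟩, h₁⟩
  choose next hnext using hstep
  let seq : ∀ m, T m := fun m => Nat.rec ⟨ψ₁, fun r => congr($(congrArg Subtype.val hψ₁') r)⟩ next m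
  let φs : ∀ m, HomSet S.carrier S.res (Hull.lvl P m) := fun m =>
    HomSet.map (Hull.lvlTrans P (Nat.le_succ m)) (seq m).1
  have hcomp : ∀ a b c (h : a ≤ b) (h' : b ≤ c) (ψ : HomSet S.carrier S.res (Hull.lvl P c)),
      HomSet.map (Hull.lvlTrans P h) (HomSet.map (Hull.lvlTrans P h') ψ) = HomSet.map (Hull.lvlTrans P (h.trans h')) ψ :=
    fun a b c h h' ψ => Subtype.ext (AlgHom.ext fun z =>
      congr($(Hull.qTrans_comp P.res P.res_surjective (Hull.isNear_ker_pow P c) (Hull.isNear_ker_pow P b) (Hull.isNear_ker_pow P a)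
        (Ideal.pow_le_pow_right (Nat.succ_le_succ h')) (Ideal.pow_le_pow_right (Nat.succ_le_succ h))) (ψ.1 z)))
  have hφt : ∀ p m (h : p ≤ m), HomSet.map (Hull.lvlTrans P h) (φs m) = φs p := by
    intro p m h
    induction m, h using Nat.le_induction with
    | base => exact hcomp p p (p + 1) le_rfl (Nat.le_succ p) (seq p).1
    | succ m h ih =>
      rw [← ih]
      refine (hcomp p (m + 1) (m + 2) _ _ (seq (m + 1)).1).trans ?_
      show _ = HomSet.map (Hull.lvlTrans P h) (HomSet.map (Hull.lvlTrans P (Nat.le_succ m)) (seq m).1)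
      rw [show (seq m).1 = HomSet.map (Hull.lvlTrans P (Nat.le_succ (m + 1))) (seq (m + 1)).1 from
        (hnext m (seq m)).symm, hcomp, hcomp]
  obtain ⟨g, hg, -, hgφ⟩ := Hull.exists_along_of_compatible (F := hR R.carrier R.res)
    (ξ := (Family.self R.carrier R.res).along (IsScalarTower.toAlgHom Λ R.carrier S.carrier) hRS)
    P ((Family.self R.carrier R.res).along aP haP) φs (fun m => Subtype.ext (AlgHom.ext fun r => by
      show Hull.lvlTrans P (Nat.le_succ m) ((seq m).1.1 (algebraMap R.carrier S.carrier r)) = _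
      rw [(seq m).2 r]
      rfl)) hφt
  have hga : ∀ r, g (algebraMap R.carrier S.carrier r) = aP r := fun r => by
    refine eq_of_sub_eq_zero (IsHausdorff.haus (I := maximalIdeal P.carrier) inferInstance _ fun m => ?_)
    rw [SModEq.sub_mem, sub_zero, Ideal.smul_eq_mul, Ideal.mul_top, ← Hull.ker_res_eq]
    refine Ideal.pow_le_pow_right (Nat.le_succ m)
      ((Hull.qmk_eq_zero P.res P.res_surjective (Hull.isNear_ker_pow P m) _).1 ?_)
    rw [map_sub, hgφ, sub_eq_zero]
    show Hull.lvlTrans P (Nat.le_succ m) ((seq m).1.1 (algebraMap R.carrier S.carrier r)) = _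
    rw [(seq m).2 r]
    rfl
  let gR : S.carrier →ₐ[R.carrier] MvPowerSeries (Fin n) R.carrier := { g.toRingHom with commutes' := hga }
  have he₁ : ∀ b, φ (gR b) - b ∈ maximalIdeal S.carrier ^ 2 := fun b => by
    have h1 : Hull.qmk P.res P.res_surjective _ (Hull.isNear_ker_pow P 1) (g b) = ψ₁.1 b := by
      rw [hgφ 1 b]
      show (HomSet.map (Hull.lvlTrans P (Nat.le_succ 1)) (seq 1).1).1 b = ψ₁.1 b
      rw [show HomSet.map (Hull.lvlTrans P (Nat.le_succ 1)) (seq 1).1 = (seq 0).1 from hnext 0 (seq 0)]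
      rfl
    have h2 : Hull.qmk S.res S.res_surjective _ (Hull.isNear_ker_pow S 1) (φ (g b)) =
        Hull.qmk S.res S.res_surjective _ (Hull.isNear_ker_pow S 1) b :=
      (congrArg μ.toAlgHom h1).trans (congr($(congrArg Subtype.val hψ₁) b))
    rw [← Hull.ker_res_eq]
    refine (Hull.qmk_eq_zero S.res S.res_surjective (Hull.isNear_ker_pow S 1) _).1 ?_
    rw [map_sub]
    exact sub_eq_zero.2 h2
  have hb₁ := SmoothHull.bijective_of_congr_sq S (φΛ.comp g) he₁
  -- injectivity
  let e₂ : MvPowerSeries (Fin n) R.carrier →ₐ[R.carrier] MvPowerSeries (Fin n) R.carrier := gR.comp φ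
  let mP := maximalIdeal (MvPowerSeries (Fin n) R.carrier)
  have he₂m : ∀ z ∈ mP, e₂ z ∈ mP := fun z hz => by
    refine (CRing.mem_maximalIdeal_iff P _).2 ?_
    exact (congr($hg (φ z))).trans ((hresφ z).trans ((CRing.mem_maximalIdeal_iff P z).1 hz))
  have hJ : ∀ i, e₂ (MvPowerSeries.X i) - MvPowerSeries.X i ∈
      (maximalIdeal R.carrier).map (algebraMap R.carrier (MvPowerSeries (Fin n) R.carrier)) ⊔ mP ^ 2 := fun i => by
    have hzm : e₂ (MvPowerSeries.X i) - MvPowerSeries.X i ∈ mP :=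
      sub_mem (he₂m _ (X_mem R n i)) (X_mem R n i)
    obtain ⟨r, hr, c, hc⟩ := exists_eq R n _ hzm
    have h1 : φ (e₂ (MvPowerSeries.X i) - MvPowerSeries.X i) ∈ I := by
      rw [map_sub]
      exact Ideal.mem_sup_right (he₁ _)
    rw [hc, map_add, AlgHom.commutes, map_sum] at h1
    simp only [map_mul, hφ] at h1
    have h2 : ∀ j, φ (c j) ∈ maximalIdeal S.carrier := hindep (fun j => φ (c j)) (by
      have := sub_mem h1 (Ideal.mem_sup_left (Ideal.mem_map_of_mem (algebraMap R.carrier S.carrier) hr))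
      rwa [add_sub_cancel_left] at this)
    rw [hc]
    refine add_mem (Ideal.mem_sup_left (Ideal.mem_map_of_mem _ hr)) (Ideal.sum_mem _ fun j _ => Ideal.mem_sup_right ?_)
    rw [sq]
    exact Ideal.mul_mem_mul (fun hu => h2 j (hu.map φ)) (X_mem R n j)
  have hmap₂ : mP.map e₂.toRingHom = mP := by
    refine le_antisymm (Ideal.map_le_iff_le_comap.2 he₂m) (Submodule.le_of_le_smul_of_le_jacobson_bot
      (IsNoetherian.noetherian _) (maximalIdeal_le_jacobson ⊥) fun z hz => ?_)
    have hR' : ∀ r ∈ maximalIdeal R.carrier,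
        algebraMap R.carrier (MvPowerSeries (Fin n) R.carrier) r ∈ mP.map e₂.toRingHom := fun r hr => by
      rw [← AlgHom.commutes e₂ r]
      refine Ideal.mem_map_of_mem e₂.toRingHom (CohenLib.mem_maximalIdeal_mvPowerSeries_iff.2 ?_)
      simpa [MvPowerSeries.algebraMap_apply] using hr
    have hle₂ : (maximalIdeal R.carrier).map (algebraMap R.carrier (MvPowerSeries (Fin n) R.carrier)) ⊔ mP ^ 2 ≤
        mP.map e₂.toRingHom ⊔ mP • mP := by
      rw [smul_eq_mul, ← sq]
      exact sup_le_sup_right (Ideal.map_le_iff_le_comap.2 hR') _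
    obtain ⟨r, hr, c, rfl⟩ := exists_eq R n z hz
    refine add_mem (Submodule.mem_sup_left (hR' r hr)) (Ideal.sum_mem _ fun i _ => Ideal.mul_mem_left _ _ ?_)
    have h1 : e₂ (MvPowerSeries.X i) ∈ mP.map e₂.toRingHom ⊔ mP • mP :=
      Submodule.mem_sup_left (Ideal.mem_map_of_mem e₂.toRingHom (X_mem R n i))
    have h2 := sub_mem h1 (hle₂ (hJ i))
    rwa [sub_sub_cancel] at h2
  haveI : IsHausdorff (mP.map e₂.toRingHom) (MvPowerSeries (Fin n) R.carrier) :=
    hmap₂.symm ▸ (inferInstance : IsHausdorff mP (MvPowerSeries (Fin n) R.carrier))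
  have hsurj₂ : Function.Surjective e₂ :=
    surjective_of_mk_map_comp_surjective (I := mP) (f := e₂.toRingHom) fun z => by
      obtain ⟨b, rfl⟩ := Ideal.Quotient.mk_surjective z
      refine ⟨algebraMap R.carrier _ (MvPowerSeries.constantCoeff b), Ideal.Quotient.eq.2 ?_⟩
      rw [hmap₂, show e₂.toRingHom (algebraMap R.carrier _ (MvPowerSeries.constantCoeff b)) =
        algebraMap R.carrier _ (MvPowerSeries.constantCoeff b) from e₂.commutes _]
      refine CohenLib.mem_maximalIdeal_mvPowerSeries_iff.2 ?_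
      simp [MvPowerSeries.algebraMap_apply]
  have hb₂ := S6277.result e₂.toRingHom hsurj₂
  have hinj : Function.Injective φ := fun a b h => hb₂.1 (congrArg gR h)
  exact ⟨n, ⟨(AlgEquiv.ofBijective φ ⟨hinj, hsurj⟩).symm⟩⟩

end Groth.Agent.ArtFunLib.VersalPS
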